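import Groth.Agent.Models.K364.EMod

/-!
# Bad points: local rings and finiteness
-/

set_option autoImplicit false
set_option linter.dupNamespace false
set_option linter.unusedSectionVars false
universe u

open CategoryTheory CategoryTheory.Limits AlgebraicGeometry IsLocalRing

namespace Groth.Agent.Models.K364.BadFin

open Delta StalkAut EMod LAcc Dat

/-! ### the locus where an ideal is principal -/

theorem isPrincipal_of_forall {B S : Type*} [CommRing B] [CommRing S] (γ : B →+* S) {I : Ideal B} {s a : B}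
    (hs : IsUnit (γ s)) (ha : a ∈ I) (h : ∀ x ∈ I, ∃ c, s * x = c * a) : (I.map γ).IsPrincipal := by
  refine ⟨γ a, ?_⟩
  change I.map γ = Ideal.span {γ a}
  apply le_antisymm
  · rw [Ideal.map_le_iff_le_comap]
    intro x hx
    rw [Ideal.mem_comap]
    obtain ⟨c, hc⟩ := h x hx
    rw [← Ideal.unit_mul_mem_iff_mem _ hs, ← map_mul, hc, map_mul]
    exact Ideal.mul_mem_left _ _ (Ideal.mem_span_singleton_self _)
  · rw [Ideal.span_singleton_le_iff_mem]
    exact Ideal.mem_map_of_mem γ ha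

theorem exists_of_isPrincipal {B S : Type*} [CommRing B] [CommRing S] [Algebra B S] (q : Ideal B) [q.IsPrime]
    [IsLocalization.AtPrime S q] {I : Ideal B} (hI : I.FG) (h : (I.map (algebraMap B S)).IsPrincipal) :
    ∃ s ∉ q, ∃ a ∈ I, ∀ x ∈ I, ∃ c, s * x = c * a := by
  obtain ⟨g, hg⟩ := h
  replace hg : I.map (algebraMap B S) = Ideal.span {g} := hg
  have hgm : g ∈ I.map (algebraMap B S) := by rw [hg]; exact Ideal.mem_span_singleton_self g
  rw [IsLocalization.mem_map_algebraMap_iff q.primeCompl] at hgm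
  obtain ⟨⟨⟨a, ha⟩, ⟨s0, hs0⟩⟩, hga⟩ := hgm
  replace hga : g * algebraMap B S s0 = algebraMap B S a := hga
  have hs0u : IsUnit (algebraMap B S s0) := IsLocalization.map_units S (⟨s0, hs0⟩ : q.primeCompl)
  have hspan : I.map (algebraMap B S) = Ideal.span {algebraMap B S a} := by
    rw [hg, ← hga, mul_comm, Ideal.span_singleton_mul_left_unit hs0u]
  have key : ∀ x ∈ I, ∃ s ∉ q, ∃ c, s * x = c * a := by
    intro x hx
    have h1 : algebraMap B S x ∈ Ideal.span {algebraMap B S a} := by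
      rw [← hspan]; exact Ideal.mem_map_of_mem _ hx
    obtain ⟨r, hr⟩ := Ideal.mem_span_singleton'.1 h1
    obtain ⟨⟨c, ⟨s, hs⟩⟩, hcs⟩ := IsLocalization.surj q.primeCompl r
    replace hcs : r * algebraMap B S s = algebraMap B S c := hcs
    have h2 : algebraMap B S (s * x) = algebraMap B S (c * a) := by
      rw [map_mul, map_mul, ← hcs, ← hr]; ring
    rw [IsLocalization.eq_iff_exists q.primeCompl] at h2
    obtain ⟨⟨v, hv⟩, h3⟩ := h2
    refine ⟨v * s, fun hvs => ?_, v * c, ?_⟩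
    · rcases Ideal.IsPrime.mem_or_mem ‹q.IsPrime› hvs with h | h
      · exact hv h
      · exact hs h
    · rw [mul_assoc, mul_assoc]; exact h3
  classical
  obtain ⟨T, rfl⟩ := hI
  have hk : ∀ T' : Finset B, T' ⊆ T → ∃ s ∉ q, ∀ x ∈ T', ∃ c, s * x = c * a := by
    intro T'
    induction T' using Finset.induction_on with
    | empty =>
      intro _
      exact ⟨1, (Ideal.ne_top_iff_one q).1 (Ideal.IsPrime.ne_top ‹_›), fun x hx => absurd hx (Finset.notMem_empty _)⟩
    | insert y T' _ ih =>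
      intro hT
      obtain ⟨s, hs, h1⟩ := ih (fun z hz => hT (Finset.mem_insert_of_mem hz))
      obtain ⟨s', hs', c', h2⟩ := key y (Ideal.subset_span (hT (Finset.mem_insert_self _ _)))
      refine ⟨s * s', fun h => ?_, fun x hx => ?_⟩
      · rcases Ideal.IsPrime.mem_or_mem ‹q.IsPrime› h with h | h
        · exact hs h
        · exact hs' h
      · rcases Finset.mem_insert.1 hx with rfl | hx
        · exact ⟨s * c', by rw [mul_assoc, h2, mul_assoc]⟩
        · obtain ⟨c, hc⟩ := h1 x hx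
          exact ⟨s' * c, by rw [mul_comm s, mul_assoc, hc, mul_assoc]⟩
  obtain ⟨s, hs, h1⟩ := hk T subset_rfl
  refine ⟨s, hs, a, ha, fun x hx => ?_⟩
  refine Submodule.span_induction (p := fun x _ => ∃ c, s * x = c * a) ?_ ?_ ?_ ?_ hx
  · exact fun x hx => h1 x hx
  · exact ⟨0, by simp⟩
  · rintro x y _ _ ⟨c, hc⟩ ⟨d, hd⟩
    exact ⟨c + d, by rw [mul_add, hc, hd, add_mul]⟩
  · rintro r x _ ⟨c, hc⟩
    exact ⟨r * c, by rw [smul_eq_mul, mul_left_comm, hc, mul_assoc]⟩

/-! ### the ideal of the fixed locus -/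

section Fix

variable {Z : Scheme.{u}} {τ : Z ⟶ Z} {W U : Z.Opens} (hUW : U ≤ W) (hUτ : U ≤ τ ⁻¹ᵁ W)

/-- The ideal of the fixed locus. -/
noncomputable def fixIdeal : Ideal Γ(Z, U) :=
  Ideal.span (Set.range fun c : Γ(Z, W) => (τ.appLE W U hUτ).hom c - (Z.presheaf.map (homOfLE hUW).op).hom c)

theorem IsSA.germ {z : Z} {t} (ht : IsSA τ z t) (hz : z ∈ U) (c : Γ(Z, W)) :
    t (Z.presheaf.germ W z (hUW hz) c) = Z.presheaf.germ U z hz ((τ.appLE W U hUτ).hom c) := by
  have hs : z ⤳ τ z := by rw [ht.apply_eq]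
  have h1 : (t : Z.presheaf.stalk z →+* Z.presheaf.stalk z).comp (Z.presheaf.stalkSpecializes hs).hom =
      (τ.stalkMap z).hom := by
    apply hom_ext
    have e2 : Spec.map (CommRingCat.ofHom ((t : Z.presheaf.stalk z →+* Z.presheaf.stalk z).comp
        (Z.presheaf.stalkSpecializes hs).hom)) =
        Spec.map (CommRingCat.ofHom (t : Z.presheaf.stalk z →+* Z.presheaf.stalk z)) ≫
          Spec.map (Z.presheaf.stalkSpecializes hs) :=
      Spec.map_comp (Z.presheaf.stalkSpecializes hs)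
        (CommRingCat.ofHom (t : Z.presheaf.stalk z →+* Z.presheaf.stalk z))
    rw [e2, Category.assoc, Scheme.SpecMap_stalkSpecializes_fromSpecStalk, ht]
    exact (Scheme.SpecMap_stalkMap_fromSpecStalk τ).symm
  have hW : τ z ∈ W := by rw [ht.apply_eq]; exact hUW hz
  have h2 : Z.presheaf.germ W z (hUW hz) c =
      (Z.presheaf.stalkSpecializes hs).hom (Z.presheaf.germ W (τ z) hW c) :=
    (TopCat.Presheaf.germ_stalkSpecializes_apply Z.presheaf hW hs c).symm
  have h3 := congrArg (fun φ : Z.presheaf.stalk (τ z) →+* Z.presheaf.stalk z => φ (Z.presheaf.germ W (τ z) hW c)) h1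
  refine (congrArg t h2).trans (h3.trans ?_)
  change (τ.stalkMap z).hom (Z.presheaf.germ W (τ z) hW c) = _
  have h4 := Scheme.Hom.germ_stalkMap_apply τ W z hW c
  refine h4.trans ?_
  rw [Scheme.Hom.appLE]
  exact (TopCat.Presheaf.germ_res_apply Z.presheaf (homOfLE hUτ) z hz _).symm

theorem map_fixIdeal (hW : IsAffineOpen W) {z : Z} {t} (ht : IsSA τ z t) (hz : z ∈ U) :
    (fixIdeal hUW hUτ).map (Z.presheaf.germ U z hz).hom = fixI t := by
  have hres : ∀ c, (Z.presheaf.germ U z hz).hom ((Z.presheaf.map (homOfLE hUW).op).hom c) =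
      Z.presheaf.germ W z (hUW hz) c := fun c =>
    TopCat.Presheaf.germ_res_apply Z.presheaf (homOfLE hUW) z hz c
  have hgen : ∀ c : Γ(Z, W), t (Z.presheaf.germ W z (hUW hz) c) - Z.presheaf.germ W z (hUW hz) c ∈
      (fixIdeal hUW hUτ).map (Z.presheaf.germ U z hz).hom := by
    intro c
    rw [IsSA.germ hUW hUτ ht hz c, ← hres, ← map_sub]
    exact Ideal.mem_map_of_mem _ (Ideal.subset_span ⟨c, rfl⟩)
  apply le_antisymm
  · rw [Ideal.map_le_iff_le_comap, fixIdeal, Ideal.span_le]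
    rintro _ ⟨c, rfl⟩
    rw [SetLike.mem_coe, Ideal.mem_comap, map_sub, hres]
    have h1 : (Z.presheaf.germ U z hz).hom ((τ.appLE W U hUτ).hom c) =
        t (Z.presheaf.germ W z (hUW hz) c) := (IsSA.germ hUW hUτ ht hz c).symm
    rw [h1]
    exact sub_mem_fixI t _
  · rw [fixI, Ideal.span_le]
    rintro _ ⟨a, rfl⟩
    rw [SetLike.mem_coe]
    let := Z.presheaf.algebra_section_stalk (⟨z, hUW hz⟩ : W)
    have hloc : IsLocalization.AtPrime (Z.presheaf.stalk z) (hW.primeIdealOf ⟨z, hUW hz⟩).asIdeal :=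
      hW.isLocalization_stalk ⟨z, hUW hz⟩
    obtain ⟨⟨c, ⟨s, hs⟩⟩, hcs⟩ := IsLocalization.surj (hW.primeIdealOf ⟨z, hUW hz⟩).asIdeal.primeCompl a
    have hsu : IsUnit (Z.presheaf.germ W z (hUW hz) s) :=
      IsLocalization.map_units (Z.presheaf.stalk z)
        (⟨s, hs⟩ : (hW.primeIdealOf ⟨z, hUW hz⟩).asIdeal.primeCompl)
    replace hcs : a * Z.presheaf.germ W z (hUW hz) s = Z.presheaf.germ W z (hUW hz) c := hcs
    have hts : IsUnit (t (Z.presheaf.germ W z (hUW hz) s)) := (MulEquiv.isUnit_map t).2 hsu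
    rw [← Ideal.mul_unit_mem_iff_mem _ hts]
    have e : (t a - a) * t (Z.presheaf.germ W z (hUW hz) s) =
        (t (Z.presheaf.germ W z (hUW hz) c) - Z.presheaf.germ W z (hUW hz) c) -
          a * (t (Z.presheaf.germ W z (hUW hz) s) - Z.presheaf.germ W z (hUW hz) s) := by
      rw [← hcs, map_mul]; ring
    rw [e]
    exact Ideal.sub_mem _ (hgen c) (Ideal.mul_mem_left _ _ (hgen s))

theorem apply_eq_of_ne_top (hW : IsAffineOpen W) {z : Z} (hz : z ∈ U)
    (h : (fixIdeal hUW hUτ).map (Z.presheaf.germ U z hz).hom ≠ ⊤) : τ z = z := by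
  have hle := le_maximalIdeal h
  have hres : ∀ c, (Z.presheaf.germ U z hz).hom ((Z.presheaf.map (homOfLE hUW).op).hom c) =
      Z.presheaf.germ W z (hUW hz) c := fun c =>
    TopCat.Presheaf.germ_res_apply Z.presheaf (homOfLE hUW) z hz c
  have hgen : ∀ c : Γ(Z, W), (Z.presheaf.germ U z hz).hom ((τ.appLE W U hUτ).hom c) -
      Z.presheaf.germ W z (hUW hz) c ∈ maximalIdeal (Z.presheaf.stalk z) := by
    intro c
    apply hle
    rw [← hres, ← map_sub]
    exact Ideal.mem_map_of_mem _ (Ideal.subset_span ⟨c, rfl⟩)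
  have hτz : τ z ∈ W := hUτ hz
  have h4 : ∀ c : Γ(Z, W), (τ.stalkMap z).hom (Z.presheaf.germ W (τ z) hτz c) =
      (Z.presheaf.germ U z hz).hom ((τ.appLE W U hUτ).hom c) := by
    intro c
    refine (Scheme.Hom.germ_stalkMap_apply τ W z hτz c).trans ?_
    rw [Scheme.Hom.appLE]
    exact (TopCat.Presheaf.germ_res_apply Z.presheaf (homOfLE hUτ) z hz _).symm
  -- compare units
  have hiff : ∀ c : Γ(Z, W), IsUnit (Z.presheaf.germ W (τ z) hτz c) ↔ IsUnit (Z.presheaf.germ W z (hUW hz) c) := by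
    intro c
    have h5 : IsUnit (Z.presheaf.germ W (τ z) hτz c) ↔
        IsUnit ((Z.presheaf.germ U z hz).hom ((τ.appLE W U hUτ).hom c)) := by
      rw [← h4]
      exact (isUnit_map_iff (τ.stalkMap z).hom _).symm
    rw [h5]
    have h6 := hgen c
    have h7 : (Z.presheaf.germ U z hz).hom ((τ.appLE W U hUτ).hom c) ∈ maximalIdeal (Z.presheaf.stalk z) ↔
        Z.presheaf.germ W z (hUW hz) c ∈ maximalIdeal (Z.presheaf.stalk z) :=
      ⟨fun h => by
        have := Ideal.sub_mem _ h h6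
        simpa using this, fun h => by
        have := Ideal.add_mem _ h6 h
        simpa using this⟩
    rw [mem_maximalIdeal, mem_maximalIdeal, mem_nonunits_iff, mem_nonunits_iff, not_iff_not] at h7
    exact h7
  have hpr : ∀ (w : Z) (hw : w ∈ W) (c : Γ(Z, W)), c ∈ (hW.primeIdealOf ⟨w, hw⟩).asIdeal ↔
      ¬ IsUnit (Z.presheaf.germ W w hw c) := by
    intro w hw c
    let := Z.presheaf.algebra_section_stalk (⟨w, hw⟩ : W)
    have hloc : IsLocalization.AtPrime (Z.presheaf.stalk w) (hW.primeIdealOf ⟨w, hw⟩).asIdeal :=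
      hW.isLocalization_stalk ⟨w, hw⟩
    have h8 := IsLocalization.AtPrime.isUnit_to_map_iff (Z.presheaf.stalk w) (hW.primeIdealOf ⟨w, hw⟩).asIdeal c
    have h9 : IsUnit (Z.presheaf.germ W w hw c) ↔ c ∈ (hW.primeIdealOf ⟨w, hw⟩).asIdeal.primeCompl := h8
    rw [h9]
    exact not_not.symm
  have h10 : hW.primeIdealOf ⟨τ z, hτz⟩ = hW.primeIdealOf ⟨z, hUW hz⟩ := by
    apply PrimeSpectrum.ext
    ext c
    rw [hpr, hpr, not_iff_not]
    exact hiff c
  have h11 := hW.fromSpec_primeIdealOf ⟨τ z, hτz⟩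
  rw [h10, hW.fromSpec_primeIdealOf] at h11
  exact h11.symm

theorem mem_bad_iff [IsIso τ] (hW : IsAffineOpen W) {z : Z} (hz : z ∈ U) :
    z ∈ Bad τ ↔ ¬ ((fixIdeal hUW hUτ).map (Z.presheaf.germ U z hz).hom).IsPrincipal := by
  constructor
  · rintro ⟨t, ht, hn⟩
    rwa [map_fixIdeal hUW hUτ hW ht hz]
  · intro hn
    have hne : (fixIdeal hUW hUτ).map (Z.presheaf.germ U z hz).hom ≠ ⊤ := by
      intro h
      apply hn
      rw [h]
      exact ⟨1, by rw [← Ideal.span_singleton_one]⟩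
    obtain ⟨t, ht⟩ := exists_isSA (apply_eq_of_ne_top hUW hUτ hW hz hne)
    exact ⟨t, ht, by rwa [map_fixIdeal hUW hUτ hW ht hz] at hn⟩

include hUW hUτ in
theorem isClosed_bad [IsIso τ] [IsLocallyNoetherian Z] (hW : IsAffineOpen W) (hU : IsAffineOpen U) :
    IsClosed {z : U | z.1 ∈ Bad τ} := by
  rw [← isOpen_compl_iff, isOpen_iff_mem_nhds]
  rintro ⟨z, hz⟩ hzb
  have hzb' : z ∉ Bad τ := hzb
  rw [mem_bad_iff hUW hUτ hW hz, not_not] at hzb'
  have hN : IsNoetherianRing Γ(Z, U) := IsLocallyNoetherian.component_noetherian ⟨U, hU⟩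
  let := Z.presheaf.algebra_section_stalk (⟨z, hz⟩ : U)
  have hloc : IsLocalization.AtPrime (Z.presheaf.stalk z) (hU.primeIdealOf ⟨z, hz⟩).asIdeal :=
    hU.isLocalization_stalk ⟨z, hz⟩
  obtain ⟨s, hs, a, ha, h⟩ := exists_of_isPrincipal (S := Z.presheaf.stalk z) (hU.primeIdealOf ⟨z, hz⟩).asIdeal
    (I := fixIdeal hUW hUτ) (IsNoetherian.noetherian _) hzb'
  have hsz : z ∈ Z.basicOpen s := by
    rw [Scheme.mem_basicOpen'' Z s z]
    exact ⟨hz, IsLocalization.map_units (Z.presheaf.stalk z) (⟨s, hs⟩ : (hU.primeIdealOf ⟨z, hz⟩).asIdeal.primeCompl)⟩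
  refine Filter.mem_of_superset ((Z.basicOpen s).isOpen.preimage continuous_subtype_val |>.mem_nhds hsz) ?_
  rintro ⟨w, hw⟩ hws
  have hws' : w ∈ Z.basicOpen s := hws
  change w ∉ Bad τ
  rw [mem_bad_iff hUW hUτ hW hw, not_not]
  rw [Scheme.mem_basicOpen'' Z s w] at hws'
  obtain ⟨_, hu⟩ := hws'
  exact isPrincipal_of_forall _ hu ha h

end Fix

variable {R : Type u} [CommRing R] [IsDomain R] [IsDiscreteValuationRing R]
  {C : Scheme.{u}} {f : C ⟶ Spec (CommRingCat.of (FractionRing R))} {σ : C ⟶ C}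

theorem isPrincipal_of_dim_le {A : Type u} [CommRing A] (hA : IsRegularLocalRing A) (h : ringKrullDim A ≤ 1)
    (I : Ideal A) : I.IsPrincipal := by
  obtain ⟨_, _⟩ := Resolve.K375.Geo.valuationRing_of_regular A h
  exact IsBezout.isPrincipal_of_FG I (IsNoetherian.noetherian I)

theorem dim_eq_two (hdim : ∀ c : C, ringKrullDim (C.presheaf.stalk c) ≤ 1) {Z : Scheme.{u}}
    {p : Z ⟶ Spec (CommRingCat.of R)} {τ : Z ⟶ Z} (h : EM f σ p τ) {x : Z} (hx : x ∈ Bad τ) :
    ringKrullDim (Z.presheaf.stalk x) = 2 := by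
  obtain ⟨t, ht, hn⟩ := hx
  have hreg := h.reg x
  have h1 := RMSing.ringKrullDim_stalk_le_two f h.isM hdim x
  obtain ⟨d, hd⟩ := Groth.Agent.CalgA.RegBasic.ringKrullDim_eq_natCast (Z.presheaf.stalk x)
  rw [hd] at h1 ⊢
  have h2 : ¬ (d : WithBot ℕ∞) ≤ 1 := fun h3 => hn (isPrincipal_of_dim_le hreg (hd ▸ h3) _)
  have h1' : d ≤ 2 := by exact_mod_cast h1
  have h2' : ¬ d ≤ 1 := fun h3 => h2 (by exact_mod_cast h3)
  have : d = 2 := by omega
  rw [this]
  rfl

theorem isClosed_singleton (hdim : ∀ c : C, ringKrullDim (C.presheaf.stalk c) ≤ 1) {Z : Scheme.{u}}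
    {p : Z ⟶ Spec (CommRingCat.of R)} {τ : Z ⟶ Z} (h : EM f σ p τ) {x : Z} (hx : x ∈ Bad τ) :
    IsClosed ({x} : Set Z) :=
  Resolve.K375.Geo.isClosed_of_dim 2 (RMSing.ringKrullDim_stalk_le_two f h.isM hdim) x
    (dim_eq_two hdim h hx).ge

theorem apply_eq_closedPoint {Z : Scheme.{u}} {p : Z ⟶ Spec (CommRingCat.of R)} [IsProper p] {x : Z}
    (hx : IsClosed ({x} : Set Z)) : p x = closedPoint R := by
  have h1 : IsClosed (p '' {x}) := p.isClosedMap _ hx
  rw [Set.image_singleton] at h1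
  exact (PrimeSpectrum.isClosed_singleton_iff_isMaximal _).1 h1 |> fun hm =>
    PrimeSpectrum.ext (IsLocalRing.eq_maximalIdeal hm)

theorem finite_bad (hdim : ∀ c : C, ringKrullDim (C.presheaf.stalk c) ≤ 1) {Z : Scheme.{u}}
    {p : Z ⟶ Spec (CommRingCat.of R)} {τ : Z ⟶ Z} (h : EM f σ p τ) : (Bad τ).Finite := by
  have := h.proper
  have hln := h.isLocallyNoetherian
  have hiso := h.isIso
  have hcs : CompactSpace Z := (quasiCompact_iff_compactSpace (f := p)).1 inferInstance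
  have hN : IsNoetherian Z := ⟨⟩
  have hNs : TopologicalSpace.NoetherianSpace Z := inferInstance
  have key : ∀ (S : Set Z), (∀ x ∈ S, ∃ N ∈ nhds x, (Bad τ ∩ N).Finite) → (Bad τ ∩ S).Finite := by
    intro S hS
    have hc : IsCompact S := TopologicalSpace.NoetherianSpace.isCompact S
    refine hc.induction_on (p := fun S => (Bad τ ∩ S).Finite) (by simp) (fun s t hst ht => ?_) (fun s t hs ht => ?_)
      (fun x hx => ?_)
    · exact ht.subset (Set.inter_subset_inter_right _ hst)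
    · rw [Set.inter_union_distrib_left]
      exact hs.union ht
    · obtain ⟨N, hN, hfin⟩ := hS x hx
      exact ⟨N, mem_nhdsWithin_of_mem_nhds hN, hfin⟩
  rw [← Set.inter_univ (Bad τ)]
  apply key
  intro x _
  obtain ⟨_, ⟨W, hW, rfl⟩, hxW, -⟩ := Z.isBasis_affineOpens.exists_subset_of_mem_open (Set.mem_univ x) isOpen_univ
  refine ⟨W, W.isOpen.mem_nhds hxW, ?_⟩
  have hsub : Bad τ ∩ W ⊆ Bad τ ∩ ((W ⊓ τ ⁻¹ᵁ W : Z.Opens) : Set Z) := by
    rintro y ⟨hy, hyW⟩
    refine ⟨hy, hyW, ?_⟩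
    obtain ⟨t, ht, -⟩ := hy
    change τ y ∈ W
    rw [ht.apply_eq]
    exact hyW
  refine (key _ ?_).subset hsub
  intro z hz
  obtain ⟨_, ⟨U, hU, rfl⟩, hzU, hUV⟩ := Z.isBasis_affineOpens.exists_subset_of_mem_open hz (W ⊓ τ ⁻¹ᵁ W).isOpen
  refine ⟨U, U.isOpen.mem_nhds hzU, ?_⟩
  have hUW : U ≤ W := fun y hy => (hUV hy).1
  have hUτ : U ≤ τ ⁻¹ᵁ W := fun y hy => (hUV hy).2
  have hcl := isClosed_bad hUW hUτ hW hU
  have hfin : {z : U | z.1 ∈ Bad τ}.Finite := by
    have h1 : TopologicalSpace.NoetherianSpace U := TopologicalSpace.NoetherianSpace.set (U : Set Z)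
    have h2 : QuasiSober U := inferInstanceAs (QuasiSober (U : Scheme.{u}))
    refine @Resolve.K375.Geo.finite_of_forall U _ h1 h2 _ hcl ?_
    intro y hy z hz hyz
    have h1 : y.1 ⤳ z.1 := hyz.map continuous_subtype_val
    have h2 := (isClosed_singleton hdim h hy)
    have h3 : z.1 ∈ ({y.1} : Set Z) := by
      rw [← h2.closure_eq]
      exact specializes_iff_mem_closure.1 h1
    exact Subtype.ext h3.symm
  refine (hfin.image Subtype.val).subset ?_
  rintro y ⟨hy, hyU⟩
  exact ⟨⟨y, hyU⟩, hy, rfl⟩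

/-! ### bad points satisfy the hypotheses of the local theory -/

theorem isAlgebraic_residue {R : Type u} [CommRing R] [IsLocalRing R] {X : Scheme.{u}}
    (p : X ⟶ Spec (CommRingCat.of R)) [LocallyOfFiniteType p] (x : X) (hx : IsClosed ({x} : Set X))
    [Algebra R (X.presheaf.stalk x)] [IsLocalHom (algebraMap R (X.presheaf.stalk x))]
    (hρ : Spec.map (CommRingCat.ofHom (algebraMap R (X.presheaf.stalk x))) = X.fromSpecStalk x ≫ p) :
    Algebra.IsAlgebraic (ResidueField R) (ResidueField (X.presheaf.stalk x)) := by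
  have h1 : IsClosedImmersion (X.fromSpecResidueField x) :=
    isClosed_singleton_iff_isClosedImmersion.1 hx
  let φ : CommRingCat.of R ⟶ X.residueField x :=
    CommRingCat.ofHom (algebraMap R (X.presheaf.stalk x)) ≫ X.residue x
  have hφ : Spec.map φ = X.fromSpecResidueField x ≫ p := by
    rw [Spec.map_comp, hρ, ← Category.assoc]
    rfl
  have h2 : LocallyOfFiniteType (Spec.map φ) := by
    rw [hφ]
    infer_instance
  have h3 : φ.hom.FiniteType := by
    rwa [HasRingHomProperty.Spec_iff (P := @LocallyOfFiniteType)] at h2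
  have h8 : (algebraMap (ResidueField R) (ResidueField (X.presheaf.stalk x))).comp (residue R) = φ.hom := by
    ext r
    rfl
  have h9 : (algebraMap (ResidueField R) (ResidueField (X.presheaf.stalk x))).FiniteType := by
    apply RingHom.FiniteType.of_comp_finiteType (f := residue R)
    rw [h8]
    exact h3
  have : Algebra.FiniteType (ResidueField R) (ResidueField (X.presheaf.stalk x)) :=
    RingHom.finiteType_algebraMap.1 h9
  have : Module.Finite (ResidueField R) (ResidueField (X.presheaf.stalk x)) :=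
    finite_of_finite_type_of_isJacobsonRing (ResidueField R) (ResidueField (X.presheaf.stalk x))
  infer_instance

theorem hyp_of_bad [PerfectField (ResidueField R)] (hdim : ∀ c : C, ringKrullDim (C.presheaf.stalk c) ≤ 1)
    {Z : Scheme.{u}} {p : Z ⟶ Spec (CommRingCat.of R)} {τ : Z ⟶ Z} (h : EM f σ p τ) {x : Z} {t}
    (ht : IsSA τ x t) (hn : ¬ (fixI t).IsPrincipal) : Hyp (Z.presheaf.stalk x) t := by
  have hbad : x ∈ Bad τ := ⟨t, ht, hn⟩
  have hproper := h.proper
  have hln := h.isLocallyNoetherian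
  have hx := isClosed_singleton hdim h hbad
  have hpx := apply_eq_closedPoint (p := p) hx
  refine ⟨h.reg x, dim_eq_two hdim h hbad, h.ord_stalk ht, ?_, hn⟩
  intro a b hab
  let ρ : CommRingCat.of R ⟶ Z.presheaf.stalk x := Spec.preimage (Z.fromSpecStalk x ≫ p)
  have hρ : Spec.map ρ = Z.fromSpecStalk x ≫ p := Spec.map_preimage _
  let _ : Algebra R (Z.presheaf.stalk x) := ρ.hom.toAlgebra
  have hρ' : Spec.map (CommRingCat.ofHom (algebraMap R (Z.presheaf.stalk x))) = Z.fromSpecStalk x ≫ p := hρ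
  have hloc : IsLocalHom (algebraMap R (Z.presheaf.stalk x)) := by
    refine ((IsLocalRing.local_hom_TFAE (algebraMap R (Z.presheaf.stalk x))).out 0 4).2 ?_
    have h0 : ∀ (w : Spec (Z.presheaf.stalk x)), (Spec.map ρ) w = p (Z.fromSpecStalk x w) := fun w => by
      rw [hρ, Scheme.Hom.comp_apply]
    have h1 : Spec.map ρ (closedPoint (Z.presheaf.stalk x)) = closedPoint R :=
      (h0 _).trans (by rw [Scheme.fromSpecStalk_closedPoint, hpx])
    exact congrArg PrimeSpectrum.asIdeal h1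
  have halg := isAlgebraic_residue p x hx hρ'
  refine fixI_eq_pair (R := R) (fun r => ht.apply_base p h.comm _ hρ' r) (fun c => ?_) hab
  by_contra hc
  rw [mem_maximalIdeal, mem_nonunits_iff, not_not] at hc
  apply hn
  have h1 : fixI t = ⊤ := Ideal.eq_top_of_isUnit_mem _ (sub_mem_fixI t c) hc
  rw [h1]
  exact ⟨1, by rw [← Ideal.span_singleton_one]⟩

end Groth.Agent.Models.K364.BadFin
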