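import Groth.Agent.Dix.PointIdeal
import Groth.Agent.Divis.BlowUpFormal
import Groth.Agent.Models.RMStep
import Groth.Agent.Divis.EffCartier

/-!
# Lifting automorphisms to the blow-up of a fixed closed point
-/

set_option autoImplicit false
set_option linter.dupNamespace false
set_option linter.unusedSectionVars false
universe u

open CategoryTheory CategoryTheory.Limits AlgebraicGeometry IsLocalRing

namespace Groth.Agent.Models.K364.BlowLift

open Groth.Agent.Dix.PointIdeal Groth.Agent.Divis.CartierBasic Groth.Agent.Divis.CartierStalk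
  Groth.Agent.Divis.EffCartier

variable {Z Z' : Scheme.{u}}

theorem stalkIdeal_pt' {x w : Z} (hx : IsClosed ({x} : Set Z)) (h : w = x) :
    stalkIdeal (pt x hx) w = maximalIdeal (Z.presheaf.stalk w) := by
  subst h
  exact stalkIdeal_pt w hx

theorem comap_pt {τ : Z ⟶ Z} [IsIso τ] {x : Z} (hx : IsClosed ({x} : Set Z)) (hτ : τ x = x) :
    (pt x hx).comap τ = pt x hx := by
  apply ext_stalkIdeal
  intro z
  rw [stalkIdeal_comap]
  by_cases hz : z = x
  · subst hz
    rw [stalkIdeal_pt' hx hτ, stalkIdeal_pt]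
    have hb : Function.Bijective (τ.stalkMap z).hom := ConcreteCategory.bijective_of_isIso (τ.stalkMap z)
    exact map_maximalIdeal_of_surjective _ hb.2
  · have h1 : τ z ≠ x := by
      intro h
      apply hz
      exact τ.homeomorph.injective (h.trans hτ.symm)
    rw [(notMem_support_iff_stalkIdeal_eq_top _ _).1 (fun h => h1 ((mem_support_pt x hx _).1 h)),
      (notMem_support_iff_stalkIdeal_eq_top _ _).1 (fun h => hz ((mem_support_pt x hx _).1 h)), Ideal.map_top]

variable {b : Z' ⟶ Z} {x : Z} (hx : IsClosed ({x} : Set Z)) (hb : BlowUp.IsBlowUp b (pt x hx))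
include hb

theorem exists_lift {τ : Z ⟶ Z} [IsIso τ] (hτ : τ x = x) : ∃ τ' : Z' ⟶ Z', τ' ≫ b = b ≫ τ := by
  refine (hb.2 Z' (b ≫ τ) ?_).exists
  rw [Scheme.IdealSheafData.comap_comp, comap_pt hx hτ]
  exact hb.1

theorem lift_unique {τ : Z ⟶ Z} [IsIso τ] (hτ : τ x = x) {h h' : Z' ⟶ Z'} (e : h ≫ b = b ≫ τ)
    (e' : h' ≫ b = b ≫ τ) : h = h' := by
  refine (hb.2 Z' (b ≫ τ) ?_).unique e e'
  rw [Scheme.IdealSheafData.comap_comp, comap_pt hx hτ]
  exact hb.1

theorem lift_unique_off {C : Scheme.{u}} {g : C ⟶ Z} (hg : ∀ c, g c ≠ x) {h h' : C ⟶ Z'} (e : h ≫ b = g)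
    (e' : h' ≫ b = g) : h = h' := by
  refine (hb.2 C g ?_).unique e e'
  have : (pt x hx).comap g = ⊤ := by
    apply ext_stalkIdeal
    intro z
    rw [stalkIdeal_comap, (notMem_support_iff_stalkIdeal_eq_top _ _).1 (fun h => hg z ((mem_support_pt x hx _).1 h)),
      Ideal.map_top]
    refine ((notMem_support_iff_stalkIdeal_eq_top _ _).1 ?_).symm
    rw [Scheme.IdealSheafData.support_top]
    exact fun h => h
  rw [this]
  exact isEff_top

theorem exists_lift_off {C : Scheme.{u}} {g : C ⟶ Z} (hg : ∀ c, g c ≠ x) : ∃ h : C ⟶ Z', h ≫ b = g := by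
  refine (hb.2 C g ?_).exists
  have : (pt x hx).comap g = ⊤ := by
    apply ext_stalkIdeal
    intro z
    rw [stalkIdeal_comap, (notMem_support_iff_stalkIdeal_eq_top _ _).1 (fun h => hg z ((mem_support_pt x hx _).1 h)),
      Ideal.map_top]
    refine ((notMem_support_iff_stalkIdeal_eq_top _ _).1 ?_).symm
    rw [Scheme.IdealSheafData.support_top]
    exact fun h => h
  rw [this]
  exact isEff_top

end Groth.Agent.Models.K364.BlowLift

namespace Groth.Agent.Models.K364.BlowLift

open Groth.Agent.Dix.PointIdeal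

variable {R : Type u} [CommRing R] [IsDomain R] [IsDiscreteValuationRing R]
  {C : Scheme.{u}} (f : C ⟶ Spec (CommRingCat.of (FractionRing R)))

include f in
omit [IsDiscreteValuationRing R] in
theorem apply_ne {Z : Scheme.{u}} {p : Z ⟶ Spec (CommRingCat.of R)} {g : C ⟶ Z} [IsLocalRing R]
    (hR : ¬ IsField R)
    (hg : g ≫ p = f ≫ Spec.map (CommRingCat.ofHom (algebraMap R (FractionRing R)))) {x : Z}
    (hpx : p x = closedPoint R) (c : C) : g c ≠ x := by
  intro hc
  have h1 : p (g c) = closedPoint R := by rw [hc, hpx]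
  have h2 : p (g c) = Spec.map (CommRingCat.ofHom (algebraMap R (FractionRing R))) (f c) := by
    rw [← Scheme.Hom.comp_apply, ← Scheme.Hom.comp_apply, hg]
  have h3 : ((Spec.map (CommRingCat.ofHom (algebraMap R (FractionRing R))) (f c)).asIdeal) = ⊥ := by
    have h4 : (f c).asIdeal = ⊥ := by
      have := (f c).isPrime
      exact (Ideal.eq_bot_or_top _).resolve_right this.ne_top
    change Ideal.comap (algebraMap R (FractionRing R)) (f c).asIdeal = ⊥
    rw [h4, ← RingHom.ker_eq_comap_bot]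
    exact (RingHom.injective_iff_ker_eq_bot _).mp (IsFractionRing.injective R (FractionRing R))
  rw [← h2, h1] at h3
  exact hR (IsLocalRing.isField_iff_maximalIdeal_eq.2 h3)

/-- The generic fibre of a blow-up in a point of the special fibre. -/
theorem exists_pullback {Z Z' : Scheme.{u}} {p : Z ⟶ Spec (CommRingCat.of R)} {g : C ⟶ Z}
    (hg : IsPullback g f p (Spec.map (CommRingCat.ofHom (algebraMap R (FractionRing R)))))
    {b : Z' ⟶ Z} {x : Z} (hx : IsClosed ({x} : Set Z)) (hpx : p x = closedPoint R)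
    (hb : BlowUp.IsBlowUp b (pt x hx)) :
    ∃ g' : C ⟶ Z', g' ≫ b = g ∧
      IsPullback g' f (b ≫ p) (Spec.map (CommRingCat.ofHom (algebraMap R (FractionRing R)))) := by
  set i := Spec.map (CommRingCat.ofHom (algebraMap R (FractionRing R))) with hi
  let U : Z.Opens := ⟨{x}ᶜ, hx.isOpen_compl⟩
  have hU : IsIso (b ∣_ U) := by
    apply Groth.Agent.Divis.BlowUpFormal.isIso_morphismRestrict_compl_support hb
    exact Set.disjoint_left.2 fun z hz hz' => hz ((mem_support_pt x hx z).1 hz')
  have hgU : ∀ c : C, g c ∈ U := fun c =>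
    apply_ne f (IsDiscreteValuationRing.not_isField R) hg.w hpx c
  let gU : C ⟶ U := IsOpenImmersion.lift U.ι g (by
    rintro _ ⟨c, rfl⟩
    rw [Scheme.Opens.range_ι]
    exact hgU c)
  have hgUι : gU ≫ U.ι = g := IsOpenImmersion.lift_fac _ _ _
  let g1 : C ⟶ b ⁻¹ᵁ U := gU ≫ inv (b ∣_ U)
  have sq1 : IsPullback g1 (𝟙 C) (b ∣_ U) gU :=
    IsPullback.of_vert_isIso ⟨by simp [g1]⟩
  have sq2 : IsPullback (b ⁻¹ᵁ U).ι (b ∣_ U) b U.ι := (isPullback_morphismRestrict b U).flip
  have sq3 := sq1.paste_horiz sq2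
  rw [hgUι] at sq3
  have sq4 := sq3.paste_vert hg
  rw [Category.id_comp] at sq4
  refine ⟨g1 ≫ (b ⁻¹ᵁ U).ι, ?_, sq4⟩
  have := sq3.w
  rw [Category.id_comp] at this
  exact this

end Groth.Agent.Models.K364.BlowLift
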