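import Groth.Agent.Models.K364.Len

/-!
# Quadratic transforms and automorphisms

`Chart φ σ σ' x y θ`: the quadratic transform `φ : A → B` with `y = x θ`, and automorphisms `σ` of `A` and `σ'` of `B`
compatible with `φ`.
-/

set_option autoImplicit false
set_option linter.dupNamespace false
set_option linter.unusedSectionVars false
universe u

open IsLocalRing

namespace Groth.Agent.Models.K364.ChartS

open Sga7.H150.Quad Delta Dat Len

/-- The quadratic transform `φ : A → B` with `y = x θ`, with compatible automorphisms. -/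
structure Chart {A B : Type*} [CommRing A] [IsLocalRing A] [CommRing B] [IsLocalRing B] (φ : A →+* B)
    (σ : A ≃+* A) (σ' : B ≃+* B) (x y : A) (θ : B) : Prop where
  inj : Function.Injective φ
  hxy : Ideal.span {x, y} = maximalIdeal A
  good : Good φ x y θ
  comm : ∀ a, σ' (φ a) = φ (σ a)

section

variable {A B : Type*} [CommRing A] [IsLocalRing A] [CommRing B] [IsLocalRing B] {φ : A →+* B}
    {σ : A ≃+* A} {σ' : B ≃+* B} {x y : A} {θ : B}

lemma exists_poly_deg {f g : A} (hfg : Ideal.span {f, g} = maximalIdeal A) {θ : B}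
    (hθ : φ g = φ f * θ) (n : ℕ) : ∀ a ∈ maximalIdeal A ^ n, ∃ P : Polynomial A, P.natDegree ≤ n ∧
      φ a = φ f ^ n * P.eval₂ φ θ := by
  induction n with
  | zero =>
    intro a _
    exact ⟨Polynomial.C a, by simp, by simp⟩
  | succ n ih =>
    intro a ha
    rw [pow_succ] at ha
    refine Submodule.mul_induction_on ha ?_ ?_
    · intro c hc d hd
      obtain ⟨P, hdeg, hP⟩ := ih c hc
      rw [← hfg, Ideal.mem_span_pair] at hd
      obtain ⟨r, s, rfl⟩ := hd
      refine ⟨P * (Polynomial.C r + Polynomial.C s * Polynomial.X), ?_, ?_⟩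
      · refine Polynomial.natDegree_mul_le.trans (add_le_add hdeg ?_)
        refine Polynomial.natDegree_add_le_of_degree_le ?_ ?_
        · simp
        · exact Polynomial.natDegree_C_mul_le s Polynomial.X |>.trans Polynomial.natDegree_X_le
      · rw [Polynomial.eval₂_mul, Polynomial.eval₂_add, Polynomial.eval₂_mul, Polynomial.eval₂_C,
          Polynomial.eval₂_C, Polynomial.eval₂_X, map_mul, hP, map_add, map_mul, map_mul, hθ]
        ring
    · rintro c d ⟨P, hPd, hP⟩ ⟨Q, hQd, hQ⟩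
      exact ⟨P + Q, Polynomial.natDegree_add_le_of_degree_le hPd hQd,
        by rw [map_add, hP, hQ, Polynomial.eval₂_add]; ring⟩

lemma Chart.apply_mem (h : Chart φ σ σ' x y θ) {a : A} (ha : a ∈ maximalIdeal A) : ∃ t, φ a = φ x * t := by
  have h1 : φ a ∈ (maximalIdeal A).map φ := Ideal.mem_map_of_mem _ ha
  rw [h.good.map] at h1
  obtain ⟨t, ht⟩ := Ideal.mem_span_singleton.1 h1
  exact ⟨t, ht⟩

variable [IsDomain A] [IsDomain B]

lemma Chart.x_ne_zero (h : Chart φ σ σ' x y θ) (hx : x ≠ 0) : φ x ≠ 0 := fun h0 =>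
  hx (h.inj (h0.trans (map_zero φ).symm))

lemma Chart.exists_unit (h : Chart φ σ σ' x y θ) (hx : x ≠ 0) : ∃ s, IsUnit s ∧ φ (σ x) = φ x * s := by
  have hxm := mem_left h.hxy
  obtain ⟨s, hs⟩ := h.apply_mem (map_mem (σ := σ) hxm)
  obtain ⟨t, ht⟩ := h.apply_mem (map_mem (σ := σ.symm) hxm)
  have h1 : φ x = φ x * (s * σ' t) := by
    have h2 : σ' (φ (σ.symm x)) = φ x := by rw [h.comm, RingEquiv.apply_symm_apply]
    rw [ht, map_mul, h.comm, hs] at h2
    rw [← mul_assoc]
    exact h2.symm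
  have h3 : s * σ' t = 1 := by
    apply mul_left_cancel₀ (h.x_ne_zero hx)
    rw [← h1, mul_one]
  exact ⟨s, IsUnit.of_mul_eq_one _ h3, hs⟩

omit [IsDomain A] [IsDomain B] in
lemma Chart.theta_eq (h : Chart φ σ σ' x y θ) :
    φ (σ x) * (σ' θ - θ) = φ (σ y - y) - θ * φ (σ x - x) := by
  have h1 : φ (σ y) = φ (σ x) * σ' θ := by
    rw [← h.comm, h.good.eq, map_mul, h.comm]
  have h2 := h.good.eq
  rw [map_sub, map_sub, h1, h2]
  ring

omit [IsDomain A] [IsDomain B] in
lemma Chart.fixI_eq (h : Chart φ σ σ' x y θ) (hgen : fixI σ = Ideal.span {σ x - x, σ y - y}) :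
    fixI σ' = Ideal.span {φ (σ x - x), σ' θ - θ} := by
  set I₀ : Ideal B := Ideal.span {φ (σ x - x), σ' θ - θ} with hI₀
  have m1 : φ (σ x - x) ∈ I₀ := Ideal.subset_span (by simp)
  have m2 : σ' θ - θ ∈ I₀ := Ideal.subset_span (by simp)
  apply le_antisymm
  · have h1 : φ (σ y - y) ∈ I₀ := by
      have e : φ (σ y - y) = φ (σ x) * (σ' θ - θ) + θ * φ (σ x - x) := by rw [h.theta_eq]; ring
      rw [e]
      exact Ideal.add_mem _ (Ideal.mul_mem_left _ _ m2) (Ideal.mul_mem_left _ _ m1)
    have h2 : ∀ a, σ' (φ a) - φ a ∈ I₀ := by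
      intro a
      rw [h.comm, ← map_sub]
      have h3 : fixI σ ≤ I₀.comap φ := by
        rw [hgen, Ideal.span_le]
        rintro _ (rfl | rfl)
        exacts [m1, h1]
      exact h3 (sub_mem_fixI σ a)
    have hadd : ∀ z w, σ' z - z ∈ I₀ → σ' w - w ∈ I₀ → σ' (z + w) - (z + w) ∈ I₀ := by
      intro z w hz hw
      have := Ideal.add_mem _ hz hw
      rw [map_add]
      convert this using 1
      ring
    have hmul : ∀ z w, σ' z - z ∈ I₀ → σ' w - w ∈ I₀ → σ' (z * w) - z * w ∈ I₀ := by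
      intro z w hz hw
      have := Ideal.add_mem _ (Ideal.mul_mem_left _ (σ' z) hw) (Ideal.mul_mem_left _ w hz)
      rw [map_mul]
      convert this using 1
      ring
    have hpow : ∀ n : ℕ, σ' (θ ^ n) - θ ^ n ∈ I₀ := by
      intro n
      induction n with
      | zero => simp
      | succ n ih =>
        rw [pow_succ]
        exact hmul _ _ ih m2
    have h4 : ∀ P : Polynomial A, σ' (P.eval₂ φ θ) - P.eval₂ φ θ ∈ I₀ := by
      intro P
      induction P using Polynomial.induction_on' with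
      | add p q hp hq =>
        rw [Polynomial.eval₂_add]
        exact hadd _ _ hp hq
      | monomial n a =>
        rw [Polynomial.eval₂_monomial]
        exact hmul _ _ (h2 a) (hpow n)
    apply fixI_le
    intro z
    obtain ⟨P, Q, hQ, hPQ⟩ := h.good.frac z
    have h5 : σ' (Q.eval₂ φ θ) * (σ' z - z) =
        (σ' (P.eval₂ φ θ) - P.eval₂ φ θ) - z * (σ' (Q.eval₂ φ θ) - Q.eval₂ φ θ) := by
      rw [hPQ, map_mul]; ring
    rw [← Ideal.unit_mul_mem_iff_mem _ (hQ.map σ'), h5]
    exact Ideal.sub_mem _ (h4 P) (Ideal.mul_mem_left _ _ (h4 Q))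
  · rw [hI₀, Ideal.span_le]
    rintro _ (rfl | rfl)
    · rw [SetLike.mem_coe, map_sub, ← h.comm]
      exact sub_mem_fixI σ' _
    · exact sub_mem_fixI σ' θ

/-- The ideal of fixed points of a quadratic transform, when `D` has order at least `r + 1`. -/
theorem Chart.fixI_pow (h : Chart φ σ σ' x y θ) (hx : x ≠ 0) {g : A} {D : A → A} (hD : Dat σ g D) (r : ℕ) {α β : B}
    (h1 : φ (D x) = φ x ^ (r + 1) * α) (h2 : φ (D y) = φ x ^ (r + 1) * β) :
    fixI σ' = Ideal.span {φ g * φ x ^ r * (φ x * α), φ g * φ x ^ r * (β - θ * α)} ∧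
      ∃ s, IsUnit s ∧ φ (σ x) = φ x * s ∧ s * (σ' θ - θ) = φ g * φ x ^ r * (β - θ * α) := by
  have hgen : fixI σ = Ideal.span {σ x - x, σ y - y} := by
    apply le_antisymm
    · apply fixI_le
      intro c
      have h3 := hD.gen x y h.hxy c
      rw [Ideal.mem_span_pair] at h3 ⊢
      obtain ⟨p, q, hpq⟩ := h3
      exact ⟨p, q, by rw [← hD.eq', ← hD.eq', ← hD.eq', ← hpq]; ring⟩
    · rw [Ideal.span_le]
      rintro _ (rfl | rfl)
      · exact sub_mem_fixI σ _
      · exact sub_mem_fixI σ _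
  obtain ⟨s, hs, hs'⟩ := h.exists_unit hx
  have h3 := h.theta_eq
  rw [← hD.eq', ← hD.eq', map_mul, map_mul, h1, h2, hs'] at h3
  have h4 : s * (σ' θ - θ) = φ g * φ x ^ r * (β - θ * α) := by
    apply mul_left_cancel₀ (h.x_ne_zero hx)
    linear_combination h3
  refine ⟨?_, s, hs, hs', h4⟩
  rw [h.fixI_eq hgen, ← hD.eq', map_mul, h1, ← h4]
  have e1 : φ g * (φ x ^ (r + 1) * α) = φ g * φ x ^ r * (φ x * α) := by ring
  rw [e1]
  apply le_antisymm
  · rw [Ideal.span_le]
    rintro _ (rfl | rfl)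
    · exact Ideal.subset_span (by simp)
    · rw [SetLike.mem_coe, ← Ideal.unit_mul_mem_iff_mem _ hs]
      exact Ideal.subset_span (by simp)
  · rw [Ideal.span_le]
    rintro _ (rfl | rfl)
    · exact Ideal.subset_span (by simp)
    · exact Ideal.mul_mem_left _ _ (Ideal.subset_span (by simp))

end

/-! ### Lengths in a quadratic transform -/

section len

variable {A B : Type u} [CommRing A] [IsLocalRing A] [CommRing B] [IsLocalRing B] {φ : A →+* B}
    {σ : A ≃+* A} {σ' : B ≃+* B} {x y : A} {θ : B}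

/-- A polynomial of degree at most `d`, nonzero modulo `𝔪`, has at most `d` zeros on the exceptional curve. -/
theorem Chart.length_le_natDegree (h : Chart φ σ σ' x y θ) (F : Polynomial A) (hF : F.map (residue A) ≠ 0) (d : ℕ)
    (hd : F.natDegree ≤ d) : Module.length B (B ⧸ Ideal.span {φ x, F.eval₂ φ θ}) ≤ d := by
  let _ : Algebra A B := φ.toAlgebra
  set K : Ideal B := Ideal.span {φ x, F.eval₂ φ θ} with hK
  have hx : φ x ∈ K := Ideal.subset_span (by simp)
  have hFK : F.eval₂ φ θ ∈ K := Ideal.subset_span (by simp)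
  have hker : ∀ P : Polynomial A, P.map (residue A) = 0 → P.eval₂ φ θ ∈ K := by
    intro P hP
    have h1 := h.good.eval_mem hP
    have h2 : Ideal.span {φ x} ≤ K := by rwa [Ideal.span_singleton_le_iff_mem]
    exact h2 h1
  let e : Fin d → (A ⧸ maximalIdeal A) →ₗ[A] (B ⧸ K) := fun i =>
    (maximalIdeal A).liftQ (LinearMap.toSpanSingleton A (B ⧸ K) (Ideal.Quotient.mk K (θ ^ (i : ℕ)))) (by
      intro a ha
      rw [LinearMap.mem_ker, LinearMap.toSpanSingleton_apply]
      have h1 : a • (Ideal.Quotient.mk K (θ ^ (i : ℕ))) = Ideal.Quotient.mk K (φ a * θ ^ (i : ℕ)) := rfl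
      rw [h1, Ideal.Quotient.eq_zero_iff_mem]
      apply Ideal.mul_mem_right
      have h2 := hker (Polynomial.C a) (by
        rw [Polynomial.map_C, (residue_eq_zero_iff a).2 ha, map_zero])
      simpa using h2)
  let ρ : (Fin d → (A ⧸ maximalIdeal A)) →ₗ[A] (B ⧸ K) := ∑ i, (e i).comp (LinearMap.proj i)
  have hρ : ∀ v : Fin d → A, ρ (fun i => Submodule.Quotient.mk (v i)) =
      Ideal.Quotient.mk K (∑ i, φ (v i) * θ ^ (i : ℕ)) := by
    intro v
    rw [LinearMap.sum_apply, map_sum]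
    rfl
  have hlen : Module.length A (LinearMap.range ρ) ≤ d := by
    refine (Module.length_le_of_surjective ρ.rangeRestrict (LinearMap.surjective_rangeRestrict ρ)).trans ?_
    rw [Module.length_pi_of_fintype]
    have : Module.length A (A ⧸ maximalIdeal A) = 1 := by
      have : IsSimpleModule A (A ⧸ maximalIdeal A) :=
        isSimpleModule_iff_isCoatom.2 (Ideal.isMaximal_def.1 inferInstance)
      exact Module.length_eq_one A _
    simp [this]
  refine length_le_of_union (R := A) (fun _ => LinearMap.range ρ) (fun _ _ _ => le_rfl) d 0 (fun _ _ => hlen) ?_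
  intro z
  obtain ⟨b, rfl⟩ := Ideal.Quotient.mk_surjective z
  obtain ⟨P, Q, hQ, hPQ⟩ := h.good.frac b
  refine ⟨0, Q.eval₂ φ θ, hQ, ?_⟩
  have h1 : Q.eval₂ φ θ • (Ideal.Quotient.mk K b) = Ideal.Quotient.mk K (P.eval₂ φ θ) := by
    rw [hPQ, map_mul]; rfl
  rw [h1]
  -- division with remainder
  obtain ⟨q, hq⟩ := Polynomial.map_surjective (residue A) residue_surjective
    (P.map (residue A) / F.map (residue A))
  let rem : Polynomial (ResidueField A) := P.map (residue A) % F.map (residue A)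
  have hrem : rem.degree < d := by
    refine lt_of_lt_of_le (Polynomial.degree_mod_lt _ hF) ?_
    refine (Polynomial.degree_map_le).trans (Polynomial.degree_le_of_natDegree_le hd)
  choose l hl using (residue_surjective (R := A))
  let v : Fin d → A := fun i => l (rem.coeff i)
  refine ⟨fun i => Submodule.Quotient.mk (v i), ?_⟩
  rw [hρ, Ideal.Quotient.eq]
  have h2 : (P - F * q - ∑ i : Fin d, Polynomial.C (v i) * Polynomial.X ^ (i : ℕ)).map (residue A) = 0 := by
    have h3 : ∑ i : Fin d, Polynomial.C (rem.coeff i) * Polynomial.X ^ (i : ℕ) = rem := by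
      rw [Fin.sum_univ_eq_sum_range (fun i => Polynomial.C (rem.coeff i) * Polynomial.X ^ i) d]
      ext n
      rw [Polynomial.finsetSum_coeff]
      simp only [Polynomial.coeff_C_mul_X_pow]
      rw [Finset.sum_ite_eq]
      split_ifs with hn
      · rfl
      · rw [Finset.mem_range, not_lt] at hn
        rw [Polynomial.coeff_eq_zero_of_degree_lt (hrem.trans_le (by exact_mod_cast hn))]
    rw [Polynomial.map_sub, Polynomial.map_sub, Polynomial.map_mul, hq, Polynomial.map_sum]
    simp only [Polynomial.map_mul, Polynomial.map_C, Polynomial.map_pow, Polynomial.map_X, v, hl]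
    rw [h3]
    have := EuclideanDomain.div_add_mod (P.map (residue A)) (F.map (residue A))
    linear_combination -this
  have h3 := hker _ h2
  rw [Polynomial.eval₂_sub, Polynomial.eval₂_sub, Polynomial.eval₂_mul, Polynomial.eval₂_finsetSum] at h3
  simp only [Polynomial.eval₂_mul, Polynomial.eval₂_C, Polynomial.eval₂_X_pow] at h3
  have h4 := Ideal.add_mem _ h3 (Ideal.mul_mem_right (q.eval₂ φ θ) _ hFK)
  rw [← neg_mem_iff]
  convert h4 using 1
  ring

lemma two_mul_choose (n : ℕ) : 2 * (n + 1).choose 2 = n * (n + 1) := by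
  induction n with
  | zero => rfl
  | succ n ih =>
    rw [Nat.choose_succ_succ' (n + 1) 1, mul_add, ih, Nat.choose_one_right]
    ring

lemma Chart.exists_of_poly (h : Chart φ σ σ' x y θ) (P : Polynomial A) :
    ∃ n, ∃ c ∈ maximalIdeal A ^ n, φ c = φ x ^ n * P.eval₂ φ θ := by
  have hx := mem_left h.hxy
  have hy := mem_right h.hxy
  induction P using Polynomial.induction_on' with
  | add p q hp hq =>
    obtain ⟨n, c, hc, e1⟩ := hp
    obtain ⟨m, d, hd, e2⟩ := hq
    refine ⟨n + m, x ^ m * c + x ^ n * d, ?_, ?_⟩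
    · refine Ideal.add_mem _ ?_ ?_
      · rw [add_comm, pow_add]
        exact Ideal.mul_mem_mul (Ideal.pow_mem_pow hx m) hc
      · rw [pow_add]
        exact Ideal.mul_mem_mul (Ideal.pow_mem_pow hx n) hd
    · rw [map_add, map_mul, map_mul, e1, e2, map_pow, map_pow, Polynomial.eval₂_add]
      ring
  | monomial n a =>
    refine ⟨n, a * y ^ n, Ideal.mul_mem_left _ _ (Ideal.pow_mem_pow hy n), ?_⟩
    rw [Polynomial.eval₂_monomial, map_mul, map_pow, h.good.eq]
    ring

variable [IsDomain B]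

/-- The multiplicity inequality for strict transforms. -/
theorem Chart.length_strict {A B : Type u} [CommRing A] [IsRegularLocalRing A] [IsDomain A]
    [UniqueFactorizationMonoid A] (hA : ringKrullDim A = 2) [CommRing B] [IsLocalRing B] [IsDomain B] {φ : A →+* B}
    {σ : A ≃+* A} {σ' : B ≃+* B} {x y : A} {θ : B}
    (h : Chart φ σ σ' x y θ) {a b : A} {α β : B} (R : ℕ) (h1 : φ a = φ x ^ R * α) (h2 : φ b = φ x ^ R * β)
    (ha : a ∈ maximalIdeal A ^ R) (hb : b ∈ maximalIdeal A ^ R)
    (hab : a ∉ maximalIdeal A ^ (R + 1) ∨ b ∉ maximalIdeal A ^ (R + 1)) (μ : ℕ)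
    (hμ : Module.length A (A ⧸ Ideal.span {a, b}) = μ) :
    R ^ 2 ≤ μ ∧ Module.length B (B ⧸ Ideal.span {α, β}) ≤ ((μ - R ^ 2 : ℕ) : ℕ∞) := by
  let _ : Algebra A B := φ.toAlgebra
  have hx0 : φ x ≠ 0 := h.x_ne_zero (ne_zero_left hA h.hxy)
  set K : Ideal B := Ideal.span {α, β} with hK
  set I : Ideal A := Ideal.span {a, b} with hI
  -- the maps `𝔪 ^ n → B / K`
  have ht : ∀ n, ∀ c : (maximalIdeal A ^ n : Ideal A), ∃ t, φ c = φ x ^ n * t := by
    intro n c
    obtain ⟨P, -, hP⟩ := exists_poly_deg h.hxy h.good.eq n c c.2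
    exact ⟨_, hP⟩
  choose t ht using ht
  let ρ : ∀ n, (maximalIdeal A ^ n : Ideal A) →ₗ[A] (B ⧸ K) := fun n =>
    { toFun := fun c => Ideal.Quotient.mk K (t n c)
      map_add' := by
        intro c d
        rw [← map_add]
        congr 1
        apply mul_left_cancel₀ (pow_ne_zero n hx0)
        rw [← ht, mul_add, ← ht, ← ht, ← map_add]
        rfl
      map_smul' := by
        intro r c
        have e : r • (Ideal.Quotient.mk K (t n c)) = Ideal.Quotient.mk K (φ r * t n c) := rfl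
        rw [RingHom.id_apply, e]
        congr 1
        apply mul_left_cancel₀ (pow_ne_zero n hx0)
        rw [← ht, mul_left_comm, ← ht, ← map_mul]
        rfl }
  have hρ : ∀ n (c : (maximalIdeal A ^ n : Ideal A)) (s : B), φ c = φ x ^ n * s → ρ n c = Ideal.Quotient.mk K s := by
    intro n c s hs
    change Ideal.Quotient.mk K (t n c) = _
    congr 1
    apply mul_left_cancel₀ (pow_ne_zero n hx0)
    rw [← ht, hs]
  have hker : ∀ p, Submodule.comap (maximalIdeal A ^ (p + R)).subtype (I * maximalIdeal A ^ p) ≤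
      LinearMap.ker (ρ (p + R)) := by
    intro p c hc
    have key : ∀ z ∈ I * maximalIdeal A ^ p, ∃ s ∈ K, φ z = φ x ^ (p + R) * s := by
      intro z hz
      refine Submodule.mul_induction_on hz ?_ ?_
      · intro j hj m hm
        obtain ⟨r, s, rfl⟩ := Ideal.mem_span_pair.1 hj
        refine ⟨(φ r * α + φ s * β) * t p ⟨m, hm⟩, Ideal.mul_mem_right _ _ (Ideal.mem_span_pair.2 ⟨_, _, rfl⟩), ?_⟩
        have e := ht p ⟨m, hm⟩
        change φ m = _ at e
        rw [map_mul, e, map_add, map_mul, map_mul, h1, h2]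
        ring
      · rintro z w ⟨s, hs, e1⟩ ⟨s', hs', e2⟩
        exact ⟨s + s', Ideal.add_mem _ hs hs', by rw [map_add, e1, e2]; ring⟩
    obtain ⟨s, hs, e⟩ := key c hc
    rw [LinearMap.mem_ker, hρ _ c s e, Ideal.Quotient.eq_zero_iff_mem]
    exact hs
  have hord : ∀ p t, t * a ∈ maximalIdeal A ^ p → t * b ∈ maximalIdeal A ^ p → t ∈ maximalIdeal A ^ (p - R) := by
    intro p t h3 h4
    rcases hab with h5 | h5
    · exact mem_of_mul_mem hA h5 h3
    · exact mem_of_mul_mem hA h5 h4
  -- the numerical estimate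
  have hnum : ∀ q, ∃ l : ℕ, Module.length A (sub (maximalIdeal A ^ (q + R + R)) (I * maximalIdeal A ^ (q + R))) = l ∧
      l + R ^ 2 ≤ μ := by
    intro q
    have hle : I * maximalIdeal A ^ (q + R) ≤ maximalIdeal A ^ (q + R + R) := by
      rw [add_comm (q + R) R, pow_add _ R (q + R)]
      apply Ideal.mul_mono_left
      rw [hI, Ideal.span_le]
      rintro z (rfl | rfl)
      exacts [ha, hb]
    have e1 := length_eq_add hle
    have e2 := length_add_le a b (maximalIdeal A ^ (q + R)) (maximalIdeal A ^ (q + R - R)) (hord (q + R))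
    rw [← hI, e1, Nat.add_sub_cancel, length_pow _ hA, length_pow _ hA, length_pow _ hA, hμ] at e2
    have hfin : Module.length A (sub (maximalIdeal A ^ (q + R + R)) (I * maximalIdeal A ^ (q + R))) ≠ ⊤ := by
      intro htop
      rw [htop, add_top, top_add, top_le_iff] at e2
      exact absurd e2 (by exact_mod_cast ENat.natCast_ne_top _)
    obtain ⟨l, hl⟩ := ENat.ne_top_iff_exists.1 hfin
    refine ⟨l, hl.symm, ?_⟩
    rw [← hl] at e2
    have e3 : (q + R + R + 1).choose 2 + l + (q + 1).choose 2 ≤ μ + ((q + R + 1).choose 2 + (q + R + 1).choose 2) := by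
      exact_mod_cast e2
    have c1 := two_mul_choose (q + R + R)
    have c2 := two_mul_choose q
    have c3 := two_mul_choose (q + R)
    nlinarith [c1, c2, c3, e3]
  have hR : R ^ 2 ≤ μ := by
    obtain ⟨l, -, hl⟩ := hnum 0
    omega
  refine ⟨hR, ?_⟩
  refine length_le_of_union (R := A) (fun n => LinearMap.range (ρ n)) ?_ _ (R + R) ?_ ?_
  · refine monotone_nat_of_le_succ fun n => ?_
    rintro _ ⟨c, rfl⟩
    refine ⟨⟨x * c, by rw [pow_succ']; exact Ideal.mul_mem_mul (mem_left h.hxy) c.2⟩, ?_⟩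
    rw [hρ (n + 1) _ (t n c) (by
      change φ (x * c) = _
      rw [map_mul, ht n c]; ring)]
    rfl
  · intro n hn
    obtain ⟨q, rfl⟩ : ∃ q, n = q + R + R := ⟨n - (R + R), by omega⟩
    obtain ⟨l, hl, hl'⟩ := hnum q
    let f : sub (maximalIdeal A ^ (q + R + R)) (I * maximalIdeal A ^ (q + R)) →ₗ[A] LinearMap.range (ρ (q + R + R)) :=
      Submodule.liftQ _ (ρ (q + R + R)).rangeRestrict (by
        intro c hc
        have := hker (q + R) hc
        rw [LinearMap.mem_ker] at this ⊢
        exact Subtype.ext this)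
    have hf : Function.Surjective f := by
      rintro ⟨_, c, rfl⟩
      exact ⟨Submodule.Quotient.mk c, rfl⟩
    refine (Module.length_le_of_surjective f hf).trans ?_
    rw [hl]
    have : l ≤ μ - R ^ 2 := by omega
    exact_mod_cast this
  · intro z
    obtain ⟨z, rfl⟩ := Ideal.Quotient.mk_surjective z
    obtain ⟨P, Q, hQ, hPQ⟩ := h.good.frac z
    obtain ⟨n, c, hc, e⟩ := h.exists_of_poly P
    refine ⟨n, Q.eval₂ φ θ, hQ, ⟨c, hc⟩, ?_⟩
    rw [hρ n ⟨c, hc⟩ _ e, hPQ, map_mul]
    rfl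

/-- When `D` has order at least two, the length drops in every quadratic transform. -/
theorem Chart.step_ge_two {A B : Type u} [CommRing A] [IsRegularLocalRing A] [IsDomain A]
    [UniqueFactorizationMonoid A] (hA : ringKrullDim A = 2) [CommRing B] [IsLocalRing B] [IsDomain B]
    [UniqueFactorizationMonoid B] {φ : A →+* B} {σ : A ≃+* A} {σ' : B ≃+* B} {x y : A} {θ : B}
    (h : Chart φ σ σ' x y θ) {g : A} {D : A → A} (hD : Dat σ g D) {g' : B} {D' : B → B} (hD' : Dat σ' g' D')
    (r : ℕ) (hr : 1 ≤ r) (hJ : J D ≤ maximalIdeal A ^ (r + 1)) (hJ' : ¬ J D ≤ maximalIdeal A ^ (r + 2)) :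
    Module.length B (B ⧸ J D') < Module.length A (A ⧸ J D) := by
  have hx0 : φ x ≠ 0 := h.x_ne_zero (ne_zero_left hA h.hxy)
  have hg0 : φ g ≠ 0 := fun h0 => hD.g0 (h.inj (h0.trans (map_zero φ).symm))
  obtain ⟨P, hPd, hP⟩ := exists_poly_deg h.hxy h.good.eq (r + 1) (D x) (hJ (mem_J D x))
  obtain ⟨Q, hQd, hQ⟩ := exists_poly_deg h.hxy h.good.eq (r + 1) (D y) (hJ (mem_J D y))
  obtain ⟨hI, -⟩ := h.fixI_pow (ne_zero_left hA h.hxy) hD r hP hQ
  obtain ⟨μ, hμ⟩ := ENat.ne_top_iff_exists.1 (hD.length_ne_top hA)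
  have hnot : D x ∉ maximalIdeal A ^ (r + 1 + 1) ∨ D y ∉ maximalIdeal A ^ (r + 1 + 1) := by
    by_contra hcon
    rw [not_or, not_not, not_not] at hcon
    apply hJ'
    rw [hD.J_eq h.hxy, Ideal.span_le]
    rintro z (rfl | rfl)
    exacts [hcon.1, hcon.2]
  obtain ⟨hR, hlen⟩ := h.length_strict hA (r + 1) hP hQ (hJ (mem_J D x)) (hJ (mem_J D y)) hnot μ (by
    rw [← hD.J_eq h.hxy, hμ])
  rw [← hμ]
  set F : Polynomial A := Q - Polynomial.X * P with hF
  have hFe : F.eval₂ φ θ = Q.eval₂ φ θ - θ * P.eval₂ φ θ := by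
    rw [hF, Polynomial.eval₂_sub, Polynomial.eval₂_mul, Polynomial.eval₂_X]
  by_cases hF0 : F.map (residue A) = 0
  · obtain ⟨γ, hγ⟩ := Ideal.mem_span_singleton.1 (h.good.eval_mem hF0)
    rw [← hFe, hγ] at hI
    have e : φ g * φ x ^ (r + 1) ≠ 0 := mul_ne_zero hg0 (pow_ne_zero _ hx0)
    have h3 := hD'.span_le_J e (p := P.eval₂ φ θ) (q := γ) (by
      rw [hI]
      congr 2 <;> ring_nf)
    have h4 : Ideal.span {P.eval₂ φ θ, Q.eval₂ φ θ} ≤ Ideal.span {P.eval₂ φ θ, γ} := by
      rw [Ideal.span_le]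
      rintro z (rfl | rfl)
      · exact Ideal.subset_span (by simp)
      · have e1 : Q.eval₂ φ θ = φ x * γ + θ * P.eval₂ φ θ := by rw [← hγ, hFe]; ring
        rw [SetLike.mem_coe, e1, Ideal.mem_span_pair]
        exact ⟨θ, φ x, by ring⟩
    refine lt_of_le_of_lt ((length_quot_mono (h4.trans h3)).trans hlen) ?_
    have : μ - (r + 1) ^ 2 < μ := by
      have : 0 < (r + 1) ^ 2 := by positivity
      omega
    exact_mod_cast this
  · have e : φ g * φ x ^ r ≠ 0 := mul_ne_zero hg0 (pow_ne_zero _ hx0)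
    rw [← hFe] at hI
    have h3 := hD'.span_le_J e hI
    have hFd : F.natDegree ≤ r + 2 := by
      rw [hF]
      refine (Polynomial.natDegree_sub_le _ _).trans (max_le (by omega) ?_)
      exact (Polynomial.natDegree_mul_le).trans (by rw [Polynomial.natDegree_X]; omega)
    have h4 := length_mul_le (φ x) (P.eval₂ φ θ) (F.eval₂ φ θ)
    have h5 := h.length_le_natDegree F hF0 (r + 2) hFd
    have h6 : Ideal.span {P.eval₂ φ θ, F.eval₂ φ θ} = Ideal.span {P.eval₂ φ θ, Q.eval₂ φ θ} := by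
      apply le_antisymm
      · rw [Ideal.span_le]
        rintro z (rfl | rfl)
        · exact Ideal.subset_span (by simp)
        · rw [SetLike.mem_coe, hFe, Ideal.mem_span_pair]
          exact ⟨-θ, 1, by ring⟩
      · rw [Ideal.span_le]
        rintro z (rfl | rfl)
        · exact Ideal.subset_span (by simp)
        · rw [SetLike.mem_coe, hFe, Ideal.mem_span_pair]
          exact ⟨θ, 1, by ring⟩
    rw [h6] at h4
    have h7 : Module.length B (B ⧸ J D') ≤ ((r + 2 : ℕ) : ℕ∞) + ((μ - (r + 1) ^ 2 : ℕ) : ℕ∞) :=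
      (length_quot_mono h3).trans (h4.trans (add_le_add h5 hlen))
    refine lt_of_le_of_lt h7 ?_
    have h8 : (r + 2) + (μ - (r + 1) ^ 2) < μ := by
      have : (r + 1) ^ 2 ≥ r + 3 := by nlinarith
      omega
    exact_mod_cast h8

end len

end Groth.Agent.Models.K364.ChartS
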