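import Groth.Agent.Sga1.QuotBasic
import Mathlib.Data.ZMod.Basic

/-!
# Actions of cyclic groups of prime order
-/

set_option autoImplicit false
set_option linter.dupNamespace false
set_option linter.unusedSectionVars false
universe u

open CategoryTheory CategoryTheory.Limits AlgebraicGeometry

namespace Groth.Agent.Models.K364.Cyc

/-- The cyclic group of order `ℓ`. -/
abbrev Gp (ℓ : ℕ) : Type u := ULift.{u} (Multiplicative (ZMod ℓ))

/-- The generator of `Gp ℓ`. -/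
def gen (ℓ : ℕ) : Gp.{u} ℓ := ⟨Multiplicative.ofAdd 1⟩

theorem card (ℓ : ℕ) : Nat.card (Gp.{u} ℓ) = ℓ := by
  rw [Nat.card_congr (Equiv.ulift.trans Multiplicative.toAdd), Nat.card_zmod]

instance (ℓ : ℕ) [NeZero ℓ] : Finite (Gp.{u} ℓ) :=
  Finite.of_equiv (ZMod ℓ) (Equiv.ulift.trans Multiplicative.toAdd).symm

theorem exists_pow (ℓ : ℕ) [NeZero ℓ] (g : Gp.{u} ℓ) : ∃ n : ℕ, g = gen ℓ ^ n := by
  obtain ⟨g⟩ := g
  refine ⟨(Multiplicative.toAdd g).val, ?_⟩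
  apply ULift.ext
  change g = Multiplicative.ofAdd ((Multiplicative.toAdd g).val • (1 : ZMod ℓ))
  rw [nsmul_one, ZMod.natCast_val, ZMod.cast_id]
  rfl

theorem mem_zpowers (ℓ : ℕ) [NeZero ℓ] (g : Gp.{u} ℓ) : g ∈ Subgroup.zpowers (gen ℓ) := by
  obtain ⟨n, rfl⟩ := exists_pow ℓ g
  exact ⟨n, by simp⟩

theorem gen_pow (ℓ : ℕ) : (gen ℓ : Gp.{u} ℓ) ^ ℓ = 1 := by
  apply ULift.ext
  change Multiplicative.ofAdd (ℓ • (1 : ZMod ℓ)) = 1
  rw [nsmul_one, CharP.cast_eq_zero]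
  rfl

theorem ind {ℓ : ℕ} [NeZero ℓ] {P : Gp.{u} ℓ → Prop} (h1 : P 1) (hm : ∀ g, P g → P (gen ℓ * g)) (g) : P g := by
  obtain ⟨n, rfl⟩ := exists_pow ℓ g
  induction n with
  | zero => rwa [pow_zero]
  | succ n ih => rw [pow_succ']; exact hm _ ih

section

variable {A : Type*} [Group A] {ℓ : ℕ}

/-- The homomorphism from the cyclic group attached to an element of order dividing `ℓ`. -/
def cyc (a : A) (h : a ^ ℓ = 1) : Gp.{u} ℓ →* A :=
  (AddMonoidHom.toMultiplicativeLeft (ZMod.lift ℓ ⟨zmultiplesHom (Additive A) (Additive.ofMul a), by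
    change ((ℓ : ℤ) • Additive.ofMul a) = 0
    rw [natCast_zsmul]
    exact congrArg Additive.ofMul h⟩)).comp MulEquiv.ulift.toMonoidHom

theorem cyc_gen (a : A) (h : a ^ ℓ = 1) : cyc.{u} a h (gen ℓ) = a := by
  have h1 : cyc.{u} a h (gen ℓ) = Additive.toMul (ZMod.lift ℓ ⟨zmultiplesHom (Additive A) (Additive.ofMul a), by
    change ((ℓ : ℤ) • Additive.ofMul a) = 0
    rw [natCast_zsmul]
    exact congrArg Additive.ofMul h⟩ ((1 : ℤ) : ZMod ℓ)) := by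
    rw [Int.cast_one]
    rfl
  rw [h1, ZMod.lift_coe]
  change (1 : ℤ) • Additive.ofMul a = _
  rw [one_zsmul]
  rfl

theorem cyc_injective (hℓ : ℓ.Prime) {a : A} (h : a ^ ℓ = 1) (ha : a ≠ 1) : Function.Injective (cyc.{u} a h) := by
  have : NeZero ℓ := ⟨hℓ.ne_zero⟩
  rw [← MonoidHom.ker_eq_bot_iff]
  have : Fact (Nat.card (Gp.{u} ℓ)).Prime := ⟨by rw [card]; exact hℓ⟩
  refine (Subgroup.eq_bot_or_eq_top_of_prime_card (cyc.{u} a h).ker).resolve_right fun htop => ha ?_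
  have h1 : gen ℓ ∈ (cyc.{u} a h).ker := by rw [htop]; trivial
  rw [MonoidHom.mem_ker, cyc_gen] at h1
  exact h1

end

theorem comp_eq {X Y : Scheme.{u}} {ℓ : ℕ} [NeZero ℓ] {τ : Aut X} (h : τ ^ ℓ = 1) {f : X ⟶ Y}
    (hf : τ.hom ≫ f = f) (g : Gp.{u} ℓ) : (cyc τ h g).hom ≫ f = f := by
  refine ind (P := fun g => (cyc τ h g).hom ≫ f = f) ?_ ?_ g
  · rw [Sga1.QuotBasic.hom_one, Category.id_comp]
  · intro g hg
    rw [Sga1.QuotBasic.hom_mul, cyc_gen, Category.assoc, hf, hg]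

/-- Compatibility of actions. -/
theorem comp_eq' {X Y : Scheme.{u}} {ℓ : ℕ} [NeZero ℓ] {τ : Aut X} (h : τ ^ ℓ = 1) {τ' : Aut Y} (h' : τ' ^ ℓ = 1)
    {f : X ⟶ Y} (hf : τ.hom ≫ f = f ≫ τ'.hom) (g : Gp.{u} ℓ) :
    (cyc τ h g).hom ≫ f = f ≫ (cyc τ' h' g).hom := by
  refine ind (P := fun g => (cyc τ h g).hom ≫ f = f ≫ (cyc τ' h' g).hom) ?_ ?_ g
  · rw [Sga1.QuotBasic.hom_one, Sga1.QuotBasic.hom_one, Category.id_comp, Category.comp_id]
  · intro g hg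
    rw [Sga1.QuotBasic.hom_mul, Sga1.QuotBasic.hom_mul, cyc_gen, cyc_gen, Category.assoc, hf, reassoc_of% hg]

end Groth.Agent.Models.K364.Cyc
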