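import Groth.Agent.Models.K364.Delta
import Groth.Agent.S5778

/-!
# The reduced difference operator of an automorphism of a two-dimensional regular local ring

`Dat σ g D`: `σ = 1 + g D`, where the values of `D` lie in the maximal ideal and have no common factor.
-/

set_option autoImplicit false
set_option linter.dupNamespace false
set_option linter.unusedSectionVars false
universe u

open IsLocalRing

namespace Groth.Agent.Models.K364.Dat

open Delta

/-- The maximal ideal of a two-dimensional regular local ring has two generators. -/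
lemma exists_generators {B : Type*} [CommRing B] [IsRegularLocalRing B] (hB : ringKrullDim B = 2) :
    ∃ x y : B, Ideal.span {x, y} = maximalIdeal B := by
  have h1 := IsRegularLocalRing.spanFinrank_maximalIdeal (R := B)
  rw [hB] at h1
  have h2 : (maximalIdeal B).spanFinrank = 2 := by exact_mod_cast h1
  have fg := (maximalIdeal B).fg_of_isNoetherianRing
  rw [← Submodule.FG.generators_ncard fg, Set.ncard_eq_two] at h2
  obtain ⟨f, g, -, h⟩ := h2
  refine ⟨f, g, ?_⟩
  rw [← h]
  exact Submodule.span_generators _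

/-- `σ = 1 + g D`, where the values of `D` lie in the maximal ideal, have no common factor, and generate an ideal
generated by the values at any two generators of the maximal ideal. -/
structure Dat {B : Type*} [CommRing B] [IsLocalRing B] (σ : B ≃+* B) (g : B) (D : B → B) : Prop where
  g0 : g ≠ 0
  eq : ∀ c, σ c = c + g * D c
  mem : ∀ c, D c ∈ maximalIdeal B
  cop : ∀ d, (∀ c, d ∣ D c) → IsUnit d
  gen : ∀ x y, Ideal.span {x, y} = maximalIdeal B → ∀ c, D c ∈ Ideal.span {D x, D y}

/-- The ideal generated by the values of `D`. -/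
def J {B : Type*} [CommRing B] (D : B → B) : Ideal B := Ideal.span (Set.range D)

lemma mem_J {B : Type*} [CommRing B] (D : B → B) (c : B) : D c ∈ J D := Ideal.subset_span ⟨c, rfl⟩

section

variable {B : Type*} [CommRing B] [IsLocalRing B] {σ : B ≃+* B} {g : B} {D : B → B}

lemma Dat.J_le (h : Dat σ g D) : J D ≤ maximalIdeal B := by
  rw [J, Ideal.span_le]
  rintro _ ⟨c, rfl⟩
  exact h.mem c

lemma Dat.J_eq (h : Dat σ g D) {x y : B} (hxy : Ideal.span {x, y} = maximalIdeal B) :
    J D = Ideal.span {D x, D y} := by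
  apply le_antisymm
  · rw [J, Ideal.span_le]
    rintro _ ⟨c, rfl⟩
    exact h.gen x y hxy c
  · rw [Ideal.span_le]
    rintro _ (rfl | rfl)
    · exact mem_J D x
    · exact mem_J D y

variable [IsDomain B]

lemma Dat.eq' (h : Dat σ g D) (c : B) : g * D c = σ c - c := by rw [h.eq]; ring

lemma Dat.add (h : Dat σ g D) (c d : B) : D (c + d) = D c + D d := by
  apply mul_left_cancel₀ h.g0
  rw [mul_add, h.eq', h.eq', h.eq', map_add]
  ring

lemma Dat.mul (h : Dat σ g D) (c d : B) : D (c * d) = c * D d + σ d * D c := by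
  apply mul_left_cancel₀ h.g0
  rw [h.eq', map_mul, h.eq d, h.eq c]
  ring

lemma Dat.mul' (h : Dat σ g D) (c d : B) : D (c * d) = c * D d + d * D c + g * D c * D d := by
  rw [h.mul, h.eq d]; ring

lemma Dat.zero (h : Dat σ g D) : D 0 = 0 := by
  apply mul_left_cancel₀ h.g0
  rw [h.eq', map_zero]
  ring

lemma Dat.one (h : Dat σ g D) : D 1 = 0 := by
  apply mul_left_cancel₀ h.g0
  rw [h.eq', map_one]
  ring

lemma Dat.neg (h : Dat σ g D) (c : B) : D (-c) = -D c := by
  apply mul_left_cancel₀ h.g0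
  rw [h.eq', map_neg, mul_neg, h.eq']
  ring

lemma Dat.sub (h : Dat σ g D) (c d : B) : D (c - d) = D c - D d := by
  rw [sub_eq_add_neg, h.add, h.neg, sub_eq_add_neg]

lemma Dat.map_J (h : Dat σ g D) {b : B} (hb : b ∈ J D) : σ b ∈ J D := by
  have h1 : J D ≤ (J D).comap (σ : B →+* B) := by
    rw [J, Ideal.span_le]
    rintro _ ⟨c, rfl⟩
    change σ (D c) ∈ J D
    rw [h.eq (D c)]
    exact Ideal.add_mem _ (mem_J D c) (Ideal.mul_mem_left _ _ (mem_J D _))
  exact h1 hb

lemma Dat.mem_pow_mul_J (h : Dat σ g D) (n : ℕ) : ∀ z ∈ maximalIdeal B ^ (n + 1), D z ∈ maximalIdeal B ^ n * J D := by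
  induction n with
  | zero =>
    intro z _
    rw [pow_zero, Ideal.one_eq_top, Ideal.top_mul]
    exact mem_J D z
  | succ n ih =>
    intro z hz
    rw [pow_succ] at hz
    refine Submodule.mul_induction_on hz ?_ ?_
    · intro c hc d hd
      rw [h.mul]
      refine Ideal.add_mem _ (Ideal.mul_mem_mul hc (mem_J D d)) ?_
      have h1 := Ideal.mul_mem_mul (map_mem (σ := σ) hd) (ih c hc)
      rwa [← mul_assoc, ← pow_succ'] at h1
    · intro c d hc hd
      rw [h.add]
      exact Ideal.add_mem _ hc hd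

lemma Dat.mem_pow (h : Dat σ g D) {n : ℕ} {z : B} (hz : z ∈ maximalIdeal B ^ n) : D z ∈ maximalIdeal B ^ n := by
  rcases Nat.eq_zero_or_pos n with rfl | hn
  · simp
  · obtain ⟨m, rfl⟩ : ∃ m, n = m + 1 := ⟨n - 1, by omega⟩
    have h1 := h.mem_pow_mul_J m z hz
    rw [pow_succ]
    exact Ideal.mul_mono_right h.J_le h1

/-- `D` is linear modulo `𝔪 ^ (n + 1)` on `𝔪 ^ n`. -/
lemma Dat.mul_sub_mem (h : Dat σ g D) {n : ℕ} (c : B) {d : B} (hd : d ∈ maximalIdeal B ^ n) :
    D (c * d) - c * D d ∈ maximalIdeal B ^ (n + 1) := by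
  rw [h.mul, add_sub_cancel_left, pow_succ]
  exact Ideal.mul_mem_mul (map_mem_pow hd) (h.mem c)

lemma Dat.mem_fixI (h : Dat σ g D) (b : B) : b ∈ fixI σ ↔ ∃ j ∈ J D, b = g * j := by
  constructor
  · intro hb
    have h1 : fixI σ ≤ Ideal.span {g} * J D := by
      apply fixI_le
      intro c
      rw [← h.eq']
      exact Ideal.mul_mem_mul (Ideal.mem_span_singleton_self _) (mem_J D c)
    obtain ⟨j, hj, e⟩ := Ideal.mem_span_singleton_mul.1 (h1 hb)
    exact ⟨j, hj, e.symm⟩
  · rintro ⟨j, hj, rfl⟩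
    have h1 : J D ≤ Submodule.comap (LinearMap.mulLeft B g) (fixI σ) := by
      rw [J, Ideal.span_le]
      rintro _ ⟨c, rfl⟩
      change g * D c ∈ fixI σ
      rw [h.eq']
      exact sub_mem_fixI σ c
    exact h1 hj

lemma Dat.J_not_principal (h : Dat σ g D) (d : B) (hd : J D ≤ Ideal.span {d}) (hd' : d ∈ J D) : False := by
  have h1 : IsUnit d := h.cop d (fun c => Ideal.mem_span_singleton.1 (hd (mem_J D c)))
  exact (mem_maximalIdeal _).1 (h.J_le hd') h1

lemma Dat.not_isPrincipal (h : Dat σ g D) : ¬ (fixI σ).IsPrincipal := by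
  rintro ⟨e, he⟩
  have he' : e ∈ fixI σ := by rw [he]; exact Submodule.mem_span_singleton_self _
  obtain ⟨j, hj, rfl⟩ := (h.mem_fixI e).1 he'
  refine h.J_not_principal j ?_ hj
  rw [J, Ideal.span_le]
  rintro _ ⟨c, rfl⟩
  have h1 : g * D c ∈ fixI σ := by rw [h.eq']; exact sub_mem_fixI σ c
  rw [he] at h1
  obtain ⟨r, hr⟩ := Submodule.mem_span_singleton.1 h1
  rw [SetLike.mem_coe, Ideal.mem_span_singleton]
  refine ⟨r, mul_left_cancel₀ h.g0 ?_⟩
  rw [← hr, smul_eq_mul]
  ring

end

section ufd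

variable {B : Type*} [CommRing B] [IsDomain B] [UniqueFactorizationMonoid B]

lemma dvd_of_forall {P : B → Prop} (hcop : ∀ d, (∀ c, P c → d ∣ c) → IsUnit d) {g t : B} (hg : g ≠ 0)
    (h : ∀ c, P c → g ∣ t * c) : g ∣ t := by
  obtain ⟨g', t', c', hrel, rfl, rfl⟩ := UniqueFactorizationMonoid.exists_reduced_factors g hg t
  have hc' : c' ≠ 0 := fun h => hg (by rw [h, zero_mul])
  have h1 : IsUnit g' := by
    apply hcop
    intro c hc
    have h2 := h c hc
    rw [mul_assoc] at h2
    have h3 := (mul_dvd_mul_iff_left hc').1 h2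
    exact hrel.dvd_of_dvd_mul_left h3
  exact mul_dvd_mul_left c' h1.dvd

variable [IsLocalRing B] {σ : B ≃+* B} {g : B} {D : B → B}

lemma Dat.dvd (h : Dat σ g D) {e t : B} (he : e ≠ 0) (ht : ∀ c, e ∣ t * D c) : e ∣ t := by
  refine dvd_of_forall (P := fun c => c ∈ Set.range D) (fun d hd => h.cop d (fun c => hd _ ⟨c, rfl⟩)) he ?_
  rintro _ ⟨c, rfl⟩
  exact ht c

/-- The relation satisfied by `D` when `σ` is of order two. -/
theorem Dat.rel2 (h : Dat σ g D) (h2 : ∀ c, σ (σ c) = c) : ∃ w, ∀ c, D (D c) = -w * D c := by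
  set u := 1 + D g with hu
  have hσg : σ g = g * u := by rw [h.eq g, hu]; ring
  have h1 : ∀ c, (1 + u) * D c = -(u * g) * D (D c) := by
    intro c
    apply mul_left_cancel₀ h.g0
    have e := h2 c
    rw [h.eq c, map_add, map_mul, hσg, h.eq c, h.eq (D c)] at e
    linear_combination e
  obtain ⟨t, ht⟩ := h.dvd h.g0 (t := 1 + u) (fun c => ⟨-u * D (D c), by rw [h1]; ring⟩)
  have huu : IsUnit u := by
    rw [← IsLocalRing.notMem_maximalIdeal]
    intro hcon
    have : (1 : B) ∈ maximalIdeal B := by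
      have e : (1 : B) = u - D g := by rw [hu]; ring
      rw [e]
      exact Ideal.sub_mem _ hcon (h.mem g)
    exact (Ideal.ne_top_iff_one _).1 (Ideal.IsPrime.ne_top') this
  obtain ⟨v, hv⟩ := huu.exists_right_inv
  refine ⟨v * t, fun c => ?_⟩
  apply mul_left_cancel₀ h.g0
  have e := h1 c
  rw [ht] at e
  linear_combination v * e - g * D (D c) * hv

/-- The relation satisfied by `D` when `σ` is of order three. -/
theorem Dat.rel3 (h : Dat σ g D) (h3 : ∀ c, σ (σ (σ c)) = c) : ∃ w w₁,
    g ^ 2 * w = 1 + (1 + D g) + (1 + D g) * σ (1 + D g) ∧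
    w₁ = (1 + D g) * (g * w + D (D g)) ∧
    ∀ c, w * D c + w₁ * D (D c) + (1 + D g) ^ 2 * σ (1 + D g) * D (D (D c)) = 0 := by
  set u := 1 + D g with hu
  have hσg : σ g = g * u := by rw [h.eq g, hu]; ring
  have hDu : D u = D (D g) := by rw [hu, h.add, h.one, zero_add]
  have hσu : σ u = u + g * D (D g) := by rw [h.eq u, hDu]
  set v := σ u with hv
  have h1 : ∀ c, (1 + u + u * v) * D c + g * (u + u * v * (1 + u)) * D (D c) +
      g ^ 2 * (u ^ 2 * v) * D (D (D c)) = 0 := by
    intro c
    apply mul_left_cancel₀ h.g0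
    have e := h3 c
    have s1 : σ (σ c) = c + g * D c + g * u * (D c + g * D (D c)) := by
      rw [h.eq c, map_add, map_mul, hσg, h.eq c, h.eq (D c)]
    simp only [s1, map_add, map_mul, hσg, ← hv, h.eq c, h.eq (D c), h.eq (D (D c))] at e
    linear_combination e
  obtain ⟨c₀, hc₀⟩ := h.dvd h.g0 (t := 1 + u + u * v) (fun c =>
    ⟨-((u + u * v * (1 + u)) * D (D c) + g * (u ^ 2 * v) * D (D (D c))), by linear_combination h1 c⟩)
  have h2 : ∀ c, c₀ * D c + (u + u * v * (1 + u)) * D (D c) + g * (u ^ 2 * v) * D (D (D c)) = 0 := by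
    intro c
    apply mul_left_cancel₀ h.g0
    have e := h1 c
    rw [hc₀] at e
    linear_combination e
  have hc1 : u + u * v * (1 + u) = g * (u * (c₀ + D (D g))) := by
    have e : u + u * v * (1 + u) = u * ((1 + u + u * v) + (v - u)) := by ring
    rw [e, hc₀, hσu]
    ring
  obtain ⟨w, hw⟩ := h.dvd h.g0 (t := c₀) (fun c =>
    ⟨-(u * (c₀ + D (D g)) * D (D c) + (u ^ 2 * v) * D (D (D c))), by
      have e := h2 c
      rw [hc1] at e
      linear_combination e⟩)
  refine ⟨w, u * (g * w + D (D g)), ?_, rfl, fun c => ?_⟩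
  · rw [hc₀, hw]; ring
  · apply mul_left_cancel₀ h.g0
    have e := h2 c
    rw [hc1, hw] at e
    linear_combination e

lemma Dat.span_le_J (h : Dat σ g D) {e p q : B} (he : e ≠ 0) (hI : fixI σ = Ideal.span {e * p, e * q}) :
    Ideal.span {p, q} ≤ J D := by
  obtain ⟨t, ht⟩ := h.dvd he (t := g) (fun c => by
    have h1 : g * D c ∈ fixI σ := by rw [h.eq']; exact sub_mem_fixI σ c
    rw [hI, Ideal.mem_span_pair] at h1
    obtain ⟨r, s, hrs⟩ := h1
    exact ⟨r * p + s * q, by rw [← hrs]; ring⟩)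
  have key : ∀ z, e * z ∈ fixI σ → z ∈ J D := by
    intro z hz
    obtain ⟨j, hj, e1⟩ := (h.mem_fixI _).1 hz
    have : z = t * j := by
      apply mul_left_cancel₀ he
      rw [e1, ht]; ring
    rw [this]
    exact Ideal.mul_mem_left _ _ hj
  rw [Ideal.span_le]
  rintro z (rfl | rfl)
  · apply key
    rw [hI]
    exact Ideal.subset_span (by simp)
  · apply key
    rw [hI]
    exact Ideal.subset_span (by simp)

end ufd

/-! ### Existence -/

/-- Two elements `σ x - x`, `σ y - y` suffice to generate the ideal of fixed points. -/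
def Gen {B : Type*} [CommRing B] [IsLocalRing B] (σ : B ≃+* B) : Prop :=
  ∀ x y, Ideal.span {x, y} = maximalIdeal B → fixI σ = Ideal.span {σ x - x, σ y - y}

theorem exists_dat_of {B : Type*} [CommRing B] [IsDomain B] [IsLocalRing B] {σ : B ≃+* B} (hgen : Gen σ) {g p q : B}
    (hg : g ≠ 0) (hI : fixI σ = Ideal.span {g * p, g * q}) (hpq : IsRelPrime p q) (hp : p ∈ maximalIdeal B)
    (hq : q ∈ maximalIdeal B) : ∃ D, Dat σ g D ∧ J D = Ideal.span {p, q} := by
  have h1 : ∀ c, ∃ d, d ∈ Ideal.span {p, q} ∧ σ c - c = g * d := by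
    intro c
    have h1 := sub_mem_fixI σ c
    rw [hI, Ideal.mem_span_pair] at h1
    obtain ⟨r, s, hrs⟩ := h1
    exact ⟨r * p + s * q, Ideal.mem_span_pair.2 ⟨r, s, rfl⟩, by rw [← hrs]; ring⟩
  choose D hD hD' using h1
  have hle : Ideal.span {p, q} ≤ maximalIdeal B := by
    rw [Ideal.span_le]
    rintro z (rfl | rfl)
    exacts [hp, hq]
  have h3 : ∀ z, g * z ∈ fixI σ → z ∈ J D := by
    have h4 : fixI σ ≤ Ideal.span {g} * J D := by
      apply fixI_le
      intro c
      rw [hD']
      exact Ideal.mul_mem_mul (Ideal.mem_span_singleton_self _) (mem_J D c)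
    intro z hz
    obtain ⟨j, hj, e⟩ := Ideal.mem_span_singleton_mul.1 (h4 hz)
    rwa [← mul_left_cancel₀ hg e]
  have h2 : J D = Ideal.span {p, q} := by
    apply le_antisymm
    · rw [J, Ideal.span_le]
      rintro _ ⟨c, rfl⟩
      exact hD c
    · rw [Ideal.span_le]
      rintro z (rfl | rfl)
      · exact h3 _ (by rw [hI]; exact Ideal.subset_span (by simp))
      · exact h3 _ (by rw [hI]; exact Ideal.subset_span (by simp))
  refine ⟨D, ⟨hg, fun c => ?_, fun c => hle (hD c), fun d hd => ?_, fun x y hxy c => ?_⟩, h2⟩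
  · rw [← hD']; ring
  · have h5 : J D ≤ Ideal.span {d} := by
      rw [J, Ideal.span_le]
      rintro _ ⟨c, rfl⟩
      exact Ideal.mem_span_singleton.2 (hd c)
    rw [h2] at h5
    exact hpq (Ideal.mem_span_singleton.1 (h5 (Ideal.subset_span (by simp))))
      (Ideal.mem_span_singleton.1 (h5 (Ideal.subset_span (by simp))))
  · have h5 := sub_mem_fixI σ c
    rw [hgen x y hxy, Ideal.mem_span_pair] at h5
    obtain ⟨r, s, hrs⟩ := h5
    rw [Ideal.mem_span_pair]
    refine ⟨r, s, mul_left_cancel₀ hg ?_⟩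
    rw [← hD', ← hrs, hD', hD']
    ring

theorem exists_dat {B : Type*} [CommRing B] [IsRegularLocalRing B] (hB : ringKrullDim B = 2)
    [IsDomain B] [UniqueFactorizationMonoid B]
    {σ : B ≃+* B} (hgen : Gen σ) (hbad : ¬ (fixI σ).IsPrincipal) : ∃ g D, Dat σ g D := by
  obtain ⟨x, y, hxy⟩ := exists_generators hB
  have hI := hgen x y hxy
  have key : ∀ p q : B, p ≠ 0 → fixI σ = Ideal.span {p, q} → ∃ g D, Dat σ g D := by
    intro p q hp hI
    obtain ⟨p', q', g, hrel, rfl, rfl⟩ := UniqueFactorizationMonoid.exists_reduced_factors p hp q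
    have hg : g ≠ 0 := fun h => hp (by rw [h, zero_mul])
    have hle : ∀ z ∈ Ideal.span {p', q'}, z ∈ maximalIdeal B := by
      intro z hz
      by_contra hcon
      rw [IsLocalRing.notMem_maximalIdeal] at hcon
      apply hbad
      refine ⟨g, ?_⟩
      rw [hI]
      apply le_antisymm
      · rw [Ideal.span_le]
        rintro _ (rfl | rfl)
        · exact Ideal.mem_span_singleton.2 ⟨_, rfl⟩
        · exact Ideal.mem_span_singleton.2 ⟨_, rfl⟩
      · rw [Submodule.span_singleton_le_iff_mem]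
        obtain ⟨v, hv⟩ := hcon.exists_right_inv
        obtain ⟨r, s, rfl⟩ := Ideal.mem_span_pair.1 hz
        rw [Ideal.mem_span_pair]
        exact ⟨v * r, v * s, by linear_combination g * hv⟩
    obtain ⟨D, hD, -⟩ := exists_dat_of hgen hg hI hrel (hle _ (Ideal.subset_span (by simp)))
      (hle _ (Ideal.subset_span (by simp)))
    exact ⟨g, D, hD⟩
  by_cases hx : σ x - x = 0
  · by_cases hy : σ y - y = 0
    · exfalso
      apply hbad
      refine ⟨0, ?_⟩
      rw [hI, hx, hy]
      simp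
    · exact key _ _ hy (by rw [hI, Set.pair_comm])
  · exact key _ _ hx hI

/-! ### Finite colength -/

section length

variable {B : Type u} [CommRing B] [IsRegularLocalRing B] (hB : ringKrullDim B = 2)
  [IsDomain B] [UniqueFactorizationMonoid B] {σ : B ≃+* B} {g : B} {D : B → B}

include hB in
lemma Dat.exists_pow_le (h : Dat σ g D) : ∃ N, maximalIdeal B ^ N ≤ J D := by
  have hrad : maximalIdeal B ≤ (J D).radical := by
    rw [Ideal.radical_eq_sInf]
    refine le_sInf ?_
    rintro P ⟨hP, hPp⟩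
    by_contra hcon
    have hne : P ≠ maximalIdeal B := fun h => hcon h.ge
    have hP0 : P ≠ ⊥ := by
      rintro rfl
      have h1 : IsUnit (0 : B) := h.cop 0 (fun c => by
        have := hP (mem_J D c)
        rw [Ideal.mem_bot] at this
        rw [this])
      exact not_isUnit_zero h1
    obtain ⟨p, hpP, hp⟩ := Ideal.IsPrime.exists_mem_prime_of_ne_bot hPp hP0
    have hpp : (Ideal.span {p}).IsPrime := (Ideal.span_singleton_prime hp.ne_zero).2 hp
    have h2 : Ideal.span {p} = P := Sga7.H150.Quad.eq_of_le hB (fun h0 => hp.ne_zero (Ideal.span_singleton_eq_bot.1 h0))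
      (by rwa [Ideal.span_singleton_le_iff_mem]) hne
    exact hp.not_isUnit (h.cop p (fun c => by
      rw [← Ideal.mem_span_singleton, h2]
      exact hP (mem_J D c)))
  obtain ⟨N, hN⟩ := Ideal.exists_radical_pow_le_of_fg (J D) ((isNoetherianRing_iff_ideal_fg B).1 inferInstance _)
  exact ⟨N, (Ideal.pow_right_mono hrad N).trans hN⟩

lemma length_pow (s : ℕ) (hB : ringKrullDim B = 2) : Module.length B (B ⧸ maximalIdeal B ^ s) = ((s + 1).choose 2 : ℕ) := by
  rcases Nat.eq_zero_or_pos s with rfl | hs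
  · rw [pow_zero, Ideal.one_eq_top]
    have : Subsingleton (B ⧸ (⊤ : Ideal B)) := Ideal.Quotient.subsingleton_iff.2 rfl
    rw [Module.length_eq_zero]
    simp
  · obtain ⟨m, rfl⟩ : ∃ m, s = m + 1 := ⟨s - 1, by omega⟩
    have h1 := (S5778.result B).1 inferInstance m
    have h2 := IsRegularLocalRing.spanFinrank_maximalIdeal (R := B)
    rw [hB, IsLocalRing.spanFinrank_maximalIdeal_eq_finrank_cotangentSpace] at h2
    have h3 : Module.finrank (ResidueField B) (CotangentSpace B) = 2 := by exact_mod_cast h2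
    rw [h1, h3]
    congr 1
    exact Nat.choose_symm_of_eq_add rfl

lemma length_quot_mono {B : Type u} [CommRing B] {I I' : Ideal B} (h : I ≤ I') :
    Module.length B (B ⧸ I') ≤ Module.length B (B ⧸ I) :=
  Module.length_le_of_surjective (Submodule.factor h) (Submodule.factor_surjective h)

include hB in
lemma Dat.length_ne_top (h : Dat σ g D) : Module.length B (B ⧸ J D) ≠ ⊤ := by
  obtain ⟨N, hN⟩ := h.exists_pow_le hB
  have h1 := length_quot_mono hN
  rw [length_pow N hB] at h1
  intro h2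
  rw [h2, top_le_iff] at h1
  exact ENat.natCast_ne_top _ h1

end length

end Groth.Agent.Models.K364.Dat
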