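import Groth.Agent.Sga7.H150.Quad
import Groth.Agent.S2821
import Mathlib.RingTheory.Length
import Mathlib.FieldTheory.Perfect
import Mathlib.FieldTheory.Separable

/-!
# The difference operator of an automorphism of a two-dimensional regular local ring

For an automorphism `σ` of a ring `B`, `fixI σ` is the ideal generated by the elements `σ b - b`.
* `fixI_eq_pair`: over a perfect field, two generators of the maximal ideal suffice.
* `Dat σ g D`: `σ = 1 + g D` with `D` without common factor.
-/

set_option autoImplicit false
universe u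

open IsLocalRing

namespace Groth.Agent.Models.K364.Delta

/-- The ideal generated by all `σ b - b`. -/
def fixI {B : Type*} [CommRing B] (σ : B ≃+* B) : Ideal B := Ideal.span (Set.range fun b => σ b - b)

section basic

variable {B : Type*} [CommRing B] (σ : B ≃+* B)

lemma sub_mem_fixI (b : B) : σ b - b ∈ fixI σ := Ideal.subset_span ⟨b, rfl⟩

variable {σ}

lemma fixI_le {I : Ideal B} (h : ∀ b, σ b - b ∈ I) : fixI σ ≤ I := by
  rw [fixI, Ideal.span_le]
  rintro _ ⟨b, rfl⟩
  exact h b

lemma apply_mem_fixI {b : B} (hb : b ∈ fixI σ) : σ b ∈ fixI σ := by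
  have h := sub_mem_fixI σ b
  have : σ b = (σ b - b) + b := by ring
  rw [this]
  exact Ideal.add_mem _ h hb

lemma map_mem [IsLocalRing B] {b : B} (hb : b ∈ maximalIdeal B) : σ b ∈ maximalIdeal B := by
  rw [mem_maximalIdeal, mem_nonunits_iff] at hb ⊢
  intro h
  apply hb
  have := h.map σ.symm
  simpa using this

lemma map_mem_pow [IsLocalRing B] {n : ℕ} {b : B} (hb : b ∈ maximalIdeal B ^ n) : σ b ∈ maximalIdeal B ^ n := by
  have h1 : (maximalIdeal B).map (σ : B →+* B) ≤ maximalIdeal B := by
    rw [Ideal.map_le_iff_le_comap]
    intro z hz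
    exact map_mem hz
  have h2 : (maximalIdeal B ^ n).map (σ : B →+* B) ≤ maximalIdeal B ^ n := by
    rw [Ideal.map_pow]
    exact Ideal.pow_right_mono h1 n
  exact h2 (Ideal.mem_map_of_mem _ hb)

end basic

/-! ### Two generators of the maximal ideal generate the ideal of fixed points -/

section gens

variable {R : Type*} [CommRing R] [IsLocalRing R] {B : Type*} [CommRing B] [IsLocalRing B] [IsNoetherianRing B]
  [Algebra R B] {σ : B ≃+* B}


omit [IsLocalRing R] [IsLocalRing B] [IsNoetherianRing B] in
lemma aeval_sub_mem (hσ : ∀ r : R, σ (algebraMap R B r) = algebraMap R B r) {I : Ideal B}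
    (h : ∀ b, σ b - b ∈ I) (b : B) (P : Polynomial R) :
    σ (Polynomial.aeval b P) - Polynomial.aeval b P - Polynomial.aeval b (Polynomial.derivative P) * (σ b - b) ∈
      I * I := by
  induction P using Polynomial.induction_on' with
  | add p q hp hq =>
    have := Ideal.add_mem _ hp hq
    rw [map_add, map_add, map_add, map_add]
    convert this using 1
    ring
  | monomial n a =>
    have key : σ b ^ n - b ^ n - (n : B) * b ^ (n - 1) * (σ b - b) ∈ I * I := by
      induction n with
      | zero => simp
      | succ n ih =>
        rcases Nat.eq_zero_or_pos n with rfl | hn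
        · simp
        · have h1 := Ideal.mul_mem_left (I * I) (σ b) ih
          have h2 : (σ b - b) * (σ b - b) ∈ I * I := Ideal.mul_mem_mul (h b) (h b)
          have h3 := Ideal.mul_mem_left (I * I) ((n : B) * b ^ (n - 1)) h2
          have := Ideal.add_mem _ h1 h3
          convert this using 1
          obtain ⟨m, rfl⟩ : ∃ m, n = m + 1 := ⟨n - 1, by omega⟩
          simp only [Nat.add_sub_cancel]
          push_cast
          ring
    rw [Polynomial.derivative_monomial, Polynomial.aeval_monomial, Polynomial.aeval_monomial, map_mul, hσ, map_pow]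
    have := Ideal.mul_mem_left (I * I) (algebraMap R B a) key
    convert this using 1
    rw [map_mul, map_natCast]
    ring

theorem fixI_eq_pair [IsLocalHom (algebraMap R B)] [PerfectField (ResidueField R)]
    [Algebra.IsAlgebraic (ResidueField R) (ResidueField B)]
    (hσ : ∀ r : R, σ (algebraMap R B r) = algebraMap R B r) (hm : ∀ b, σ b - b ∈ maximalIdeal B) {x y : B}
    (hxy : Ideal.span {x, y} = maximalIdeal B) : fixI σ = Ideal.span {σ x - x, σ y - y} := by
  set I := fixI σ with hI
  set I₀ : Ideal B := Ideal.span {σ x - x, σ y - y} with hI₀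
  have hle : I ≤ maximalIdeal B := fixI_le hm
  have hI₀le : I₀ ≤ I := by
    rw [hI₀, Ideal.span_le]
    rintro _ (rfl | rfl)
    · exact sub_mem_fixI σ _
    · exact sub_mem_fixI σ _
  have hII : I * I ≤ maximalIdeal B * I := Ideal.mul_mono_left hle
  set N : Ideal B := I₀ ⊔ maximalIdeal B • I with hN
  -- elements of the maximal ideal
  have h1 : ∀ z ∈ maximalIdeal B, σ z - z ∈ N := by
    intro z hz
    rw [← hxy, Ideal.mem_span_pair] at hz
    obtain ⟨r, s, rfl⟩ := hz
    have e : σ (r * x + s * y) - (r * x + s * y) =
        (σ r * (σ x - x) + σ s * (σ y - y)) + (x * (σ r - r) + y * (σ s - s)) := by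
      rw [map_add, map_mul, map_mul]; ring
    rw [e]
    refine Submodule.add_mem_sup ?_ ?_
    · exact Ideal.add_mem _ (Ideal.mul_mem_left _ _ (Ideal.subset_span (by simp)))
        (Ideal.mul_mem_left _ _ (Ideal.subset_span (by simp)))
    · rw [smul_eq_mul]
      exact Ideal.add_mem _ (Ideal.mul_mem_mul (Sga7.H150.Quad.mem_left hxy) (sub_mem_fixI σ _))
        (Ideal.mul_mem_mul (Sga7.H150.Quad.mem_right hxy) (sub_mem_fixI σ _))
  -- all elements
  have h2 : ∀ b, σ b - b ∈ N := by
    intro b
    have halg : IsIntegral (ResidueField R) (residue B b) :=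
      (Algebra.IsAlgebraic.isAlgebraic (R := ResidueField R) (residue B b)).isIntegral
    have hsep : (minpoly (ResidueField R) (residue B b)).Separable :=
      PerfectField.separable_of_irreducible (minpoly.irreducible halg)
    obtain ⟨P, hP⟩ := Polynomial.map_surjective (residue R) residue_surjective (minpoly (ResidueField R) (residue B b))
    have hev : ∀ Q : Polynomial R, residue B (Polynomial.aeval b Q) =
        Polynomial.aeval (residue B b) (Q.map (residue R)) := by
      intro Q
      rw [Polynomial.aeval_def, Polynomial.hom_eval₂, Polynomial.aeval_def, Polynomial.eval₂_map]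
      congr 1
    have e1 : Polynomial.aeval b P ∈ maximalIdeal B := by
      rw [← residue_eq_zero_iff, hev, hP, minpoly.aeval]
    have e2 : IsUnit (Polynomial.aeval b (Polynomial.derivative P)) := by
      by_contra hcon
      have e3 : residue B (Polynomial.aeval b (Polynomial.derivative P)) = 0 :=
        (residue_eq_zero_iff _).2 ((mem_maximalIdeal _).2 hcon)
      rw [hev, ← Polynomial.derivative_map, hP] at e3
      exact hsep.aeval_derivative_ne_zero (minpoly.aeval _ _) e3
    have e4 := aeval_sub_mem hσ (sub_mem_fixI σ) b P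
    have e5 : Polynomial.aeval b (Polynomial.derivative P) * (σ b - b) ∈ N := by
      have e6 : Polynomial.aeval b (Polynomial.derivative P) * (σ b - b) =
          (σ (Polynomial.aeval b P) - Polynomial.aeval b P) -
          (σ (Polynomial.aeval b P) - Polynomial.aeval b P -
            Polynomial.aeval b (Polynomial.derivative P) * (σ b - b)) := by ring
      rw [e6]
      refine Ideal.sub_mem _ (h1 _ e1) (Ideal.mem_sup_right ?_)
      rw [smul_eq_mul]
      exact hII e4
    exact (Ideal.unit_mul_mem_iff_mem _ e2).1 e5
  have h3 : I ≤ N := fixI_le h2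
  exact le_antisymm (Submodule.le_of_le_smul_of_le_jacobson_bot (IsNoetherian.noetherian I)
    (by rw [IsLocalRing.jacobson_eq_maximalIdeal ⊥ bot_ne_top]) h3) hI₀le

end gens

end Groth.Agent.Models.K364.Delta
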