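import Groth.Agent.Models.K364.BadFin

/-!
# Removing all bad points of an equivariant regular model
-/

set_option autoImplicit false
set_option linter.dupNamespace false
set_option linter.unusedSectionVars false
universe u

open CategoryTheory CategoryTheory.Limits AlgebraicGeometry IsLocalRing

namespace Groth.Agent.Models.K364.EInd

open Delta StalkAut EMod LAcc Dat BadFin Groth.Agent.Sga7.H150.Quad

theorem gen_of_equiv {A B : Type u} [CommRing A] [IsLocalRing A] [CommRing B] [IsLocalRing B] {s : A ≃+* A}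
    {t : B ≃+* B} (e : A ≃+* B) (he : ∀ a, e (s a) = t (e a)) (h : Gen s) : Gen t := by
  intro x y hxy
  have hm : (maximalIdeal B).map (e.symm : B →+* A) = maximalIdeal A :=
    map_maximalIdeal_of_surjective _ e.symm.surjective
  have h1 : Ideal.span {e.symm x, e.symm y} = maximalIdeal A := by
    rw [← hm, ← hxy, Ideal.map_span, Set.image_pair]
    rfl
  have h2 := h _ _ h1
  rw [← fixI_map_equiv e s t he, h2, Ideal.map_span, Set.image_pair]
  have h3 : ∀ b, (e : A →+* B) (s (e.symm b) - e.symm b) = t b - b := by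
    intro b
    rw [map_sub]
    change e (s (e.symm b)) - e (e.symm b) = _
    rw [he, e.apply_symm_apply]
  rw [h3, h3]

theorem hyp_of_equiv {A B : Type u} [CommRing A] [IsLocalRing A] [CommRing B] [IsLocalRing B] {s : A ≃+* A}
    {t : B ≃+* B} (e : A ≃+* B) (he : ∀ a, e (s a) = t (e a)) (h : Hyp A s) : Hyp B t where
  reg := by
    have := h.reg
    exact IsRegularLocalRing.of_ringEquiv e
  dim := by rw [← ringKrullDim_eq_of_ringEquiv e, h.dim]
  ord := by
    have h2 : ∀ b, t b = e (s (e.symm b)) := fun b => by rw [he, e.apply_symm_apply]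
    rcases h.ord with h3 | h3
    · left
      intro c
      simp only [h2, e.symm_apply_apply, h3, e.apply_symm_apply]
    · right
      intro c
      simp only [h2, e.symm_apply_apply, h3, e.apply_symm_apply]
  gen := gen_of_equiv e he h.gen
  bad := fun hb => h.bad ((isPrincipal_fixI_equiv e s t he).2 hb)

lemma exists_equiv_of_eq {Z : Scheme.{u}} {τ : Z ⟶ Z} {x y : Z} (h : y = x) {t} (ht : IsSA τ x t) {A : Type u}
    [CommRing A] (τA : A ≃+* A) (e : Z.presheaf.stalk x ≃+* A) (he : ∀ a, e (t a) = τA (e a)) :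
    ∃ t', IsSA τ y t' ∧ ∃ e' : Z.presheaf.stalk y ≃+* A, ∀ a, e' (t' a) = τA (e' a) := by
  subst h
  exact ⟨t, ht, e, he⟩

variable {R : Type u} [CommRing R] [IsDomain R] [IsDiscreteValuationRing R]
  {C : Scheme.{u}} {f : C ⟶ Spec (CommRingCat.of (FractionRing R))} {σ : C ⟶ C}

theorem sol_of_acc [Nonempty C] [Flat f] [PerfectField (ResidueField R)]
    (hdim : ∀ c : C, ringKrullDim (C.presheaf.stalk c) ≤ 1) (P : LA.{u}) (hP : Acc LRel P) : Sol f σ P := by
  induction hP with
  | intro P _ ih =>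
    intro Z p τ hZ x t ht hnp e he
    have hbad : x ∈ Bad τ := ⟨t, ht, hnp⟩
    have hproper := hZ.proper
    have hxc := isClosed_singleton hdim hZ hbad
    have hpx := apply_eq_closedPoint (p := p) hxc
    have hd2 := dim_eq_two hdim hZ hbad
    obtain ⟨Z1, b1, τ1, h1, hq⟩ := exists_blow hZ hxc hpx hd2 ht.apply_eq
    let T : Set Z1 := {x1 | x1 ∈ Bad τ1 ∧ b1 x1 = x}
    have hTfin : T.Finite := (finite_bad hdim h1.em).subset (fun x1 hx1 => hx1.1)
    obtain ⟨Z2, b2, τ2, h2, hb2⟩ := fin_step T.ncard Z1 (b1 ≫ p) τ1 h1.em T hTfin le_rfl (fun x1 hx1 => hx1.1)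
      (fun x1 hx1 t1 ht1 => by
        have hnp1 : ¬ (fixI t1).IsPrincipal := by
          obtain ⟨t1', ht1', hn⟩ := hx1.1
          rwa [ht1.unique ht1']
        let P1 : LA.{u} := ⟨Z1.presheaf.stalk x1, t1⟩
        refine ⟨P1, RingEquiv.refl _, fun a => rfl, ih P1 ?_⟩
        obtain ⟨t', ht', e', he'⟩ := exists_equiv_of_eq hx1.2 ht P.τ e he
        have hr : IsLocalRing (Z.presheaf.stalk (b1 x1)) := inferInstance
        refine ⟨(b1.stalkMap x1).hom.comp (e'.symm : P.A →+* Z.presheaf.stalk (b1 x1)),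
          Groth.Agent.Sga7.H150.Global.IsQuad.comp_equiv (hq x1 hx1.2) e'.symm, fun a => ?_,
          hyp_of_equiv e he (hyp_of_bad hdim hZ ht hnp), hyp_of_bad hdim h1.em ht1 hnp1⟩
        change t1 ((b1.stalkMap x1).hom (e'.symm a)) = (b1.stalkMap x1).hom (e'.symm (P.τ a))
        rw [ht'.compat b1 h1.comm ht1]
        congr 1
        rw [RingEquiv.eq_symm_apply, he', e'.apply_symm_apply])
    refine ⟨Z2, b2 ≫ b1, τ2, h1.comp h2 (fun x1 hx1 => hx1.2), ?_⟩
    intro x' hx'
    by_cases hT : b2 x' ∈ T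
    · exact hb2 x' hT
    · rw [h2.mem_bad_iff h1.em x' hT]
      intro hb
      exact hT ⟨hb, hx'⟩

/-- An equivariant regular model is dominated by one without bad points. -/
theorem exists_bad_eq_empty [Nonempty C] [Flat f] [PerfectField (ResidueField R)]
    (hdim : ∀ c : C, ringKrullDim (C.presheaf.stalk c) ≤ 1) {Z : Scheme.{u}}
    {p : Z ⟶ Spec (CommRingCat.of R)} {τ : Z ⟶ Z} (h : EM f σ p τ) :
    ∃ (Z' : Scheme.{u}) (p' : Z' ⟶ Spec (CommRingCat.of R)) (τ' : Z' ⟶ Z'), EM f σ p' τ' ∧ Bad τ' = ∅ := by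
  obtain ⟨Z1, b1, τ1, h1, hb1⟩ := fin_step (Bad τ).ncard Z p τ h (Bad τ) (finite_bad hdim h) le_rfl subset_rfl
    (fun x hx t ht => by
      let P : LA.{u} := ⟨Z.presheaf.stalk x, t⟩
      exact ⟨P, RingEquiv.refl _, fun a => rfl, sol_of_acc hdim P (acc P)⟩)
  refine ⟨Z1, b1 ≫ p, τ1, h1.em, ?_⟩
  rw [Set.eq_empty_iff_forall_notMem]
  intro z hz
  by_cases hT : b1 z ∈ Bad τ
  · exact hb1 z hT hz
  · exact hT ((h1.mem_bad_iff h z hT).1 hz)

end Groth.Agent.Models.K364.EInd
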