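import Groth.Agent.Models.K364.StalkAut
import Groth.Agent.Models.K364.BlowLift
import Groth.Agent.Resolve.K375.Geo

/-!
# Equivariant regular models and their blow-ups in bad points
-/

set_option autoImplicit false
set_option linter.dupNamespace false
set_option linter.unusedSectionVars false
universe u

open CategoryTheory CategoryTheory.Limits AlgebraicGeometry IsLocalRing

namespace Groth.Agent.Models.K364.EMod

open Delta StalkAut BlowLift LAcc Groth.Agent.Dix.PointIdeal Groth.Agent.Sga7.H150.Quad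
open Groth.Agent.Resolve.K375.Tower (Off)

variable {R : Type u} [CommRing R] [IsDomain R]
  {C : Scheme.{u}} (f : C ⟶ Spec (CommRingCat.of (FractionRing R))) (σ : C ⟶ C)

/-- Regular proper integral models with an automorphism of order dividing two or three. -/
structure EM {Z : Scheme.{u}} (p : Z ⟶ Spec (CommRingCat.of R)) (τ : Z ⟶ Z) : Prop where
  proper : IsProper p
  flat : Flat p
  integral : IsIntegral Z
  reg : ∀ z : Z, IsRegularLocalRing (Z.presheaf.stalk z)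
  comm : τ ≫ p = p
  pullback : ∃ g : C ⟶ Z, IsPullback g f p (Spec.map (CommRingCat.ofHom (algebraMap R (FractionRing R)))) ∧
    g ≫ τ = σ ≫ g
  ord : τ ≫ τ = 𝟙 Z ∨ τ ≫ τ ≫ τ = 𝟙 Z

variable {f σ}

lemma isIso_of_ord {Z : Scheme.{u}} {τ : Z ⟶ Z} (h : τ ≫ τ = 𝟙 Z ∨ τ ≫ τ ≫ τ = 𝟙 Z) : IsIso τ := by
  rcases h with h | h
  · exact ⟨⟨τ, h, h⟩⟩
  · exact ⟨⟨τ ≫ τ, h, by rw [Category.assoc]; exact h⟩⟩

lemma EM.isIso {Z : Scheme.{u}} {p : Z ⟶ Spec (CommRingCat.of R)} {τ : Z ⟶ Z} (h : EM f σ p τ) : IsIso τ :=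
  isIso_of_ord h.ord

lemma EM.isM [IsDiscreteValuationRing R] {Z : Scheme.{u}} {p : Z ⟶ Spec (CommRingCat.of R)} {τ : Z ⟶ Z}
    (h : EM f σ p τ) : RMStep.IsM f Z p :=
  ⟨h.proper, h.flat, h.integral, h.pullback.imp fun _ hg => hg.1⟩

lemma EM.isLocallyNoetherian [IsDiscreteValuationRing R] {Z : Scheme.{u}} {p : Z ⟶ Spec (CommRingCat.of R)}
    {τ : Z ⟶ Z} (h : EM f σ p τ) : IsLocallyNoetherian Z := by
  have := h.proper
  exact LocallyOfFiniteType.isLocallyNoetherian p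

lemma EM.ord_stalk {Z : Scheme.{u}} {p : Z ⟶ Spec (CommRingCat.of R)} {τ : Z ⟶ Z}
    (h : EM f σ p τ) {z : Z} {t} (ht : IsSA τ z t) : (∀ c, t (t c) = c) ∨ (∀ c, t (t (t c)) = c) := by
  rcases h.ord with h | h
  · exact Or.inl (fun c => ht.apply_two h c)
  · exact Or.inr (fun c => ht.apply_three h c)

/-- An equivariant modification of regular models. -/
structure EModif (f : C ⟶ Spec (CommRingCat.of (FractionRing R))) (σ : C ⟶ C) {Z : Scheme.{u}}
    (p : Z ⟶ Spec (CommRingCat.of R)) (τ : Z ⟶ Z) (T : Set Z) {Z' : Scheme.{u}} (b : Z' ⟶ Z) (τ' : Z' ⟶ Z') :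
    Prop where
  em : EM f σ (b ≫ p) τ'
  comm : τ' ≫ b = b ≫ τ
  off : Off T b

lemma EModif.comp {Z : Scheme.{u}} {p : Z ⟶ Spec (CommRingCat.of R)} {τ : Z ⟶ Z} {T : Set Z} {Z1 : Scheme.{u}}
    {b1 : Z1 ⟶ Z} {τ1 : Z1 ⟶ Z1} (h1 : EModif f σ p τ T b1 τ1) {T1 : Set Z1} {Z2 : Scheme.{u}} {b2 : Z2 ⟶ Z1}
    {τ2 : Z2 ⟶ Z2} (h2 : EModif f σ (b1 ≫ p) τ1 T1 b2 τ2) (h : ∀ x ∈ T1, b1 x ∈ T) :
    EModif f σ p τ T (b2 ≫ b1) τ2 where
  em := by rw [Category.assoc]; exact h2.em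
  comm := by rw [← Category.assoc, h2.comm, Category.assoc, h1.comm, Category.assoc]
  off := h1.off.comp h2.off h

lemma EModif.mono {Z : Scheme.{u}} {p : Z ⟶ Spec (CommRingCat.of R)} {τ : Z ⟶ Z} {T T' : Set Z} {Z1 : Scheme.{u}}
    {b1 : Z1 ⟶ Z} {τ1 : Z1 ⟶ Z1} (h1 : EModif f σ p τ T b1 τ1) (h : T ⊆ T') : EModif f σ p τ T' b1 τ1 where
  em := h1.em
  comm := h1.comm
  off := h1.off.mono h

lemma EModif.id {Z : Scheme.{u}} {p : Z ⟶ Spec (CommRingCat.of R)} {τ : Z ⟶ Z} (h : EM f σ p τ) (T : Set Z) :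
    EModif f σ p τ T (𝟙 Z) τ where
  em := by rw [Category.id_comp]; exact h
  comm := by rw [Category.comp_id, Category.id_comp]
  off := Off.id T

/-- Points where a modification is an isomorphism are bad iff their images are. -/
theorem mem_bad_iff {Y Z : Scheme.{u}} {τ : Z ⟶ Z} {τ' : Y ⟶ Y} [IsIso τ] [IsIso τ'] (b : Y ⟶ Z)
    (hb : τ' ≫ b = b ≫ τ) (y : Y) (hinj : ∀ y', b y' = b y → y' = y) [IsIso (b.stalkMap y)] :
    y ∈ Bad τ' ↔ b y ∈ Bad τ := by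
  have key : ∀ t t', IsSA τ (b y) t → IsSA τ' y t' → ((fixI t).IsPrincipal ↔ (fixI t').IsPrincipal) :=
    fun t t' h h' => isPrincipal_fixI_equiv (asIso (b.stalkMap y)).commRingCatIsoToRingEquiv t t'
      (fun a => (h.compat b hb h' a).symm)
  have hiff : τ' y = y ↔ τ (b y) = b y := by
    have h1 : b (τ' y) = τ (b y) := by
      rw [← Scheme.Hom.comp_apply, hb, Scheme.Hom.comp_apply]
    constructor
    · intro h
      rw [← h1, h]
    · intro h
      exact hinj _ (h1.trans h)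
  constructor
  · rintro ⟨t', ht', hn⟩
    obtain ⟨t, ht⟩ := exists_isSA (hiff.1 ht'.apply_eq)
    exact ⟨t, ht, fun h => hn ((key t t' ht ht').1 h)⟩
  · rintro ⟨t, ht, hn⟩
    obtain ⟨t', ht'⟩ := exists_isSA (hiff.2 ht.apply_eq)
    exact ⟨t', ht', fun h => hn ((key t t' ht ht').2 h)⟩

theorem EModif.mem_bad_iff {Z : Scheme.{u}} {p : Z ⟶ Spec (CommRingCat.of R)} {τ : Z ⟶ Z} (h : EM f σ p τ)
    {T : Set Z} {Z1 : Scheme.{u}} {b1 : Z1 ⟶ Z} {τ1 : Z1 ⟶ Z1} (h1 : EModif f σ p τ T b1 τ1) (z : Z1)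
    (hz : b1 z ∉ T) : z ∈ Bad τ1 ↔ b1 z ∈ Bad τ := by
  have := h.isIso
  have := h1.em.isIso
  have := h1.off.iso z hz
  refine EMod.mem_bad_iff b1 h1.comm z ?_
  intro y' hy'
  obtain ⟨w, -, hw⟩ := h1.off.bij (b1 z) hz
  rw [hw y' hy', hw z rfl]

/-- Bad points with local ring (and automorphism) `P` can be removed. -/
def Sol (f : C ⟶ Spec (CommRingCat.of (FractionRing R))) (σ : C ⟶ C) (P : LA.{u}) : Prop :=
  ∀ (Z : Scheme.{u}) (p : Z ⟶ Spec (CommRingCat.of R)) (τ : Z ⟶ Z), EM f σ p τ →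
    ∀ (x : Z) (t : Z.presheaf.stalk x ≃+* Z.presheaf.stalk x), IsSA τ x t → ¬ (fixI t).IsPrincipal →
    ∀ (e : Z.presheaf.stalk x ≃+* P.A), (∀ a, e (t a) = P.τ (e a)) →
      ∃ (Z' : Scheme.{u}) (b : Z' ⟶ Z) (τ' : Z' ⟶ Z'), EModif f σ p τ {x} b τ' ∧ ∀ x', b x' = x → x' ∉ Bad τ'

/-- Removing finitely many bad points, one after the other. -/
theorem fin_step (n : ℕ) : ∀ (Z : Scheme.{u}) (p : Z ⟶ Spec (CommRingCat.of R)) (τ : Z ⟶ Z) (_ : EM f σ p τ)
    (T : Set Z) (_ : T.Finite) (_ : T.ncard ≤ n) (_ : T ⊆ Bad τ)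
    (_ : ∀ x ∈ T, ∀ t, IsSA τ x t → ∃ (P : LA.{u}) (e : Z.presheaf.stalk x ≃+* P.A),
      (∀ a, e (t a) = P.τ (e a)) ∧ Sol f σ P),
    ∃ (Z' : Scheme.{u}) (b : Z' ⟶ Z) (τ' : Z' ⟶ Z'), EModif f σ p τ T b τ' ∧ ∀ x', b x' ∈ T → x' ∉ Bad τ' := by
  induction n with
  | zero =>
    intro Z p τ hZ T hfin hn hTb hS
    rw [Nat.le_zero, Set.ncard_eq_zero hfin] at hn
    refine ⟨Z, 𝟙 Z, τ, EModif.id hZ T, fun x' hx' => ?_⟩
    rw [hn] at hx'
    exact absurd hx' (Set.notMem_empty _)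
  | succ n ih =>
    intro Z p τ hZ T hfin hn hTb hS
    rcases Set.eq_empty_or_nonempty T with hT | ⟨x, hx⟩
    · refine ⟨Z, 𝟙 Z, τ, EModif.id hZ T, fun x' hx' => ?_⟩
      rw [hT] at hx'
      exact absurd hx' (Set.notMem_empty _)
    obtain ⟨t, ht, hnp⟩ := hTb hx
    obtain ⟨P, e, he, hSol⟩ := hS x hx t ht
    obtain ⟨Z1, b1, τ1, h1, hb1⟩ := hSol Z p τ hZ x t ht hnp e he
    let T1 : Set Z1 := {x1 | b1 x1 ∈ T ∧ b1 x1 ≠ x}
    have hinj : Set.InjOn b1 T1 := by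
      intro y hy z _ hyz
      obtain ⟨w, -, hu⟩ := h1.off.bij (b1 y) hy.2
      rw [hu y rfl, hu z hyz.symm]
    have hsub : b1 '' T1 ⊆ T \ {x} := by
      rintro _ ⟨x', hx', rfl⟩
      exact ⟨hx'.1, hx'.2⟩
    have hfin1 : T1.Finite := Set.Finite.of_finite_image ((hfin.subset Set.sdiff_subset).subset hsub) hinj
    have hcard : T1.ncard ≤ n := by
      rw [← Set.InjOn.ncard_image hinj]
      have h1 := Set.ncard_le_ncard hsub (hfin.subset Set.sdiff_subset)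
      have h2 := Set.ncard_sdiff_singleton_add_one hx hfin
      omega
    obtain ⟨Z2, b2, τ2, h2, hb2⟩ := ih Z1 (b1 ≫ p) τ1 h1.em T1 hfin1 hcard (fun x1 hx1 =>
      (h1.mem_bad_iff hZ x1 hx1.2).2 (hTb hx1.1)) (fun x1 hx1 t1 ht1 => by
      have := h1.off.iso x1 hx1.2
      have := hZ.isIso
      have hfix : τ (b1 x1) = b1 x1 := by
        rw [← Scheme.Hom.comp_apply, ← h1.comm, Scheme.Hom.comp_apply, ht1.apply_eq]
      obtain ⟨t, ht⟩ := exists_isSA hfix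
      obtain ⟨P1, e1, he1, hS1⟩ := hS (b1 x1) hx1.1 t ht
      refine ⟨P1, (asIso (b1.stalkMap x1)).commRingCatIsoToRingEquiv.symm.trans e1, fun a => ?_, hS1⟩
      obtain ⟨a, rfl⟩ := (asIso (b1.stalkMap x1)).commRingCatIsoToRingEquiv.surjective a
      have h3 : t1 ((asIso (b1.stalkMap x1)).commRingCatIsoToRingEquiv a) =
          (asIso (b1.stalkMap x1)).commRingCatIsoToRingEquiv (t a) := ht.compat b1 h1.comm ht1 a
      rw [h3, RingEquiv.trans_apply, RingEquiv.trans_apply, RingEquiv.symm_apply_apply, RingEquiv.symm_apply_apply,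
        he1])
    refine ⟨Z2, b2 ≫ b1, τ2, (h1.mono (Set.singleton_subset_iff.2 hx)).comp h2 (fun x1 hx1 => hx1.1), ?_⟩
    intro x' hx'
    by_cases hxx : b1 (b2 x') = x
    · rw [h2.mem_bad_iff h1.em x' (fun hT => hT.2 hxx)]
      exact hb1 _ hxx
    · exact hb2 x' ⟨hx', hxx⟩

/-- The blow-up of an equivariant model in a fixed closed point of dimension two. -/
theorem exists_blow [IsDiscreteValuationRing R] [Nonempty C] [Flat f] {Z : Scheme.{u}}
    {p : Z ⟶ Spec (CommRingCat.of R)} {τ : Z ⟶ Z} (h : EM f σ p τ) {x : Z} (hx : IsClosed ({x} : Set Z))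
    (hpx : p x = closedPoint R) (hdim : ringKrullDim (Z.presheaf.stalk x) = 2) (hτ : τ x = x) :
    ∃ (Z' : Scheme.{u}) (b : Z' ⟶ Z) (τ' : Z' ⟶ Z'), EModif f σ p τ {x} b τ' ∧
      ∀ x', b x' = x → IsQuad (b.stalkMap x').hom := by
  have hln := h.isLocallyNoetherian
  have hreg := h.reg x
  have hiso := h.isIso
  have hdom : IsDomain (Z.presheaf.stalk x) := Groth.Agent.CalgA.RegBasic.isDomain _
  obtain ⟨Z', b, hb⟩ := Groth.Agent.Flat2C.BlowExist.exists_isBlowUp (pt x hx)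
  obtain ⟨τ', hτ'⟩ := exists_lift hx hb hτ
  obtain ⟨g, hg, hgτ⟩ := h.pullback
  obtain ⟨g', hg', hpb⟩ := exists_pullback f hg hx hpx hb
  have hM := h.isM.blowUp f x hx hpx (pt x hx) (RMBlow.isFiniteTypeIdeal _)
    (fun z hz => (mem_support_pt x hx z).1 hz) b hb
  have hoff : Off {x} b := (Resolve.K375.Geo.PtSt.off (z := x) ⟨hx, hb⟩)
  refine ⟨Z', b, τ', ⟨⟨hM.proper, hM.flat, hM.integral, ?_, ?_, ⟨g', hpb, ?_⟩, ?_⟩, hτ', hoff⟩, ?_⟩
  · intro x1
    by_cases hx1 : b x1 = x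
    · exact Groth.Agent.Sga7.H558.QuadBlow.isRegularLocalRing_stalk hb hdim x1 hx1
    · have := hoff.iso x1 hx1
      have := h.reg (b x1)
      exact IsRegularLocalRing.of_ringEquiv (asIso (b.stalkMap x1)).commRingCatIsoToRingEquiv
  · rw [← Category.assoc, hτ', Category.assoc, h.comm]
  · refine lift_unique_off hx hb (g := g ≫ τ) (fun c hc => ?_) ?_ ?_
    · have h1 : τ (g c) = x := hc
      have h2 : g c = x := τ.homeomorph.injective (h1.trans hτ.symm)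
      exact apply_ne f (IsDiscreteValuationRing.not_isField R) hg.w hpx c h2
    · rw [Category.assoc, hτ', ← Category.assoc, hg']
    · rw [Category.assoc, hg', hgτ]
  · rcases h.ord with h2 | h3
    · refine Or.inl (lift_unique hx hb (τ := 𝟙 Z) rfl ?_ (by rw [Category.id_comp, Category.comp_id]))
      rw [Category.assoc, hτ', ← Category.assoc, hτ', Category.assoc, h2]
    · refine Or.inr (lift_unique hx hb (τ := 𝟙 Z) rfl ?_ (by rw [Category.id_comp, Category.comp_id]))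
      rw [Category.assoc, Category.assoc, hτ', ← Category.assoc τ' b, hτ', Category.assoc, ← Category.assoc τ' b, hτ',
        Category.assoc, h3]
  · intro x' hx'
    exact Groth.Agent.Sga7.H558.QuadBlow.isQuad_stalkMap hb x' hx'

end Groth.Agent.Models.K364.EMod
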