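import Groth.Agent.Models.K364.KL
import Groth.Agent.S0271
import Mathlib.RingTheory.IsGaloisGroup.Basic
import Mathlib.RingTheory.Etale.Basic
import Mathlib.RingTheory.Flat.Localization
import Mathlib.RingTheory.Smooth.Flat

/-!
# Flatness of a ring over the invariants of a group of order two or three

`flat_at_prime`: the local ring of `C` at a prime `q` is flat over the ring of invariants, provided that for every
automorphism of `C_q` induced by the generator of the group the ideal of fixed points is principal.
-/

set_option autoImplicit false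
universe u

open IsLocalRing

namespace Groth.Agent.Models.K364.FlatPt

open Delta

section

variable {A C G : Type u} [CommRing A] [CommRing C] [Algebra A C] [FaithfulSMul A C]
  [Group G] [Finite G] [MulSemiringAction G C] [SMulCommClass G A C] [Algebra.IsInvariant A C G]

/-- At a point with trivial inertia the ring is flat over the invariants. -/
theorem flat_of_inertia_eq_bot (q : Ideal C) [q.IsPrime] (h : q.inertia G = ⊥) :
    Module.Flat A (Localization.AtPrime q) := by
  obtain ⟨g, hg, het⟩ := Groth.Agent.S0271.result G C q
  -- the invariants of the inertia group are everything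
  have hTtop : ∀ s : C, s ∈ FixedPoints.subring C (q.inertia G) := by
    intro s
    rintro ⟨σ, hσ⟩
    have h1 : σ = 1 := by
      rw [h] at hσ
      exact Subgroup.mem_bot.mp hσ
    subst h1
    exact one_smul G s
  let eT : FixedPoints.subring C (q.inertia G) ≃+* C :=
    RingEquiv.ofBijective (FixedPoints.subring C (q.inertia G)).subtype
      ⟨Subtype.val_injective, fun s => ⟨⟨s, hTtop s⟩, rfl⟩⟩
  let f0 : A →+* FixedPoints.subring C G := (algebraMap A C).codRestrict _ (fun r σ => by
    change σ • algebraMap A C r = algebraMap A C r
    rw [smul_algebraMap])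
  have hf0 : Function.Bijective f0 := by
    constructor
    · intro x y hxy
      exact FaithfulSMul.algebraMap_injective A C (congrArg Subtype.val hxy)
    · rintro ⟨s, hs⟩
      obtain ⟨r, hr⟩ := Algebra.IsInvariant.isInvariant (A := A) (B := C) (G := G) s hs
      exact ⟨r, Subtype.ext hr⟩
  let _ : Algebra A (FixedPoints.subring C G) := f0.toAlgebra
  have hRF : Algebra.Etale A (FixedPoints.subring C G) :=
    Algebra.Etale.of_equiv (AlgEquiv.ofBijective (Algebra.ofId A _) hf0)
  let _ : Algebra A (Localization.Away g) :=
    ((algebraMap (FixedPoints.subring C G) (Localization.Away g)).comp f0).toAlgebra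
  have : IsScalarTower A (FixedPoints.subring C G) (Localization.Away g) :=
    IsScalarTower.of_algebraMap_eq fun _ => rfl
  have hRL : Algebra.Etale A (Localization.Away g) :=
    Algebra.Etale.comp A (FixedPoints.subring C G) (Localization.Away g)
  -- pass to the localization of `C`
  have hpow : Submonoid.map eT.toMonoidHom (Submonoid.powers g) =
      Submonoid.powers (g : C) := by
    rw [Submonoid.map_powers]
    rfl
  let e : Localization.Away g ≃+* Localization.Away (g : C) :=
    IsLocalization.ringEquivOfRingEquiv (Localization.Away g) (Localization.Away (g : C)) eT hpow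
  let e' : Localization.Away g ≃ₐ[A] Localization.Away (g : C) := AlgEquiv.ofRingEquiv (f := e) (fun r => by
    have h1 : algebraMap A (Localization.Away g) r =
        algebraMap (FixedPoints.subring C (q.inertia G)) (Localization.Away g)
          ⟨algebraMap A C r, hTtop _⟩ := by
      change algebraMap (FixedPoints.subring C G) (Localization.Away g) (f0 r) = _
      rw [IsScalarTower.algebraMap_apply (FixedPoints.subring C G)
        (FixedPoints.subring C (q.inertia G)) (Localization.Away g)]
      rfl
    have h2 : ∀ t, e (algebraMap (FixedPoints.subring C (q.inertia G)) (Localization.Away g) t) =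
        algebraMap C (Localization.Away (g : C)) (eT t) := fun t => IsLocalization.ringEquivOfRingEquiv_eq hpow t
    rw [h1, h2, IsScalarTower.algebraMap_apply A C]
    rfl)
  have hfl : Module.Flat A (Localization.Away g) := inferInstance
  have hfl' : Module.Flat A (Localization.Away (g : C)) := Module.Flat.of_linearEquiv e'.symm.toLinearEquiv
  have hle : Submonoid.powers (g : C) ≤ q.primeCompl := by
    rw [Submonoid.powers_le]
    exact hg
  let _ : Algebra (Localization.Away (g : C)) (Localization.AtPrime q) :=
    IsLocalization.localizationAlgebraOfSubmonoidLe (Localization.Away (g : C)) (Localization.AtPrime q)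
      (Submonoid.powers (g : C)) q.primeCompl hle
  have : IsScalarTower C (Localization.Away (g : C)) (Localization.AtPrime q) :=
    IsLocalization.localization_isScalarTower_of_submonoid_le _ _ _ _ hle
  have hloc := IsLocalization.isLocalization_of_submonoid_le (Localization.Away (g : C)) (Localization.AtPrime q)
    (Submonoid.powers (g : C)) q.primeCompl hle
  have hfl2 : Module.Flat (Localization.Away (g : C)) (Localization.AtPrime q) :=
    IsLocalization.flat _ (Submonoid.map (algebraMap C (Localization.Away (g : C))) q.primeCompl)
  have : IsScalarTower A (Localization.Away (g : C)) (Localization.AtPrime q) :=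
    IsScalarTower.to₁₃₄ A C (Localization.Away (g : C)) (Localization.AtPrime q)
  exact Module.Flat.trans A (Localization.Away (g : C)) (Localization.AtPrime q)

/-- The local ring at a prime fixed by the group is flat over the invariants, if the ideal of fixed points is
principal. -/
theorem flat_of_forall_mem [IsDomain C] (q : Ideal C) [q.IsPrime] (g₀ : G) (hg₀ : ∀ g : G, g ∈ Subgroup.zpowers g₀)
    (hord : (∀ c : C, g₀ • g₀ • c = c) ∨ (∀ c : C, g₀ • g₀ • g₀ • c = c)) (hq : ∀ c ∈ q, g₀ • c ∈ q)
    (hp : ∀ t : Localization.AtPrime q ≃+* Localization.AtPrime q,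
      (∀ c, t (algebraMap C _ c) = algebraMap C _ (g₀ • c)) → (fixI t).IsPrincipal) :
    Module.Flat A (Localization.AtPrime q) := by
  have hinj : Function.Injective (algebraMap C (Localization.AtPrime q)) :=
    IsLocalization.injective _ q.primeCompl_le_nonZeroDivisors
  have hdom : IsDomain (Localization.AtPrime q) := inferInstance
  -- the prime is stable
  have hord' : ∃ n, 0 < n ∧ ∀ c : C, (g₀ ^ n) • c = c := by
    rcases hord with h | h
    · exact ⟨2, by norm_num, fun c => by rw [pow_two, mul_smul]; exact h c⟩
    · exact ⟨3, by norm_num, fun c => by rw [pow_succ, pow_two, mul_smul, mul_smul]; exact h c⟩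
  have hpow : ∀ n : ℕ, ∀ c ∈ q, (g₀ ^ n) • c ∈ q := by
    intro n
    induction n with
    | zero => intro c hc; rwa [pow_zero, one_smul]
    | succ n ih => intro c hc; rw [pow_succ, mul_smul]; exact ih _ (hq c hc)
  have hq' : ∀ c, g₀ • c ∈ q → c ∈ q := by
    intro c hc
    obtain ⟨n, hn, h⟩ := hord'
    obtain ⟨m, rfl⟩ : ∃ m, n = m + 1 := ⟨n - 1, by omega⟩
    have h1 := hpow m _ hc
    rwa [← mul_smul, ← pow_succ, h] at h1
  have hstab : ∀ c, g₀ • c ∈ q ↔ c ∈ q := fun c => ⟨hq' c, hq c⟩
  -- the induced automorphism
  have hmap : Submonoid.map (MulSemiringAction.toRingEquiv G C g₀).toMonoidHom q.primeCompl = q.primeCompl := by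
    ext c
    constructor
    · rintro ⟨d, hd, rfl⟩
      exact fun h => hd ((hstab d).1 h)
    · intro hc
      refine ⟨g₀⁻¹ • c, fun h => hc ?_, smul_inv_smul g₀ c⟩
      have := (hstab (g₀⁻¹ • c)).2 h
      rwa [smul_inv_smul] at this
  obtain ⟨t, ht⟩ : ∃ t : Localization.AtPrime q ≃+* Localization.AtPrime q,
      ∀ c, t (algebraMap C (Localization.AtPrime q) c) = algebraMap C (Localization.AtPrime q) (g₀ • c) :=
    ⟨IsLocalization.ringEquivOfRingEquiv _ _ (MulSemiringAction.toRingEquiv G C g₀) hmap, fun c =>
      IsLocalization.ringEquivOfRingEquiv_eq hmap c⟩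
  -- elements are determined by their values on `C`
  have hext : ∀ f : Localization.AtPrime q →+* Localization.AtPrime q, (∀ c, f (algebraMap C _ c) = algebraMap C _ c) →
      ∀ b, f b = b := by
    intro f hf b
    have : f = RingHom.id _ := by
      apply IsLocalization.ringHom_ext q.primeCompl
      ext c
      exact hf c
    rw [this]
    rfl
  have htord : (∀ b, t (t b) = b) ∨ (∀ b, t (t (t b)) = b) := by
    rcases hord with h | h
    · left
      intro b
      refine hext (t.toRingHom.comp t.toRingHom) (fun c => ?_) b
      have e : (t.toRingHom.comp t.toRingHom) (algebraMap C _ c) = t (t (algebraMap C _ c)) := rfl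
      rw [e, ht, ht, h]
    · right
      intro b
      refine hext (t.toRingHom.comp (t.toRingHom.comp t.toRingHom)) (fun c => ?_) b
      have e : (t.toRingHom.comp (t.toRingHom.comp t.toRingHom)) (algebraMap C _ c) =
        t (t (t (algebraMap C _ c))) := rfl
      rw [e, ht, ht, ht, h]
  -- the invariants
  let A' : Subring (Localization.AtPrime q) := RingHom.eqLocus (t : Localization.AtPrime q →+* _) (RingHom.id _)
  have hA' : ∀ b, b ∈ A' ↔ t b = b := fun b => Iff.rfl
  have hAm : ∀ a : A, algebraMap A (Localization.AtPrime q) a ∈ A' := by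
    intro a
    rw [hA', IsScalarTower.algebraMap_apply A C, ht, smul_algebraMap]
  let i : A →+* A' := (algebraMap A (Localization.AtPrime q)).codRestrict A' hAm
  let _ : Algebra A A' := i.toAlgebra
  have hfixC : ∀ c : C, g₀ • c = c → ∃ a : A, algebraMap A C a = c := by
    intro c hc
    apply Algebra.IsInvariant.isInvariant (A := A) (B := C) (G := G) c
    intro g
    obtain ⟨n, rfl⟩ := Subgroup.mem_zpowers_iff.1 (hg₀ g)
    have h1 : g₀ ∈ MulAction.stabilizer G c := hc
    exact (Subgroup.zpow_mem _ h1 n : g₀ ^ n ∈ MulAction.stabilizer G c)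
  have hlocA : IsLocalization (q.comap (algebraMap A C)).primeCompl A' := by
    rw [isLocalization_iff]
    refine ⟨?_, ?_, ?_⟩
    · rintro ⟨a, ha⟩
      have ha' : algebraMap A C a ∉ q := ha
      have h1 : IsUnit (algebraMap C (Localization.AtPrime q) (algebraMap A C a)) :=
        IsLocalization.map_units _ (⟨_, ha'⟩ : q.primeCompl)
      obtain ⟨v, hv⟩ := h1.exists_right_inv
      have hvA : v ∈ A' := by
        rw [hA']
        apply mul_left_cancel₀ h1.ne_zero
        rw [hv]
        have h2 := congrArg t hv
        rw [map_mul, ht, smul_algebraMap, map_one] at h2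
        exact h2
      exact IsUnit.of_mul_eq_one ⟨v, hvA⟩ (Subtype.ext (by
        change algebraMap A (Localization.AtPrime q) a * v = 1
        rw [IsScalarTower.algebraMap_apply A C, hv]))
    · rintro ⟨b, hb⟩
      obtain ⟨c, s, hs⟩ := IsLocalization.exists_mk'_eq q.primeCompl b
      have hbs : b * algebraMap C _ (s : C) = algebraMap C _ c := by rw [← hs, IsLocalization.mk'_spec]
      -- multiply by the conjugates of the denominator
      obtain ⟨u, hu, hus⟩ : ∃ u : C, u ∉ q ∧ g₀ • (u * (s : C)) = u * (s : C) := by
        have hsq : (s : C) ∉ q := s.2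
        rcases hord with h | h
        · refine ⟨g₀ • (s : C), fun hc => hsq (hq' _ hc), ?_⟩
          rw [smul_mul', h, mul_comm]
        · refine ⟨(g₀ • (s : C)) * (g₀ • g₀ • (s : C)), fun hc => ?_, ?_⟩
          · rcases Ideal.IsPrime.mem_or_mem ‹_› hc with h1 | h1
            · exact hsq (hq' _ h1)
            · exact hsq (hq' _ (hq' _ h1))
          · rw [smul_mul', smul_mul', h]
            ring
      obtain ⟨a, ha⟩ := hfixC _ hus
      have haq : algebraMap A C a ∉ q := by
        rw [ha]
        intro hc
        rcases Ideal.IsPrime.mem_or_mem ‹_› hc with h1 | h1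
        exacts [hu h1, s.2 h1]
      have hbu : b * algebraMap C _ (u * (s : C)) = algebraMap C _ (u * c) := by
        rw [map_mul, map_mul, ← hbs]; ring
      have hcu : g₀ • (u * c) = u * c := by
        apply hinj
        rw [← ht, ← hbu, map_mul, (hA' b).1 hb, ht, hus]
      obtain ⟨a', ha'⟩ := hfixC _ hcu
      refine ⟨⟨a', ⟨a, haq⟩⟩, Subtype.ext ?_⟩
      change b * algebraMap A (Localization.AtPrime q) a = algebraMap A (Localization.AtPrime q) a'
      rw [IsScalarTower.algebraMap_apply A C (Localization.AtPrime q) a,
        IsScalarTower.algebraMap_apply A C (Localization.AtPrime q) a', ha, ha', hbu]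
    · intro a a' haa
      have h1 : algebraMap A (Localization.AtPrime q) a = algebraMap A (Localization.AtPrime q) a' :=
        congrArg Subtype.val haa
      rw [IsScalarTower.algebraMap_apply A C (Localization.AtPrime q) a,
        IsScalarTower.algebraMap_apply A C (Localization.AtPrime q) a'] at h1
      exact ⟨1, by rw [FaithfulSMul.algebraMap_injective A C (hinj h1)]⟩
  have hprime : (q.comap (algebraMap A C)).IsPrime := inferInstance
  have hfl1 : Module.Flat A A' := IsLocalization.flat A' (q.comap (algebraMap A C)).primeCompl
  have hfl2 : Module.Flat A' (Localization.AtPrime q) := by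
    refine KL.flat_of_isPrincipal (σ := t) Subtype.val_injective (fun a => (hA' _).1 a.2)
      (fun b hb => ⟨⟨b, (hA' b).2 hb⟩, rfl⟩) htord (hp t ht)
  have : IsScalarTower A A' (Localization.AtPrime q) := IsScalarTower.of_algebraMap_eq fun _ => rfl
  exact Module.Flat.trans A A' (Localization.AtPrime q)

/-- Flatness over the invariants of a group of order two or three. -/
theorem flat_at_prime [IsDomain C] (hcard : (Nat.card G).Prime) (q : Ideal C) [q.IsPrime] (g₀ : G)
    (hg₀ : ∀ g : G, g ∈ Subgroup.zpowers g₀)
    (hord : (∀ c : C, g₀ • g₀ • c = c) ∨ (∀ c : C, g₀ • g₀ • g₀ • c = c))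
    (hp : ∀ t : Localization.AtPrime q ≃+* Localization.AtPrime q,
      (∀ c, t (algebraMap C _ c) = algebraMap C _ (g₀ • c)) → (fixI t).IsPrincipal) :
    Module.Flat A (Localization.AtPrime q) := by
  by_cases h : q.inertia G = ⊥
  · exact flat_of_inertia_eq_bot q h
  · have : Fact (Nat.card G).Prime := ⟨hcard⟩
    have h1 : q.inertia G = ⊤ := (Subgroup.eq_bot_or_eq_top_of_prime_card (q.inertia G)).resolve_left h
    refine flat_of_forall_mem q g₀ hg₀ hord (fun c hc => ?_) hp
    have h2 : g₀ ∈ q.inertia G := by rw [h1]; trivial
    have h3 : g₀ • c - c ∈ q := h2 c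
    have h4 := Ideal.add_mem _ h3 hc
    rwa [sub_add_cancel] at h4

end

end Groth.Agent.Models.K364.FlatPt
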