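import Groth.Agent.Models.K364.LAcc
import Groth.Agent.Sga7.H150.Global
import Groth.Agent.Sga7.H558.QuadInput

/-!
# Automorphisms of local rings induced by automorphisms of schemes
-/

set_option autoImplicit false
set_option linter.dupNamespace false
set_option linter.unusedSectionVars false
universe u

open CategoryTheory CategoryTheory.Limits AlgebraicGeometry IsLocalRing

namespace Groth.Agent.Models.K364.StalkAut

open Delta

/-- `t` is the automorphism of the local ring at `z` induced by `τ`. -/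
def IsSA {Z : Scheme.{u}} (τ : Z ⟶ Z) (z : Z) (t : Z.presheaf.stalk z ≃+* Z.presheaf.stalk z) : Prop :=
  Spec.map (CommRingCat.ofHom (t : Z.presheaf.stalk z →+* Z.presheaf.stalk z)) ≫ Z.fromSpecStalk z =
    Z.fromSpecStalk z ≫ τ

variable {Z : Scheme.{u}} {τ : Z ⟶ Z} {z : Z}

theorem hom_ext {A : Type u} [CommRing A] {a b : Z.presheaf.stalk z →+* A}
    (h : Spec.map (CommRingCat.ofHom a) ≫ Z.fromSpecStalk z = Spec.map (CommRingCat.ofHom b) ≫ Z.fromSpecStalk z) :
    a = b := by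
  have h1 := (cancel_mono (Z.fromSpecStalk z)).1 h
  have h2 := Spec.map_injective h1
  exact congrArg CommRingCat.Hom.hom h2

theorem exists_isSA [IsIso τ] (h : τ z = z) : ∃ t, IsSA τ z t := by
  have hs : z ⤳ τ z := by rw [h]
  have hiso : IsIso (Z.presheaf.stalkSpecializes hs) := by
    have : Inseparable z (τ z) := by rw [h]
    have h1 : Z.presheaf.stalkSpecializes hs = (Z.presheaf.stalkCongr this).inv := rfl
    rw [h1]
    infer_instance
  refine ⟨((asIso (Z.presheaf.stalkSpecializes hs)).symm ≪≫ asIso (τ.stalkMap z)).commRingCatIsoToRingEquiv, ?_⟩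
  change Spec.map (inv (Z.presheaf.stalkSpecializes hs) ≫ τ.stalkMap z) ≫ Z.fromSpecStalk z = _
  rw [Spec.map_comp, Category.assoc, ← Scheme.SpecMap_stalkMap_fromSpecStalk]
  congr 1
  rw [← Scheme.SpecMap_stalkSpecializes_fromSpecStalk hs, ← Category.assoc, ← Spec.map_comp, IsIso.hom_inv_id,
    Spec.map_id, Category.id_comp]

theorem abs_apply' {A : Scheme.{u}} {t : A ⟶ A} {α : A ⟶ Z} (h : t ≫ α = α ≫ τ) {x : A} (hx : t x = x) :
    τ (α x) = α x := by
  have h1 : (t ≫ α) x = (α ≫ τ) x := by rw [h]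
  rw [Scheme.Hom.comp_apply, Scheme.Hom.comp_apply, hx] at h1
  exact h1.symm

theorem abs_apply {A : CommRingCat.{u}} [IsLocalRing A] {t : A ⟶ A} [IsLocalHom t.hom] {α : Spec A ⟶ Z}
    (h : Spec.map t ≫ α = α ≫ τ) : τ (α (closedPoint A)) = α (closedPoint A) :=
  abs_apply' h (IsLocalRing.comap_closedPoint t.hom)

theorem IsSA.apply_eq {t} (h : IsSA τ z t) : τ z = z := by
  have hloc : IsLocalHom (CommRingCat.ofHom (t : Z.presheaf.stalk z →+* Z.presheaf.stalk z)).hom :=
    ⟨fun a ha => (MulEquiv.isUnit_map t).1 ha⟩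
  have h1 := abs_apply (A := Z.presheaf.stalk z)
    (t := CommRingCat.ofHom (t : Z.presheaf.stalk z →+* Z.presheaf.stalk z)) (α := Z.fromSpecStalk z) h
  rwa [Scheme.fromSpecStalk_closedPoint] at h1

theorem abs_compat {Y : Scheme.{u}} {τ' : Y ⟶ Y} {b : Y ⟶ Z} (hb : τ' ≫ b = b ≫ τ) {A B : CommRingCat.{u}}
    {φ : A ⟶ B} {t : A ⟶ A} {t' : B ⟶ B} {α : Spec A ⟶ Z} [Mono α] {β : Spec B ⟶ Y}
    (h0 : Spec.map φ ≫ α = β ≫ b) (h : Spec.map t ≫ α = α ≫ τ) (h' : Spec.map t' ≫ β = β ≫ τ') :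
    φ ≫ t' = t ≫ φ := by
  apply Spec.map_injective
  rw [← cancel_mono α, Spec.map_comp, Spec.map_comp, Category.assoc, Category.assoc, h0, h, reassoc_of% h0,
    reassoc_of% h', hb]

theorem IsSA.unique {t t'} (h : IsSA τ z t) (h' : IsSA τ z t') : t = t' := by
  have h1 : (t : Z.presheaf.stalk z →+* Z.presheaf.stalk z) = t' := hom_ext (h.trans h'.symm)
  ext a
  exact congrArg (fun φ : Z.presheaf.stalk z →+* Z.presheaf.stalk z => φ a) h1

theorem IsSA.compat {Y : Scheme.{u}} {τ' : Y ⟶ Y} (b : Y ⟶ Z) (hb : τ' ≫ b = b ≫ τ) {y : Y} {t} {t'}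
    (h : IsSA τ (b y) t) (h' : IsSA τ' y t') (a : Z.presheaf.stalk (b y)) :
    t' ((b.stalkMap y).hom a) = (b.stalkMap y).hom (t a) := by
  have h1 := abs_compat hb (φ := b.stalkMap y) (Scheme.SpecMap_stalkMap_fromSpecStalk b) h h'
  exact congrArg (fun φ : Z.presheaf.stalk (b y) ⟶ Y.presheaf.stalk y => φ.hom a) h1

theorem IsSA.apply_two {t} (h : IsSA τ z t) (hτ : τ ≫ τ = 𝟙 Z) (c : Z.presheaf.stalk z) : t (t c) = c := by
  have h1 : (t : Z.presheaf.stalk z →+* Z.presheaf.stalk z).comp (t : Z.presheaf.stalk z →+* Z.presheaf.stalk z) =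
      RingHom.id _ := by
    apply hom_ext
    rw [CommRingCat.ofHom_comp, Spec.map_comp, Category.assoc, h, ← Category.assoc, h, Category.assoc, hτ]
    change _ = Spec.map (𝟙 _) ≫ _
    rw [Spec.map_id, Category.id_comp, Category.comp_id]
  exact congrArg (fun φ : Z.presheaf.stalk z →+* Z.presheaf.stalk z => φ c) h1

theorem IsSA.apply_three {t} (h : IsSA τ z t) (hτ : τ ≫ τ ≫ τ = 𝟙 Z) (c : Z.presheaf.stalk z) :
    t (t (t c)) = c := by
  have h1 : ((t : Z.presheaf.stalk z →+* Z.presheaf.stalk z).comp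
      (t : Z.presheaf.stalk z →+* Z.presheaf.stalk z)).comp (t : Z.presheaf.stalk z →+* Z.presheaf.stalk z) =
      RingHom.id _ := by
    apply hom_ext
    rw [CommRingCat.ofHom_comp, CommRingCat.ofHom_comp, Spec.map_comp, Spec.map_comp]
    simp only [Category.assoc]
    rw [h, reassoc_of% h, reassoc_of% h, hτ]
    change _ = Spec.map (𝟙 _) ≫ _
    rw [Spec.map_id, Category.id_comp, Category.comp_id]
  exact congrArg (fun φ : Z.presheaf.stalk z →+* Z.presheaf.stalk z => φ c) h1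

/-- `t` fixes the constants. -/
theorem IsSA.apply_base {t} (h : IsSA τ z t) {R : CommRingCat.{u}} (p : Z ⟶ Spec R) (hp : τ ≫ p = p)
    (ρ : R →+* Z.presheaf.stalk z) (hρ : Spec.map (CommRingCat.ofHom ρ) = Z.fromSpecStalk z ≫ p) (r : R) :
    t (ρ r) = ρ r := by
  have h1 : (t : Z.presheaf.stalk z →+* Z.presheaf.stalk z).comp ρ = ρ := by
    have h2 : Spec.map (CommRingCat.ofHom ((t : Z.presheaf.stalk z →+* Z.presheaf.stalk z).comp ρ)) =
        Spec.map (CommRingCat.ofHom ρ) := by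
      rw [CommRingCat.ofHom_comp, Spec.map_comp, hρ, ← Category.assoc, h, Category.assoc, hp]
    exact congrArg CommRingCat.Hom.hom (Spec.map_injective h2)
  exact congrArg (fun φ : R →+* Z.presheaf.stalk z => φ r) h1

/-- `z` is a bad point: `τ` fixes it, and the ideal of the fixed locus is not principal there. -/
def Bad (τ : Z ⟶ Z) : Set Z :=
  {z | ∃ t, IsSA τ z t ∧ ¬ (fixI t).IsPrincipal}

theorem fixI_map_equiv {A B : Type*} [CommRing A] [CommRing B] (e : A ≃+* B) (s : A ≃+* A) (t : B ≃+* B)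
    (h : ∀ a, e (s a) = t (e a)) : (fixI s).map (e : A →+* B) = fixI t := by
  apply le_antisymm
  · rw [Ideal.map_le_iff_le_comap, fixI, Ideal.span_le]
    rintro _ ⟨a, rfl⟩
    simp only [SetLike.mem_coe, Ideal.mem_comap, RingEquiv.coe_toRingHom, map_sub, h]
    exact sub_mem_fixI t (e a)
  · rw [fixI, Ideal.span_le]
    rintro _ ⟨b, rfl⟩
    obtain ⟨a, rfl⟩ := e.surjective b
    change t (e a) - e a ∈ (fixI s).map (e : A →+* B)
    rw [← h, ← map_sub]
    exact Ideal.mem_map_of_mem (e : A →+* B) (sub_mem_fixI s a)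

theorem isPrincipal_map {A B : Type*} [CommRing A] [CommRing B] (φ : A →+* B) {I : Ideal A} (h : I.IsPrincipal) :
    (I.map φ).IsPrincipal := by
  obtain ⟨a, ha⟩ := h
  refine ⟨φ a, ?_⟩
  rw [ha]
  change Ideal.map φ (Ideal.span {a}) = Ideal.span {φ a}
  rw [Ideal.map_span, Set.image_singleton]

theorem isPrincipal_fixI_equiv {A B : Type*} [CommRing A] [CommRing B] (e : A ≃+* B) (s : A ≃+* A) (t : B ≃+* B)
    (h : ∀ a, e (s a) = t (e a)) : (fixI s).IsPrincipal ↔ (fixI t).IsPrincipal := by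
  constructor
  · intro hs
    rw [← fixI_map_equiv e s t h]
    exact isPrincipal_map _ hs
  · intro ht
    rw [← fixI_map_equiv e.symm t s (fun b => by
      rw [RingEquiv.symm_apply_eq, h, e.apply_symm_apply])]
    exact isPrincipal_map _ ht

end Groth.Agent.Models.K364.StalkAut
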