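import Groth.Agent.Models.K364.Cyc
import Groth.Agent.Models.K364.FlatPt
import Groth.Agent.Models.K364.StalkAut

/-!
# Flatness of quotients by groups of order two or three without bad points
-/

set_option autoImplicit false
set_option linter.dupNamespace false
set_option linter.unusedSectionVars false
universe u

open CategoryTheory CategoryTheory.Limits AlgebraicGeometry IsLocalRing

namespace Groth.Agent.Models.K364.FlatQuot

open Delta StalkAut Cyc Sga1.QuotBasic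

/-- Automorphisms of the localizations of the ring of sections over a stable affine open come from automorphisms of
local rings. -/
theorem isPrincipal_of_bad_eq_empty {Z : Scheme.{u}} {τ : Z ⟶ Z} (hbad : Bad τ = ∅) {U : Z.Opens}
    (hU : IsAffineOpen U) (hst : U ≤ τ ⁻¹ᵁ U) (q : Ideal Γ(Z, U)) [q.IsPrime]
    (t : Localization.AtPrime q ≃+* Localization.AtPrime q)
    (ht : ∀ c, t (algebraMap Γ(Z, U) _ c) = algebraMap Γ(Z, U) _ ((τ.appLE U U hst).hom c)) :
    (fixI t).IsPrincipal := by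
  let P : Spec Γ(Z, U) := ⟨q, inferInstance⟩
  let z : Z := hU.fromSpec P
  have hz : z ∈ U := by
    have := Set.mem_range_self (f := hU.fromSpec) P
    rw [hU.range_fromSpec] at this
    exact this
  have hP : hU.primeIdealOf ⟨z, hz⟩ = P := by
    apply hU.fromSpec.isOpenEmbedding.injective
    rw [hU.fromSpec_primeIdealOf]
  let _ : Algebra Γ(Z, U) (Z.presheaf.stalk z) := Z.presheaf.algebra_section_stalk ⟨z, hz⟩
  have hloc' : IsLocalization.AtPrime (Z.presheaf.stalk z) (hU.primeIdealOf ⟨z, hz⟩).asIdeal :=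
    hU.isLocalization_stalk ⟨z, hz⟩
  have hloc : IsLocalization.AtPrime (Z.presheaf.stalk z) q := by
    have : (hU.primeIdealOf ⟨z, hz⟩).asIdeal = q := by rw [hP]
    simpa only [this] using! hloc'
  let e : Localization.AtPrime q ≃ₐ[Γ(Z, U)] Z.presheaf.stalk z :=
    IsLocalization.algEquiv q.primeCompl (Localization.AtPrime q) (Z.presheaf.stalk z)
  have he : ∀ c, e (algebraMap Γ(Z, U) _ c) = Z.presheaf.germ U z hz c := fun c => e.commutes c
  let t' : Z.presheaf.stalk z ≃+* Z.presheaf.stalk z := (e.toRingEquiv.symm.trans t).trans e.toRingEquiv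
  have het : ∀ a, e.toRingEquiv (t a) = t' (e.toRingEquiv a) := fun a => by
    simp only [t', RingEquiv.trans_apply, RingEquiv.symm_apply_apply]
  have ht' : ∀ c, t' (Z.presheaf.germ U z hz c) = Z.presheaf.germ U z hz ((τ.appLE U U hst).hom c) := by
    intro c
    have h1 : Z.presheaf.germ U z hz c = e.toRingEquiv (algebraMap Γ(Z, U) _ c) := (he c).symm
    rw [h1, ← het, ht]
    exact he _
  have hSA : IsSA τ z t' := by
    have h1 : Z.fromSpecStalk z = Spec.map (Z.presheaf.germ U z hz) ≫ hU.fromSpec :=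
      (hU.fromSpecStalk_eq_fromSpecStalk hz).symm
    have h2 : Z.presheaf.germ U z hz ≫ CommRingCat.ofHom (t' : Z.presheaf.stalk z →+* Z.presheaf.stalk z) =
        τ.appLE U U hst ≫ Z.presheaf.germ U z hz := by
      ext c
      exact ht' c
    change Spec.map (CommRingCat.ofHom (t' : Z.presheaf.stalk z →+* Z.presheaf.stalk z)) ≫ Z.fromSpecStalk z =
      Z.fromSpecStalk z ≫ τ
    have h3 : Spec.map (CommRingCat.ofHom (t' : Z.presheaf.stalk z →+* Z.presheaf.stalk z)) ≫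
        Spec.map (Z.presheaf.germ U z hz) = Spec.map (Z.presheaf.germ U z hz) ≫ Spec.map (τ.appLE U U hst) :=
      (Spec.map_comp _ _).symm.trans ((congrArg Spec.map h2).trans (Spec.map_comp _ _))
    have h4 := IsAffineOpen.SpecMap_appLE_fromSpec τ hU hU hst
    rw [h1, Category.assoc, ← h4]
    exact (Category.assoc _ _ _).symm.trans ((congrArg (· ≫ hU.fromSpec) h3).trans (Category.assoc _ _ _))
  by_contra hn
  have hzb : z ∈ Bad τ := ⟨t', hSA, fun h => hn ((isPrincipal_fixI_equiv e.toRingEquiv t t' het).2 h)⟩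
  rw [hbad] at hzb
  exact hzb

/-- The quotient by a group of order two or three without bad points is flat. -/
theorem flat_of_isQuot {Z Q : Scheme.{u}} [IsIntegral Z] {ℓ : ℕ} (hℓ : ℓ = 2 ∨ ℓ = 3) (τ : Aut Z) (hτ : τ ^ ℓ = 1)
    {π : Z ⟶ Q} (hπ : SGA1.IsQuot (cyc τ hτ) π) (hbad : Bad τ.hom = ∅) : Flat π := by
  have haff := hπ.affine
  have hprime : ℓ.Prime := by
    rcases hℓ with rfl | rfl
    · exact Nat.prime_two
    · exact Nat.prime_three
  have : NeZero ℓ := ⟨hprime.ne_zero⟩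
  rw [HasRingHomProperty.iff_exists_appLE (P := @Flat)
    (RingHom.Flat.stableUnderComposition.stableUnderCompositionWithLocalizationAway
      RingHom.Flat.holdsForLocalizationAway).left]
  intro x
  obtain ⟨_, ⟨V, hV, rfl⟩, hxV, -⟩ := Q.isBasis_affineOpens.exists_subset_of_mem_open
    (Set.mem_univ (π x)) isOpen_univ
  refine ⟨⟨V, hV⟩, ⟨π ⁻¹ᵁ V, hV.preimage π⟩, hxV, le_rfl, ?_⟩
  rw [← Scheme.Hom.app_eq_appLE]
  have hU : IsAffineOpen (π ⁻¹ᵁ V) := hV.preimage π
  have hst := stable_preimage hπ.inv V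
  letI : Algebra Γ(Q, V) Γ(Z, π ⁻¹ᵁ V) := (π.app V).hom.toAlgebra
  letI := mulSemiringAction (cyc τ hτ) hst
  have hq := quotOn_of_isQuot hπ V
  have hinst1 : SMulCommClass (Gp.{u} ℓ) Γ(Q, V) Γ(Z, π ⁻¹ᵁ V) := smulCommClass_sections hπ.inv V
  have hinst2 : Algebra.IsInvariant Γ(Q, V) Γ(Z, π ⁻¹ᵁ V) (Gp.{u} ℓ) := hq.isInvariant
  have hinj : Function.Injective (algebraMap Γ(Q, V) Γ(Z, π ⁻¹ᵁ V)) := hq.injective
  have hinst3 : FaithfulSMul Γ(Q, V) Γ(Z, π ⁻¹ᵁ V) := (faithfulSMul_iff_algebraMap_injective _ _).mpr hinj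
  have hne : Nonempty (π ⁻¹ᵁ V) := ⟨⟨x, hxV⟩⟩
  have hdom : IsDomain Γ(Z, π ⁻¹ᵁ V) := inferInstance
  change Module.Flat Γ(Q, V) Γ(Z, π ⁻¹ᵁ V)
  refine Module.flat_of_isLocalized_maximal (R := Γ(Q, V)) (S := Γ(Z, π ⁻¹ᵁ V)) (M := Γ(Z, π ⁻¹ᵁ V))
    (fun P _ => Localization.AtPrime P) (fun P _ => Algebra.linearMap Γ(Z, π ⁻¹ᵁ V) (Localization.AtPrime P))
    (fun P hP => ?_)
  refine FlatPt.flat_at_prime (G := Gp.{u} ℓ) ?_ P (gen ℓ)⁻¹ ?_ ?_ ?_
  · rw [card]; exact hprime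
  · intro g
    rw [Subgroup.zpowers_inv]
    exact mem_zpowers ℓ g
  · have hp := gen_pow.{u} ℓ
    rcases hℓ with rfl | rfl
    · left
      intro c
      rw [smul_smul, ← mul_inv, ← pow_two, hp, inv_one, one_smul]
    · right
      intro c
      rw [smul_smul, smul_smul, ← mul_inv, ← mul_inv, ← pow_two, ← pow_succ, hp, inv_one, one_smul]
  · intro t ht
    have hst' : π ⁻¹ᵁ V ≤ τ.hom ⁻¹ᵁ (π ⁻¹ᵁ V) := by
      have := hst (gen ℓ)
      rwa [cyc_gen] at this
    refine isPrincipal_of_bad_eq_empty hbad hU hst' P t (fun c => ?_)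
    rw [ht]
    congr 1
    rw [smul_def]
    have : ∀ (a : Aut Z) (ha : a = τ) (e : π ⁻¹ᵁ V ≤ a.hom ⁻¹ᵁ (π ⁻¹ᵁ V)), (a.hom.appLE (π ⁻¹ᵁ V) (π ⁻¹ᵁ V) e).hom c =
        (τ.hom.appLE (π ⁻¹ᵁ V) (π ⁻¹ᵁ V) hst').hom c := by
      rintro a rfl e
      rfl
    exact this _ (by rw [inv_inv, cyc_gen]) _

end Groth.Agent.Models.K364.FlatQuot
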