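import Groth.Agent.Sga1.QuotBasic
import Mathlib.FieldTheory.Galois.Basic
import Mathlib.RingTheory.Algebraic.Integral
import Mathlib.RingTheory.Spectrum.Prime.FreeLocus
import Mathlib.AlgebraicGeometry.Morphisms.FlatRank
import Mathlib.RingTheory.Flat.TorsionFree

/-!
# Automorphisms of finite flat covers have order dividing the degree
-/

set_option autoImplicit false
set_option linter.dupNamespace false
set_option linter.unusedSectionVars false
universe u

open CategoryTheory CategoryTheory.Limits AlgebraicGeometry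

namespace Groth.Agent.Models.K364.GenDeg

theorem pow_finrank_eq_one {K L : Type*} [Field K] [Field L] [Algebra K L] [FiniteDimensional K L] (g : L ≃ₐ[K] L) :
    g ^ Module.finrank K L = 1 := by
  rw [← orderOf_dvd_iff_pow_eq_one, ← Nat.card_zpowers,
    ← IntermediateField.finrank_fixedField_eq_card (Subgroup.zpowers g)]
  exact Dvd.intro_left _ (Module.finrank_mul_finrank K (IntermediateField.fixedField (Subgroup.zpowers g)) L)

theorem algEquiv_pow_eq_one {A C : Type*} [CommRing A] [IsDomain A] [CommRing C] [IsDomain C] [Algebra A C]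
    [FaithfulSMul A C] [Module.Finite A C] (s : C ≃ₐ[A] C) : s ^ Module.finrank A C = 1 := by
  letI : Algebra (FractionRing A) (FractionRing C) := FractionRing.liftAlgebra A (FractionRing C)
  have hfin : Module.Finite (FractionRing A) (FractionRing C) :=
    Module.Finite.of_isLocalization A C (nonZeroDivisors A)
  have h1 : Module.finrank (FractionRing A) (FractionRing C) = Module.finrank A C :=
    IsFractionRing.finrank_eq A (FractionRing A) C (FractionRing C)
  apply IsFractionRing.fieldEquivOfAlgEquivHom_injective (A := A) (B := C) (FractionRing A) (FractionRing C)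
  rw [map_pow, map_one, ← h1]
  exact pow_finrank_eq_one _

open Sga1.QuotBasic in
/-- Automorphisms of `X` over `Y`. -/
def overAut {X Y : Scheme.{u}} (f : X ⟶ Y) : Subgroup (Aut X) where
  carrier := {σ | σ.hom ≫ f = f}
  one_mem' := Category.id_comp f
  mul_mem' {a b} ha hb := by
    change (b.hom ≫ a.hom) ≫ f = f
    rw [Category.assoc, ha, hb]
  inv_mem' {a} ha := by
    let a' : X ≅ X := a
    have ha' : a'.hom ≫ f = f := ha
    have h : a'.inv ≫ f = f := by rw [Iso.inv_comp_eq, ha']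
    exact h

open Sga1.QuotBasic in
theorem aut_pow_eq_one {X Y : Scheme.{u}} [IsIntegral X] [IsIntegral Y] (f : X ⟶ Y) [IsFinite f] [Flat f] {n : ℕ}
    (hn : ∀ y, f.finrank y = n) (σ : Aut X) (hσ : σ.hom ≫ f = f) : σ ^ n = 1 := by
  let x₀ : X := genericPoint X
  obtain ⟨V, hV, hxV⟩ := exists_affine_mem (f x₀)
  let G := overAut f
  let ρ : G →* Aut X := G.subtype
  have hinv : ∀ g : G, (ρ g).hom ≫ f = f := fun g => g.2
  have hst := stable_preimage hinv V
  obtain ⟨q, hq⟩ : f x₀ ∈ Set.range hV.fromSpec := by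
    rw [hV.range_fromSpec]; exact hxV
  have hne : Nonempty V := ⟨⟨_, hxV⟩⟩
  have hneX : Nonempty (f ⁻¹ᵁ V) := ⟨⟨x₀, hxV⟩⟩
  have hW : IsAffineOpen (f ⁻¹ᵁ V) := hV.preimage f
  have sq : IsPullback hW.fromSpec (Spec.map (f.app V)) f hV.fromSpec := by
    refine IsPullback.flip ?_
    apply IsOpenImmersion.isPullback
    · have := (IsAffineOpen.SpecMap_appLE_fromSpec f hV hW le_rfl).symm
      rwa [Scheme.Hom.appLE_eq_app] at this
    · rw [IsAffineOpen.opensRange_fromSpec, IsAffineOpen.opensRange_fromSpec]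
  have h1 : (f.app V).hom.Finite := IsFinite.finite_app f V hV
  have h2 : (f.app V).hom.Flat := by
    have := f.flat_appLE hV hW le_rfl
    rwa [Scheme.Hom.appLE_eq_app] at this
  letI := sectionAlgebra f V
  letI := mulSemiringAction ρ hst
  have hsc : SMulCommClass G Γ(Y, V) Γ(X, f ⁻¹ᵁ V) := smulCommClass_sections hinv V
  have hfin : Module.Finite Γ(Y, V) Γ(X, f ⁻¹ᵁ V) := h1
  have hflat : Module.Flat Γ(Y, V) Γ(X, f ⁻¹ᵁ V) := h2
  have hdom : IsDomain Γ(Y, V) := inferInstance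
  have hdomX : IsDomain Γ(X, f ⁻¹ᵁ V) := inferInstance
  have htf : Module.IsTorsionFree Γ(Y, V) Γ(X, f ⁻¹ᵁ V) := inferInstance
  have hfs : FaithfulSMul Γ(Y, V) Γ(X, f ⁻¹ᵁ V) := inferInstance
  have hqp : q.asIdeal.IsPrime := PrimeSpectrum.isPrime q
  have hrk : Module.finrank Γ(Y, V) Γ(X, f ⁻¹ᵁ V) = n := by
    rw [← hn (hV.fromSpec q), ← Scheme.Hom.finrank_of_isPullback _ _ _ _ sq q,
      Scheme.Hom.finrank_SpecMap_eq_finrank h1 h2]
    change _ = Module.rankAtStalk (R := Γ(Y, V)) Γ(X, f ⁻¹ᵁ V) q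
    rw [← Ideal.finrank_fiber_eq_finrank (M := Γ(X, f ⁻¹ᵁ V)) q.asIdeal]
    exact q.asIdeal.finrank_fiber_eq_rankAtStalk
  let g : G := ⟨σ, hσ⟩
  have h3 := algEquiv_pow_eq_one (MulSemiringAction.toAlgAut G Γ(Y, V) Γ(X, f ⁻¹ᵁ V) g⁻¹)
  rw [hrk, ← map_pow] at h3
  have h4 : ∀ c, (act ρ hst (g ^ n)).hom c = c := by
    intro c
    have h5 := congrArg (fun e : Γ(X, f ⁻¹ᵁ V) ≃ₐ[Γ(Y, V)] Γ(X, f ⁻¹ᵁ V) => e c) h3
    have h6 : (act ρ hst ((g⁻¹ ^ n)⁻¹)).hom c = c := h5
    rwa [inv_pow, inv_inv] at h6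
  have h7 : act ρ hst (g ^ n) = 𝟙 _ := by
    ext c
    exact h4 c
  have h8 : (f ⁻¹ᵁ V).ι ≫ (ρ (g ^ n)).hom = (f ⁻¹ᵁ V).ι ≫ 𝟙 X := by
    have h3 : hW.fromSpec ≫ (ρ (g ^ n)).hom = Spec.map (act ρ hst (g ^ n)) ≫ hW.fromSpec :=
      (IsAffineOpen.SpecMap_appLE_fromSpec (ρ (g ^ n)).hom hW hW (hst (g ^ n))).symm
    have h5 : (f ⁻¹ᵁ V).ι = hW.isoSpec.hom ≫ hW.fromSpec := by
      rw [hW.isoSpec_hom_fromSpec]
    rw [h5, Category.assoc, Category.assoc, h3, h7, Spec.map_id, Category.id_comp, Category.comp_id]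
  have h9 : IsDominant (f ⁻¹ᵁ V).ι := by
    refine ⟨?_⟩
    rw [DenseRange, Scheme.Opens.range_ι]
    exact (f ⁻¹ᵁ V).isOpen.dense (by obtain ⟨x, hx⟩ := hneX; exact ⟨x, hx⟩)
  have h10 : (ρ (g ^ n)).hom = 𝟙 X :=
    ext_of_isDominant_of_isSeparated f (by rw [hinv, Category.id_comp]) (f ⁻¹ᵁ V).ι h8
  apply Iso.ext
  exact h10

end Groth.Agent.Models.K364.GenDeg
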