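import Groth.Agent.Models.K364.EInd
import Groth.Agent.Models.K364.FlatQuot
import Groth.Agent.Models.K364.GenDeg
import Groth.Agent.Sga1.QuotExists
import Groth.Agent.Sga1.QuotAffine
import Groth.Agent.Sga1.FreeQuotSch
import Groth.Agent.Sga1.DescHom
import Groth.Agent.Curves.K754.QuotInt
import Groth.Agent.Zeta.K467.QuotFlat
import Groth.Agent.Etdl.H427.RankComp
import Groth.Agent.Sga3C.FlatOfComp
import Groth.Agent.Ega2.FiniteSet
import Groth.Agent.Models.H54.Bridge
import Groth.Prelude.Def_Mor2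

/-!
# Quotients of equivariant regular models without bad points
-/

set_option autoImplicit false
set_option linter.dupNamespace false
set_option linter.unusedSectionVars false
universe u

open CategoryTheory CategoryTheory.Limits AlgebraicGeometry IsLocalRing

namespace Groth.Agent.Models.K364.Fin

open StalkAut EMod Cyc EInd

/-! ### generalities on quotients -/

theorem existsUnique_desc {X Y : Scheme.{u}} {G : Type u} [Group G] [Finite G] {ρ : G →* Aut X}
    {p : X ⟶ Y} (hp : SGA1.IsQuot ρ p) {Z : Scheme.{u}} (h : X ⟶ Z) (hh : ∀ g : G, (ρ g).hom ≫ h = h) :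
    ∃! h' : Y ⟶ Z, p ≫ h' = h := by
  refine Sga1.DescHom.existsUnique_desc p h (Sga1.QuotBasic.isQuotientMap_of_isQuot hp) hp.injective ?_ ?_
  · intro x x' e
    obtain ⟨g, rfl⟩ := Sga1.QuotBasic.exists_apply_eq_of_isQuot hp e
    exact (Sga1.QuotBasic.apply_apply_of_inv hh g x).symm
  · intro W V e f
    rw [hp.range_iff]
    intro g
    rw [← CommRingCat.comp_apply, Scheme.Hom.appLE_comp_appLE, Sga1.QuotBasic.appLE_congr_hom (hh g)]

lemma locallyOfFinitePresentation_of_isLocallyNoetherian {X Y : Scheme.{u}} (f : X ⟶ Y)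
    [IsLocallyNoetherian Y] [LocallyOfFiniteType f] : LocallyOfFinitePresentation f where
  finitePresentation_appLE {U} hU {V} hV e := by
    have : IsNoetherianRing Γ(Y, U) := IsLocallyNoetherian.component_noetherian ⟨U, hU⟩
    exact RingHom.FinitePresentation.of_finiteType.1 (f.finiteType_appLE hU hV e)

/-- Orders of automorphisms are determined on a dense open. -/
theorem pow_eq_one_of_generic {C Z S : Scheme.{u}} [IsReduced Z] (g : C ⟶ Z) [IsDominant g] (p : Z ⟶ S) [IsSeparated p]
    (σ : Aut C) (τ : Aut Z) (hτ : τ.hom ≫ p = p) (hg : g ≫ τ.hom = σ.hom ≫ g) {n : ℕ} (h : σ ^ n = 1) :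
    τ ^ n = 1 := by
  have h1 : ∀ m : ℕ, g ≫ (τ ^ m).hom = (σ ^ m).hom ≫ g := by
    intro m
    induction m with
    | zero =>
      change g ≫ 𝟙 Z = 𝟙 C ≫ g
      rw [Category.comp_id, Category.id_comp]
    | succ m ih =>
      rw [pow_succ, pow_succ]
      change g ≫ (τ.hom ≫ (τ ^ m).hom) = (σ.hom ≫ (σ ^ m).hom) ≫ g
      rw [← Category.assoc, hg, Category.assoc, ih, Category.assoc]
  have h2 : ∀ m : ℕ, (τ ^ m).hom ≫ p = p := by
    intro m
    induction m with
    | zero => exact Category.id_comp p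
    | succ m ih =>
      rw [pow_succ]
      change (τ.hom ≫ (τ ^ m).hom) ≫ p = p
      rw [Category.assoc, ih, hτ]
  have h3 : (τ ^ n).hom = 𝟙 Z := by
    refine ext_of_isDominant_of_isSeparated p (by rw [h2, Category.id_comp]) g ?_
    rw [h1, h, Category.comp_id]
    exact Category.id_comp g
  exact Iso.ext h3

section

variable {R : Type u} [CommRing R] [IsDomain R] [IsDiscreteValuationRing R]
  {C : Scheme.{u}} {f : C ⟶ Spec (CommRingCat.of (FractionRing R))} {σ : C ⟶ C}

/-- Regular proper models are projective: finite sets lie in affine opens. -/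
theorem exists_affine [IrreducibleSpace C] (hC : topologicalKrullDim C = 1) {Z : Scheme.{u}}
    {p : Z ⟶ Spec (CommRingCat.of R)} {τ : Z ⟶ Z} (h : EM f σ p τ) (S : Set Z) (hS : S.Finite) :
    ∃ U : Z.Opens, IsAffineOpen U ∧ S ⊆ U := by
  have h1 := h.proper
  have h2 := h.flat
  have h3 := h.integral
  obtain ⟨g, hg, -⟩ := h.pullback
  have hM : Models.IsRegularProperModel R Z p C f :=
    ⟨⟨h.flat, inferInstance, inferInstance, g, hg⟩, h.proper, h.reg⟩
  have h1' : IsProper (Over.mk p).hom := h1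
  have h2' : Flat (Over.mk p).hom := h2
  have h3' : IsIntegral (Over.mk p).left := h3
  obtain ⟨L, hL⟩ := H54.Proj.exists_isAmple (Over.mk p) h.reg (H54.Bridge.topologicalKrullDim_eq_two hM hC)
    (fun x hx => H54.Bridge.ringKrullDim_stalk_of_isClosed hM hC x hx)
  obtain ⟨n, s, hs1, -, hs3⟩ := Groth.Agent.Ega2.FiniteSet.exists_affine_genLocus_of_finite (X := Z) hL S hS ⊤
    (fun _ _ => trivial)
  exact ⟨_, hs3, hs1⟩

end

/-- The main construction. -/
theorem main {R : Type u} [CommRing R] [IsDomain R] [IsDiscreteValuationRing R]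
    {X Y : Scheme.{u}} {fX : X ⟶ Spec (CommRingCat.of (FractionRing R))}
    {fY : Y ⟶ Spec (CommRingCat.of (FractionRing R))}
    (hX : Curve.IsSmoothProperCurve (FractionRing R) X fX) (hY : Curve.IsSmoothProperCurve (FractionRing R) Y fY)
    {f : X ⟶ Y} (hf : f ≫ fY = fX) {ℓ : ℕ} (hℓ : ℓ = 2 ∨ ℓ = 3) (hdeg : Mor2.IsFinLocFreeOfDeg ℓ f)
    (σ : Aut X) (hσ : σ.hom ≠ 𝟙 X) (hσf : σ.hom ≫ f = f) {Z : Scheme.{u}} {p : Z ⟶ Spec (CommRingCat.of R)}
    {τ : Z ⟶ Z} (hE : EM fX σ.hom p τ) (hbad : Bad τ = ∅) :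
    ∃ (XR YR : Scheme.{u}) (p : XR ⟶ Spec (CommRingCat.of R)) (q : YR ⟶ Spec (CommRingCat.of R))
      (jX : X ⟶ XR) (jY : Y ⟶ YR) (φ : XR ⟶ YR),
      IsProper p ∧ Flat p ∧ IsIntegral XR ∧ (∀ x : XR, IsRegularLocalRing (XR.presheaf.stalk x)) ∧
      IsPullback jX fX p (Spec.map (CommRingCat.ofHom (algebraMap R (FractionRing R)))) ∧
      IsProper q ∧ Flat q ∧ IsIntegral YR ∧ (∀ y : YR, IsRegularLocalRing (YR.presheaf.stalk y)) ∧
      IsPullback jY fY q (Spec.map (CommRingCat.ofHom (algebraMap R (FractionRing R)))) ∧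
      IsFinite φ ∧ φ ≫ q = p ∧ jX ≫ φ = f ≫ jY := by
  have hprime : ℓ.Prime := by
    rcases hℓ with rfl | rfl
    · exact Nat.prime_two
    · exact Nat.prime_three
  have : NeZero ℓ := ⟨hprime.ne_zero⟩
  obtain ⟨hXp, hXs, hXi, hXd⟩ := hX
  obtain ⟨hYp, hYs, hYi, hYd⟩ := hY
  obtain ⟨⟨hffin, hfflat, hffp⟩, hfrk⟩ := hdeg
  have hZp := hE.proper
  have hZf := hE.flat
  have hZi := hE.integral
  have hτi := hE.isIso
  obtain ⟨g, hg, hgτ⟩ := hE.pullback
  set i := Spec.map (CommRingCat.ofHom (algebraMap R (FractionRing R))) with hi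
  have hio : IsOpenImmersion i := DVRGeneric.isOpenImmersion_generic R (FractionRing R)
  have hgo : IsOpenImmersion g := DVRGeneric.isOpenImmersion_of_isPullback hg
  have hgd : IsDominant g := by
    refine ⟨?_⟩
    have h1 : IsOpen (Set.range g) := g.isOpenEmbedding.isOpen_range
    exact h1.dense ⟨g (genericPoint X), genericPoint X, rfl⟩
  -- the automorphisms
  have hσℓ : σ ^ ℓ = 1 := GenDeg.aut_pow_eq_one f hfrk σ hσf
  let τA : Aut Z := asIso τ
  have hτℓ : τA ^ ℓ = 1 := pow_eq_one_of_generic g p σ τA hE.comm hgτ hσℓ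
  -- the quotient
  have hXirr : IrreducibleSpace X := inferInstance
  obtain ⟨Q, π, hπ⟩ := Sga1.QuotExists.exists_isQuot (cyc τA hτℓ) (fun x => by
    obtain ⟨U, hU, hxU⟩ := exists_affine hXd hE (Set.range fun g : Gp.{u} ℓ => (cyc τA hτℓ g).hom x)
      (Set.finite_range _)
    exact ⟨U, hU, fun g => hxU ⟨g, rfl⟩⟩)
  obtain ⟨q, hq, -⟩ := existsUnique_desc hπ p (fun g => comp_eq hτℓ hE.comm g)
  replace hq : π ≫ q = p := hq
  have hπs : Surjective π := Sga1.FreeQuotSch.surjective_of_isQuot hπ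
  have hπa := hπ.affine
  have hπi := Sga1.FreeQuotSch.isIntegralHom_of_isQuot hπ
  have hπfin : IsFinite π := Sga1.QuotAffine.isFinite_of_isQuot hπ hq
  have hπflat : Flat π := FlatQuot.flat_of_isQuot hℓ τA hτℓ hπ hbad
  have hQi : IsIntegral Q := K754.QuotInt.isIntegral hπ
  have hqs : IsSeparated q := Sga1.QuotAffine.isSeparated_of_comp hq
  have hqlf : LocallyOfFiniteType q := Sga1.QuotAffine.locallyOfFiniteType_of_isQuot hπ hq
  have hqqc : QuasiCompact q := Sga1.QuotAffine.quasiCompact_of_comp hq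
  have hquc : UniversallyClosed q := by
    have : UniversallyClosed (π ≫ q) := by rw [hq]; infer_instance
    exact UniversallyClosed.of_comp_surjective π q
  have hqp : IsProper q := { }
  have hqf : Flat q := by
    have : Flat (π ≫ q) := by rw [hq]; infer_instance
    exact Sga3C.FlatOfComp.flat_of_comp π q
  have hQn : IsLocallyNoetherian Q := LocallyOfFiniteType.isLocallyNoetherian q
  have hQreg : ∀ y : Q, IsRegularLocalRing (Q.presheaf.stalk y) := by
    intro y
    obtain ⟨z, rfl⟩ := π.surjective y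
    exact RMBlow.isRegularLocalRing_stalk_of_flat π z (hE.reg z)
  -- the generic fibre of the quotient
  let a := pullback.fst q i
  let b := pullback.snd q i
  have sqQ : IsPullback a b q i := IsPullback.of_hasPullback q i
  let h : X ⟶ pullback q i := pullback.lift (g ≫ π) fX (by rw [Category.assoc, hq, hg.w])
  have hha : h ≫ a = g ≫ π := pullback.lift_fst _ _ _
  have hhb : h ≫ b = fX := pullback.lift_snd _ _ _
  have sqh : IsPullback g h π a := by
    refine IsPullback.of_bot ?_ hha.symm sqQ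
    rw [hhb, hq]
    exact hg
  have haflat : Flat a := inferInstance
  have hhfin : IsFinite h := MorphismProperty.of_isPullback sqh hπfin
  have hhflat : Flat h := MorphismProperty.of_isPullback sqh hπflat
  have hhs : Surjective h := MorphismProperty.of_isPullback sqh hπs
  have hσX : σ.hom ≫ fX = fX := by rw [← hf, ← Category.assoc, hσf]
  have hσh : σ.hom ≫ h = h := by
    apply pullback.hom_ext
    · rw [Category.assoc]
      change σ.hom ≫ h ≫ a = h ≫ a
      rw [hha, ← Category.assoc, ← hgτ, Category.assoc]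
      congr 1
      have h1 := hπ.inv (gen ℓ)
      rw [cyc_gen] at h1
      exact h1
    · rw [Category.assoc]
      change σ.hom ≫ h ≫ b = h ≫ b
      rw [hhb, hσX]
  have hquot : SGA1.IsQuot (cyc σ hσℓ) h :=
    K467.QuotFlat.isQuot_of_flat_baseChange hπ sqh (ρ' := cyc σ hσℓ)
      (fun g' => comp_eq' hσℓ hτℓ (by exact hgτ.symm) g') (fun g' => comp_eq hσℓ hσh g')
  have hinj : Function.Injective (cyc.{u} σ hσℓ) := cyc_injective hprime hσℓ (fun h1 => hσ (by rw [h1]; rfl))
  have hhrk : ∀ y, h.finrank y = ℓ := fun y => by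
    rw [K754.QuotInt.finrank_eq_card hquot fX (fun g' => comp_eq hσℓ hσX g') hinj y, card]
  obtain ⟨e, he, -⟩ := existsUnique_desc hquot f (fun g' => comp_eq hσℓ hσf g')
  replace he : h ≫ e = f := he
  have hYn : IsLocallyNoetherian Y := LocallyOfFiniteType.isLocallyNoetherian fY
  have hea : IsAffineHom e := Sga1.QuotAffine.isAffineHom_of_isQuot hquot he
  have hes : IsSeparated e := inferInstance
  have helf : LocallyOfFiniteType e := Sga1.QuotAffine.locallyOfFiniteType_of_isQuot hquot he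
  have heqc : QuasiCompact e := inferInstance
  have heuc : UniversallyClosed e := by
    have : UniversallyClosed (h ≫ e) := by rw [he]; infer_instance
    exact UniversallyClosed.of_comp_surjective h e
  have hep : IsProper e := { }
  have hefin : IsFinite e := (IsFinite.iff_isProper_and_isAffineHom).2 ⟨hep, hea⟩
  have heflat : Flat e := by
    have : Flat (h ≫ e) := by rw [he]; infer_instance
    exact Sga3C.FlatOfComp.flat_of_comp h e
  have hefp : LocallyOfFinitePresentation e := locallyOfFinitePresentation_of_isLocallyNoetherian e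
  have herk : e.finrank = 1 := by
    funext y
    have h1 := Groth.Agent.Etdl.H427.RankComp.finrank_comp h e ℓ hhrk y
    have h2 : (h ≫ e).finrank y = ℓ := by rw [he]; exact hfrk y
    rw [h2] at h1
    exact Nat.eq_of_mul_eq_mul_left hprime.pos (h1.symm.trans (mul_one ℓ).symm)
  have heiso : IsIso e := (Scheme.Hom.isIso_iff_finrank_eq e).2 herk
  have hhepi : Epi h := Flat.epi_of_flat_of_surjective h
  have hefY : e ≫ fY = b := by
    rw [← cancel_epi h, ← Category.assoc, he, hf, hhb]
  have sqY : IsPullback (inv e ≫ a) fY q i := by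
    have h1 : IsPullback (inv e) fY b (𝟙 _) :=
      IsPullback.of_horiz_isIso ⟨by rw [Category.comp_id, IsIso.inv_comp_eq, hefY]⟩
    have h2 := h1.paste_horiz sqQ
    rwa [Category.id_comp] at h2
  refine ⟨Z, Q, p, q, g, inv e ≫ a, π, hZp, hZf, hZi, hE.reg, hg, hqp, hqf, hQi, hQreg, sqY, hπfin, hq, ?_⟩
  rw [← he, Category.assoc, IsIso.hom_inv_id_assoc, hha]

end Groth.Agent.Models.K364.Fin
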