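import Groth.Agent.Models.K364.Delta
import Mathlib.RingTheory.Flat.Basic
import Mathlib.LinearAlgebra.Finsupp.Pi

/-!
# The theorem of Király and Lütkebohmert for automorphisms of order two and three

If `σ` is an automorphism of order `ℓ ∈ {2, 3}` of a domain `B` and the ideal generated by the elements `σ b - b` is
generated by `σ z - z`, then `B` is free over the invariants, with basis `1, z, …, z ^ (ℓ - 1)`.
-/

set_option autoImplicit false
universe u

open IsLocalRing

namespace Groth.Agent.Models.K364.KL

open Delta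

section

variable {A B : Type*} [CommRing A] [CommRing B] [IsDomain B] [Algebra A B] {σ : B ≃+* B} {z : B}

theorem flat_two (hinj : Function.Injective (algebraMap A B)) (hfix : ∀ a, σ (algebraMap A B a) = algebraMap A B a)
    (hinv : ∀ b, σ b = b → ∃ a, algebraMap A B a = b) (h2 : ∀ b, σ (σ b) = b)
    (hz : ∀ b, ∃ c, σ b - b = c * (σ z - z)) (hz0 : σ z - z ≠ 0) : Module.Flat A B := by
  let Φ : (Fin 2 → A) →ₗ[A] B := Fintype.linearCombination A ![(1 : B), z]
  have hΦ : ∀ v, Φ v = algebraMap A B (v 0) + algebraMap A B (v 1) * z := by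
    intro v
    simp [Φ, Fintype.linearCombination_apply, Fin.sum_univ_two, Algebra.smul_def]
  have hbij : Function.Bijective Φ := by
    constructor
    · rw [injective_iff_map_eq_zero]
      intro v hv
      rw [hΦ] at hv
      have h1 : v 1 = 0 := by
        apply hinj
        rw [map_zero]
        have h3 := congrArg σ hv
        rw [map_add, map_mul, hfix, hfix, map_zero] at h3
        have h4 : algebraMap A B (v 1) * (σ z - z) = 0 := by linear_combination h3 - hv
        exact (mul_eq_zero.1 h4).resolve_right hz0
      have h0 : v 0 = 0 := by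
        apply hinj
        rw [map_zero]
        rw [h1, map_zero, zero_mul, add_zero] at hv
        exact hv
      funext i
      fin_cases i
      exacts [h0, h1]
    · intro b
      obtain ⟨c, hc⟩ := hz b
      have hcσ : σ c = c := by
        have h3 := congrArg σ hc
        rw [map_sub, map_mul, map_sub, h2, h2] at h3
        have h4 : (σ c - c) * (σ z - z) = 0 := by linear_combination hc + h3
        exact sub_eq_zero.1 ((mul_eq_zero.1 h4).resolve_right hz0)
      obtain ⟨a1, ha1⟩ := hinv c hcσ
      obtain ⟨a0, ha0⟩ := hinv (b - c * z) (by rw [map_sub, map_mul, hcσ]; linear_combination hc)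
      refine ⟨![a0, a1], ?_⟩
      rw [hΦ]
      simp only [Matrix.cons_val_zero, Matrix.cons_val_one, ha0, ha1]
      ring
  exact Module.Flat.of_linearEquiv (LinearEquiv.ofBijective Φ hbij).symm

theorem flat_three (hinj : Function.Injective (algebraMap A B)) (hfix : ∀ a, σ (algebraMap A B a) = algebraMap A B a)
    (hinv : ∀ b, σ b = b → ∃ a, algebraMap A B a = b) (h3 : ∀ b, σ (σ (σ b)) = b)
    (hz : ∀ b, ∃ c, σ b - b = c * (σ z - z)) (hz0 : σ z - z ≠ 0) : Module.Flat A B := by
  let Φ : (Fin 3 → A) →ₗ[A] B := Fintype.linearCombination A ![(1 : B), z, z ^ 2]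
  have hΦ : ∀ v, Φ v = algebraMap A B (v 0) + algebraMap A B (v 1) * z + algebraMap A B (v 2) * z ^ 2 := by
    intro v
    simp [Φ, Fintype.linearCombination_apply, Fin.sum_univ_three, Algebra.smul_def]
  have hz1 : σ (σ z) - σ z ≠ 0 := by
    rw [← map_sub]
    exact fun h => hz0 ((map_eq_zero_iff σ σ.injective).1 h)
  have hz2 : σ (σ z) - z ≠ 0 := by
    intro h
    have h1 := congrArg σ (sub_eq_zero.1 h)
    rw [h3] at h1
    exact hz0 (by rw [← h1, sub_self])
  -- `σ ^ 2 z - z` also generates
  have hz' : ∀ b, ∃ c, σ b - b = c * (σ (σ z) - z) := by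
    intro b
    obtain ⟨t, ht⟩ := hz (σ b)
    refine ⟨-σ (σ t), ?_⟩
    have h1 := congrArg (fun w => σ (σ w)) ht
    simp only [map_sub, map_mul, h3] at h1
    linear_combination h1
  have hbij : Function.Bijective Φ := by
    constructor
    · rw [injective_iff_map_eq_zero]
      intro v hv
      rw [hΦ] at hv
      have e1 := congrArg σ hv
      simp only [map_add, map_mul, hfix, map_pow, map_zero] at e1
      have e2 : algebraMap A B (v 1) + algebraMap A B (v 2) * (z + σ z) = 0 := by
        apply mul_left_cancel₀ hz0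
        linear_combination e1 - hv
      have e3 := congrArg σ e2
      simp only [map_add, map_mul, hfix, map_zero] at e3
      have h2 : v 2 = 0 := by
        apply hinj
        rw [map_zero]
        have h4 : algebraMap A B (v 2) * (σ (σ z) - z) = 0 := by linear_combination e3 - e2
        exact (mul_eq_zero.1 h4).resolve_right hz2
      have h1 : v 1 = 0 := by
        apply hinj
        rw [map_zero]
        rwa [h2, map_zero, zero_mul, add_zero] at e2
      have h0 : v 0 = 0 := by
        apply hinj
        rw [map_zero]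
        rwa [h1, h2, map_zero, zero_mul, zero_mul, add_zero, add_zero] at hv
      funext i
      fin_cases i
      exacts [h0, h1, h2]
    · intro b
      obtain ⟨c, hc⟩ := hz b
      obtain ⟨s, hs⟩ := hz' c
      have c1 := congrArg σ hc
      have c2 := congrArg σ c1
      have s1 := congrArg σ hs
      simp only [map_sub, map_mul, h3] at c1 c2 s1
      have hsσ : σ s = s := by
        have h4 : (σ z - z) * ((σ (σ z) - z) * (s - σ s)) = 0 := by
          linear_combination (hc + c1 + c2) - (σ z - z) * hs + (z - σ (σ z)) * s1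
        have h5 := (mul_eq_zero.1 h4).resolve_left hz0
        exact (sub_eq_zero.1 ((mul_eq_zero.1 h5).resolve_left hz2)).symm
      obtain ⟨a2, ha2⟩ := hinv s hsσ
      obtain ⟨a1, ha1⟩ := hinv (c - s * (z + σ z)) (by
        simp only [map_sub, map_mul, map_add, hsσ]
        linear_combination hs)
      obtain ⟨a0, ha0⟩ := hinv (b - c * z + s * z * σ z) (by
        simp only [map_sub, map_mul, map_add, hsσ]
        linear_combination hc - σ z * hs)
      refine ⟨![a0, a1, a2], ?_⟩
      rw [hΦ]
      simp only [Matrix.cons_val_zero, Matrix.cons_val_one, Matrix.cons_val_two, Matrix.tail_cons, Matrix.head_cons,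
        ha0, ha1, ha2]
      ring
  exact Module.Flat.of_linearEquiv (LinearEquiv.ofBijective Φ hbij).symm

end

/-- In a local ring, a principal ideal of fixed points is generated by `σ z - z` for some `z`. -/
theorem exists_generator {B : Type*} [CommRing B] [IsLocalRing B] {σ : B ≃+* B} (h : (fixI σ).IsPrincipal) :
    ∃ z, ∀ b, ∃ c, σ b - b = c * (σ z - z) := by
  obtain ⟨d, hd⟩ := h
  by_cases hex : ∃ z, ∃ c, IsUnit c ∧ σ z - z = c * d
  · obtain ⟨z, c, hc, hz⟩ := hex
    refine ⟨z, fun b => ?_⟩
    have h1 := sub_mem_fixI σ b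
    rw [hd] at h1
    obtain ⟨r, hr⟩ := Submodule.mem_span_singleton.1 h1
    obtain ⟨c', hc'⟩ := hc.exists_left_inv
    refine ⟨r * c', ?_⟩
    rw [← hr, hz, smul_eq_mul]
    linear_combination (-r * d) * hc'
  · push Not at hex
    -- all `σ b - b` lie in `𝔪 d`
    have h1 : fixI σ ≤ maximalIdeal B • fixI σ := by
      apply fixI_le
      intro b
      have h1 := sub_mem_fixI σ b
      rw [hd] at h1
      obtain ⟨r, hr⟩ := Submodule.mem_span_singleton.1 h1
      have hrm : r ∈ maximalIdeal B := (mem_maximalIdeal _).2 (fun hu => hex b r hu hr.symm)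
      rw [← hr, smul_eq_mul, smul_eq_mul]
      refine Ideal.mul_mem_mul hrm ?_
      rw [hd]
      exact Submodule.mem_span_singleton_self _
    have h2 : fixI σ = ⊥ := by
      have hfg : (fixI σ).FG := ⟨{d}, by rw [hd]; simp⟩
      exact Submodule.eq_bot_of_le_smul_of_le_jacobson_bot _ _ hfg h1
        (by rw [IsLocalRing.jacobson_eq_maximalIdeal ⊥ bot_ne_top])
    refine ⟨0, fun b => ⟨0, ?_⟩⟩
    have h3 := sub_mem_fixI σ b
    rw [h2, Ideal.mem_bot] at h3
    rw [h3, zero_mul]

/-- Flatness over the invariants. -/
theorem flat_of_isPrincipal {A B : Type*} [CommRing A] [CommRing B] [IsDomain B] [IsLocalRing B] [Algebra A B]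
    {σ : B ≃+* B} (hinj : Function.Injective (algebraMap A B))
    (hfix : ∀ a, σ (algebraMap A B a) = algebraMap A B a)
    (hinv : ∀ b, σ b = b → ∃ a, algebraMap A B a = b) (hord : (∀ b, σ (σ b) = b) ∨ (∀ b, σ (σ (σ b)) = b))
    (hp : (fixI σ).IsPrincipal) : Module.Flat A B := by
  obtain ⟨z, hz⟩ := exists_generator hp
  by_cases hz0 : σ z - z = 0
  · -- `σ` is the identity
    have hσ : ∀ b, σ b = b := by
      intro b
      obtain ⟨c, hc⟩ := hz b
      rw [hz0, mul_zero] at hc
      exact sub_eq_zero.1 hc
    have hbij : Function.Bijective (algebraMap A B) := ⟨hinj, fun b => hinv b (hσ b)⟩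
    exact Module.Flat.of_linearEquiv (LinearEquiv.ofBijective (Algebra.linearMap A B) hbij).symm
  · rcases hord with h2 | h3
    · exact flat_two hinj hfix hinv h2 hz hz0
    · exact flat_three hinj hfix hinv h3 hz hz0

end Groth.Agent.Models.K364.KL
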