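import Groth.Agent.Models.K364.StepNil

/-!
# Bad points of automorphisms of order two or three disappear after finitely many quadratic transforms

`Hyp A τ`: `τ` is an automorphism of order dividing two or three of the two-dimensional regular local ring `A` whose
ideal of fixed points is not principal.  `acc`: there is no infinite sequence of quadratic transforms of such.
-/

set_option autoImplicit false
set_option linter.dupNamespace false
set_option linter.unusedSectionVars false
universe u

open IsLocalRing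

namespace Groth.Agent.Models.K364.LAcc

open Sga7.H150.Quad Delta Dat Len ChartS OrdOne StepOne StepNil

/-- A local ring with an automorphism. -/
structure LA : Type (u + 1) where
  A : Type u
  [ring : CommRing A]
  [loc : IsLocalRing A]
  τ : A ≃+* A

attribute [instance] LA.ring LA.loc

/-- An automorphism of order two or three of a two-dimensional regular local ring, whose ideal of fixed points is not
principal. -/
structure Hyp (A : Type u) [CommRing A] [IsLocalRing A] (τ : A ≃+* A) : Prop where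
  reg : IsRegularLocalRing A
  dim : ringKrullDim A = 2
  ord : (∀ c, τ (τ c) = c) ∨ (∀ c, τ (τ (τ c)) = c)
  gen : Gen τ
  bad : ¬ (fixI τ).IsPrincipal

/-- `Q` is a bad point of the quadratic transform of the bad point `P`. -/
def LRel (Q P : LA.{u}) : Prop :=
  ∃ φ : P.A →+* Q.A, IsQuad φ ∧ (∀ a, Q.τ (φ a) = φ (P.τ a)) ∧ Hyp P.A P.τ ∧ Hyp Q.A Q.τ

lemma exists_chart {A B : Type u} [CommRing A] [IsRegularLocalRing A] [CommRing B] [IsLocalRing B] [IsDomain B]
    (hA : ringKrullDim A = 2) {φ : A →+* B} {σ : A ≃+* A} {σ' : B ≃+* B} (hφ : IsQuad φ)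
    (hc : ∀ a, σ' (φ a) = φ (σ a)) {x y : A} (hxy : Ideal.span {x, y} = maximalIdeal A) :
    (∃ θ, Chart φ σ σ' x y θ) ∨ (∃ θ, Chart φ σ σ' y x θ) := by
  rcases hφ.exists_good hxy (ne_zero_left hA hxy) with ⟨θ, hθ⟩ | ⟨θ, hθ⟩
  · exact Or.inl ⟨θ, hφ.1, hxy, hθ, hc⟩
  · exact Or.inr ⟨θ, hφ.1, comm_span hxy, hθ, hc⟩

lemma exists_exact {A : Type u} [CommRing A] [IsRegularLocalRing A] [IsDomain A] [UniqueFactorizationMonoid A]
    (hA : ringKrullDim A = 2) {J : Ideal A} (hfin : Module.length A (A ⧸ J) ≠ ⊤) (h : J ≤ maximalIdeal A ^ 2) :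
    ∃ r : ℕ, 1 ≤ r ∧ J ≤ maximalIdeal A ^ (r + 1) ∧ ¬ J ≤ maximalIdeal A ^ (r + 2) := by
  obtain ⟨μ, hμ⟩ := ENat.ne_top_iff_exists.1 hfin
  have hex : ∃ n, ¬ J ≤ maximalIdeal A ^ (n + 2) := by
    refine ⟨μ, fun hcon => ?_⟩
    have h1 := length_quot_mono hcon
    rw [length_pow _ hA, ← hμ] at h1
    have h2 : (μ + 2 + 1).choose 2 ≤ μ := by exact_mod_cast h1
    have h3 := two_mul_choose (μ + 2)
    nlinarith
  classical
  let n := Nat.find hex
  have hn : 0 < n := by
    rw [Nat.pos_iff_ne_zero]
    intro h0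
    have := Nat.find_spec hex
    change ¬ J ≤ maximalIdeal A ^ (n + 2) at this
    rw [h0] at this
    exact this h
  refine ⟨n, hn, ?_, Nat.find_spec hex⟩
  obtain ⟨m, hm⟩ : ∃ m, n = m + 1 := ⟨n - 1, by omega⟩
  have := Nat.find_min hex (m := m) (by change m < n; omega)
  rw [not_not] at this
  rwa [hm]

theorem acc_aux (n : ℕ) : ∀ P : LA.{u}, Hyp P.A P.τ → (∀ g D, Dat P.τ g D → Module.length P.A (P.A ⧸ J D) ≤ n) →
    Acc LRel P := by
  induction n using Nat.strong_induction_on with
  | _ n ih =>
  intro P hP hn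
  have hreg := hP.reg
  have hdim := hP.dim
  obtain ⟨hdom, hufd⟩ := S2821.result P.A
  obtain ⟨g, D, hD⟩ := exists_dat hdim hP.gen hP.bad
  have hlen := hn g D hD
  obtain ⟨x, y, hxy⟩ := exists_generators hdim
  -- it suffices to bound the lengths of the quadratic transforms
  have key : ∀ Q : LA.{u}, Hyp Q.A Q.τ → (∀ g' D', Dat Q.τ g' D' →
      Module.length Q.A (Q.A ⧸ J D') < Module.length P.A (P.A ⧸ J D)) → Acc LRel Q := by
    intro Q hQ hlt
    have hregQ := hQ.reg
    have hdimQ := hQ.dim
    obtain ⟨hdomQ, hufdQ⟩ := S2821.result Q.A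
    obtain ⟨g', D', hD'⟩ := exists_dat hdimQ hQ.gen hQ.bad
    -- the length is independent of the choice
    have hind : ∀ g'' D'', Dat Q.τ g'' D'' → J D'' ≤ J D' := by
      intro g'' D'' hD''
      obtain ⟨a, b, hab⟩ := exists_generators hdimQ
      rw [hD''.J_eq hab]
      apply hD'.span_le_J hD''.g0
      rw [hD''.eq', hD''.eq']
      exact hQ.gen a b hab
    have hind' : ∀ g'' D'', Dat Q.τ g'' D'' → J D' ≤ J D'' := by
      intro g'' D'' hD''
      obtain ⟨a, b, hab⟩ := exists_generators hdimQ
      rw [hD'.J_eq hab]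
      apply hD''.span_le_J hD'.g0
      rw [hD'.eq', hD'.eq']
      exact hQ.gen a b hab
    obtain ⟨m, hm⟩ := ENat.ne_top_iff_exists.1 (hD'.length_ne_top hdimQ)
    have h1 := hlt g' D' hD'
    rw [← hm] at h1
    have h2 : m < n := by exact_mod_cast h1.trans_le hlen
    refine ih m h2 Q hQ fun g'' D'' hD'' => ?_
    rw [le_antisymm (hind g'' D'' hD'') (hind' g'' D'' hD''), ← hm]
  refine Acc.intro P fun Q hQP => ?_
  obtain ⟨φ, hφ, hc, -, hQ⟩ := hQP
  have hregQ := hQ.reg
  have hdimQ := hQ.dim
  obtain ⟨hdomQ, hufdQ⟩ := S2821.result Q.A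
  by_cases hJ : J D ≤ maximalIdeal P.A ^ 2
  · -- order at least two
    obtain ⟨r, hr, h1, h2⟩ := exists_exact hdim (hD.length_ne_top hdim) hJ
    refine key Q hQ fun g' D' hD' => ?_
    rcases exists_chart hdim hφ hc hxy with ⟨θ, hθ⟩ | ⟨θ, hθ⟩
    · exact hθ.step_ge_two hdim hD hD' r hr h1 h2
    · exact hθ.step_ge_two hdim hD hD' r hr h1 h2
  · -- order one
    have hscal : Scalar D x y → False := by
      intro hs
      rcases exists_chart hdim hφ hc hxy with ⟨θ, hθ⟩ | ⟨θ, hθ⟩
      · exact hQ.bad (principal_of_scalar hdim hθ hD hs)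
      · exact hQ.bad (principal_of_scalar hdim hθ hD hs.symm)
    rcases hP.ord with h2 | h3
    · exact (hscal (two_scalar hdim hD h2 hJ hxy)).elim
    · -- order three
      have hQ3 : ∀ c, Q.τ (Q.τ (Q.τ c)) = c := by
        intro c
        obtain ⟨θ, x', y', hθ⟩ : ∃ θ x' y', Chart φ P.τ Q.τ x' y' θ := by
          rcases exists_chart hdim hφ hc hxy with ⟨θ, hθ⟩ | ⟨θ, hθ⟩
          · exact ⟨θ, _, _, hθ⟩
          · exact ⟨θ, _, _, hθ⟩
        have hx0 : φ x' ≠ 0 := hθ.x_ne_zero (ne_zero_left hdim hθ.hxy)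
        have e1 : ∀ a, Q.τ (Q.τ (Q.τ (φ a))) = φ a := by
          intro a
          rw [hc, hc, hc, h3]
        have e2 : Q.τ (Q.τ (Q.τ θ)) = θ := by
          apply mul_left_cancel₀ hx0
          have h := hθ.good.eq
          calc φ x' * Q.τ (Q.τ (Q.τ θ)) = Q.τ (Q.τ (Q.τ (φ x' * θ))) := by
                rw [map_mul, map_mul, map_mul, e1]
            _ = φ x' * θ := by rw [← h, e1]
        have e3 : ∀ F : Polynomial P.A, Q.τ (Q.τ (Q.τ (F.eval₂ φ θ))) = F.eval₂ φ θ := by
          intro F
          induction F using Polynomial.induction_on' with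
          | add p q hp hq => rw [Polynomial.eval₂_add, map_add, map_add, map_add, hp, hq]
          | monomial n a =>
            rw [Polynomial.eval₂_monomial, map_mul, map_mul, map_mul, e1, map_pow, map_pow, map_pow, e2]
        obtain ⟨F, G, hG, hFG⟩ := hθ.good.frac c
        have hG0 : G.eval₂ φ θ ≠ 0 := hG.ne_zero
        apply mul_left_cancel₀ hG0
        rw [← hFG]
        conv_rhs => rw [← e3 F, hFG]
        rw [map_mul, map_mul, map_mul, e3]
      obtain ⟨w, w₁, hE1, hE2, hrel⟩ := hD.rel3 h3
      have hDg := hD.mem g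
      have hσDg : P.τ (D g) ∈ maximalIdeal P.A := map_mem hDg
      have hc₂ : (1 + D g) ^ 2 * P.τ (1 + D g) - 1 ∈ maximalIdeal P.A := by
        rw [← residue_eq_zero_iff]
        have r1 := (residue_eq_zero_iff _).2 hDg
        have r2 := (residue_eq_zero_iff _).2 hσDg
        simp only [map_sub, map_mul, map_pow, map_add, map_one, r1, r2]
        ring
      have hw₁ : w₁ - g * w ∈ maximalIdeal P.A := by
        rw [← residue_eq_zero_iff, hE2]
        have r1 := (residue_eq_zero_iff _).2 hDg
        have r2 := (residue_eq_zero_iff _).2 (hD.mem (D g))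
        simp only [map_sub, map_mul, map_add, map_one, r1, r2]
        ring
      have hc₂u : IsUnit ((1 + D g) ^ 2 * P.τ (1 + D g)) := by
        rw [← IsLocalRing.notMem_maximalIdeal]
        intro hcon
        have h4 := Ideal.sub_mem _ hcon hc₂
        rw [sub_sub_cancel] at h4
        exact (Ideal.ne_top_iff_one _).1 (Ideal.IsPrime.ne_top') h4
      rcases three_cases hdim hD hJ hrel hc₂ hw₁ hxy with ⟨hwm, hw₁m, X, Y, hXY, hYX, hX2⟩ | hs |
        ⟨p, q, r, t, e1, e2, hw, hdet, htr, hns⟩
      · -- nilpotent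
        have h2u : IsUnit (2 : P.A) := by
          rw [← IsLocalRing.notMem_maximalIdeal]
          intro h2m
          have h3m : (3 : P.A) ∈ maximalIdeal P.A := by
            rw [← residue_eq_zero_iff]
            have r1 := (residue_eq_zero_iff _).2 hDg
            have r2 := (residue_eq_zero_iff _).2 hσDg
            have r3 := (residue_eq_zero_iff _).2 hwm
            have e := congrArg (residue P.A) hE1
            simp only [map_mul, map_pow, map_add, map_one, r1, r2, r3] at e
            rw [map_ofNat]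
            linear_combination -e
          have h1 := Ideal.sub_mem _ h3m h2m
          have e : (3 : P.A) - 2 = 1 := by norm_num
          rw [e] at h1
          exact (Ideal.ne_top_iff_one _).1 (Ideal.IsPrime.ne_top') h1
        obtain ⟨k, ε, s, hε, hs, hk, hx, hkl⟩ := nil_form hdim hD hXY hYX hX2
        have hk3 : k ≠ 2 := by
          rintro rfl
          exact ne_two hdim hD hXY hYX hwm hw₁m hc₂u h2u (hrel X) hε hs hx
        obtain ⟨j, rfl⟩ : ∃ j, k = j + 3 := ⟨k - 3, by omega⟩
        rcases exists_chart hdim hφ hc hXY with ⟨θ, hθ⟩ | ⟨θ, hθ⟩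
        · exact (hQ.bad (principal_of_nil hdim hθ hD hYX hX2)).elim
        · obtain ⟨Y', X', G, E, S, hYX', hG, hE, f1, f2⟩ := lev_of_nil hdim hθ hD hYX hε hs hx hQ.bad
          refine Acc.intro Q fun R hRQ => ?_
          obtain ⟨φ', hφ', hc', -, hR⟩ := hRQ
          have hregR := hR.reg
          have hdimR := hR.dim
          obtain ⟨hdomR, hufdR⟩ := S2821.result R.A
          have h2Q : IsUnit (2 : Q.A) := by
            have := h2u.map φ
            rwa [map_ofNat] at this
          refine key R hR fun g'' D'' hD'' => ?_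
          have hle : Module.length R.A (R.A ⧸ J D'') ≤ ((j + 2 : ℕ) : ℕ∞) := by
            rcases exists_chart hdimQ hφ' hc' hYX' with ⟨θ', hθ'⟩ | ⟨θ', hθ'⟩
            · exact length_le_chart_y hdimQ hdimR hθ' hQ.gen hG hE h2Q f1 f2 hD''
            · exact length_le_chart_x hdimQ hdimR hθ' hQ.gen hG hE h2Q f1 f2 hD''
          refine hle.trans_lt (lt_of_lt_of_le ?_ hkl)
          exact_mod_cast (by omega : j + 2 < j + 3)
      · exact (hscal hs).elim
      · -- not scalar
        obtain ⟨g', D', X', Y', hD', hXY', hs'⟩ : ∃ g' D' X' Y', Dat Q.τ g' D' ∧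
            Ideal.span {X', Y'} = maximalIdeal Q.A ∧ Scalar D' X' Y' := by
          rcases exists_chart hdim hφ hc hxy with ⟨θ, hθ⟩ | ⟨θ, hθ⟩
          · obtain ⟨g', D', Y', h1, h2, h3'⟩ := scalar_of_step hdim hdimQ hθ hD hQ3 hQ.gen hQ.bad hE1 hE2 e1 e2 hw
              hdet htr hns
            exact ⟨g', D', _, Y', h1, h2, h3'⟩
          · obtain ⟨g', D', Y', h1, h2, h3'⟩ := scalar_of_step hdim hdimQ hθ hD hQ3 hQ.gen hQ.bad hE1 hE2
              (p := t) (q := r) (r := q) (t := p) (by rw [e2]; ring) (by rw [e1]; ring) hw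
              (by convert hdet using 1; ring) (by convert htr using 1; ring) (by
                rcases hns with h | h | h
                · exact Or.inr (Or.inl h)
                · exact Or.inl h
                · refine Or.inr (Or.inr fun hcon => h ?_)
                  convert neg_mem hcon using 1
                  ring)
            exact ⟨g', D', _, Y', h1, h2, h3'⟩
        refine Acc.intro Q fun R hRQ => ?_
        obtain ⟨φ', hφ', hc', -, hR⟩ := hRQ
        have hregR := hR.reg
        have hdimR := hR.dim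
        obtain ⟨hdomR, hufdR⟩ := S2821.result R.A
        exfalso
        rcases exists_chart hdimQ hφ' hc' hXY' with ⟨θ', hθ'⟩ | ⟨θ', hθ'⟩
        · exact hR.bad (principal_of_scalar hdimQ hθ' hD' hs')
        · exact hR.bad (principal_of_scalar hdimQ hθ' hD' hs'.symm)

/-- Bad points disappear after finitely many quadratic transforms. -/
theorem acc (P : LA.{u}) : Acc LRel P := by
  by_cases hP : Hyp P.A P.τ
  · have hreg := hP.reg
    have hdim := hP.dim
    obtain ⟨hdom, hufd⟩ := S2821.result P.A
    obtain ⟨g, D, hD⟩ := exists_dat hdim hP.gen hP.bad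
    obtain ⟨m, hm⟩ := ENat.ne_top_iff_exists.1 (hD.length_ne_top hdim)
    refine acc_aux m P hP fun g' D' hD' => ?_
    rw [hm]
    apply length_quot_mono
    obtain ⟨a, b, hab⟩ := exists_generators hdim
    rw [hD.J_eq hab]
    apply hD'.span_le_J hD.g0
    rw [hD.eq', hD.eq']
    exact hP.gen a b hab
  · refine Acc.intro P fun Q hQ => ?_
    obtain ⟨-, -, -, h, -⟩ := hQ
    exact (hP h).elim

end Groth.Agent.Models.K364.LAcc
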