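import Groth.Agent.Models.K364.Dat
import Groth.Agent.Ega4B.BiratReg
import Groth.Agent.Ega4late.H521.QRegSpan

/-!
# Orders and lengths in two-dimensional regular local rings

* `mem_of_mul_mem`: the order function of a regular local ring of dimension two is a valuation.
* `length_mul_le`: `length (B / (p q, c)) ≤ length (B / (p, c)) + length (B / (q, c))`.
* `length_add_le`: the estimate behind the multiplicity inequality for strict transforms.
* `length_le_of_union`: lengths over a ring all of whose elements are fractions.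
-/

set_option autoImplicit false
set_option linter.dupNamespace false
set_option linter.unusedSectionVars false
universe u

open IsLocalRing

namespace Groth.Agent.Models.K364.Len

open Sga7.H150.Quad

section order

variable {A : Type u} [CommRing A] [IsRegularLocalRing A] [IsDomain A] [UniqueFactorizationMonoid A]
  (hA : ringKrullDim A = 2) {x y : A}

include hA in
lemma isRelPrime (hxy : Ideal.span {x, y} = maximalIdeal A) : IsRelPrime x y := by
  intro d hdx hdy
  by_contra hd
  have h1 : maximalIdeal A ≤ Ideal.span {d} := by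
    rw [← hxy, Ideal.span_le]
    rintro z (rfl | rfl)
    · exact Ideal.mem_span_singleton.2 hdx
    · exact Ideal.mem_span_singleton.2 hdy
  have h2 : maximalIdeal A = Ideal.span {d} := le_antisymm h1 (by
    rw [Ideal.span_singleton_le_iff_mem]
    exact (mem_maximalIdeal _).2 hd)
  have hpr : (maximalIdeal A).IsPrincipal := ⟨⟨d, h2⟩⟩
  have h3 := Ideal.height_le_one_of_isPrincipal_of_mem_minimalPrimes (maximalIdeal A) (maximalIdeal A)
    (by rw [Ideal.minimalPrimes_eq_subsingleton_self]; rfl)
  have h5 : ((maximalIdeal A).height : WithBot ℕ∞) = 2 := by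
    rw [IsLocalRing.maximalIdeal_height_eq_ringKrullDim, hA]
  have h6 : (maximalIdeal A).height = 2 := WithBot.coe_injective h5
  rw [h6] at h3
  exact absurd h3 (by decide)

include hA in
lemma isQuasiRegular (hxy : Ideal.span {x, y} = maximalIdeal A) : CAlgX.IsQuasiRegular ![x, y] :=
  Ega4B.BiratReg.isQuasiRegular_pair (ne_zero_left hA hxy) (isRelPrime hA hxy)

include hA in
lemma mul_notMem (hxy : Ideal.span {x, y} = maximalIdeal A) {s r : ℕ} {t a : A}
    (h1 : t ∈ maximalIdeal A ^ s) (h2 : t ∉ maximalIdeal A ^ (s + 1)) (h3 : a ∈ maximalIdeal A ^ r)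
    (h4 : a ∉ maximalIdeal A ^ (r + 1)) : t * a ∉ maximalIdeal A ^ (s + r + 1) := by
  obtain ⟨P, hP, hPt, d, hd⟩ := Ega4B.BiratReg.exists_form hxy.symm h1 h2
  obtain ⟨Q, hQ, hQa, e, he⟩ := Ega4B.BiratReg.exists_form hxy.symm h3 h4
  intro hcon
  have hq := isQuasiRegular hA hxy (s + r) (P * Q) (hP.mul hQ) (by
    rw [Ega4B.BiratReg.span_range_pair, hxy, map_mul, hPt, hQa]
    exact hcon)
  have h5 : (P * Q).map (residue A) = 0 := by
    ext m
    rw [MvPolynomial.coeff_map, MvPolynomial.coeff_zero, residue_eq_zero_iff]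
    have := hq m
    rwa [Ega4B.BiratReg.span_range_pair, hxy] at this
  rw [map_mul, mul_eq_zero] at h5
  rcases h5 with h5 | h5
  · apply hd
    rw [← residue_eq_zero_iff, ← MvPolynomial.coeff_map, h5, MvPolynomial.coeff_zero]
  · apply he
    rw [← residue_eq_zero_iff, ← MvPolynomial.coeff_map, h5, MvPolynomial.coeff_zero]

lemma exists_order {t : A} {n : ℕ} (h : t ∉ maximalIdeal A ^ n) :
    ∃ s, s < n ∧ t ∈ maximalIdeal A ^ s ∧ t ∉ maximalIdeal A ^ (s + 1) := by
  induction n with
  | zero => exact absurd (by simp) h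
  | succ n ih =>
    by_cases h1 : t ∈ maximalIdeal A ^ n
    · exact ⟨n, Nat.lt_succ_self n, h1, h⟩
    · obtain ⟨s, hs, h2⟩ := ih h1
      exact ⟨s, by omega, h2⟩

include hA in
/-- The order function is a valuation. -/
theorem mem_of_mul_mem {r p : ℕ} {t a : A} (ha : a ∉ maximalIdeal A ^ (r + 1)) (h : t * a ∈ maximalIdeal A ^ p) :
    t ∈ maximalIdeal A ^ (p - r) := by
  obtain ⟨x, y, hxy⟩ := Dat.exists_generators hA
  by_contra hcon
  obtain ⟨s, hs, h1, h2⟩ := exists_order hcon
  obtain ⟨r', hr', h3, h4⟩ := exists_order ha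
  refine mul_notMem hA hxy h1 h2 h3 h4 (Ideal.pow_le_pow_right ?_ h)
  omega

include hA in
lemma coeff_mem (hxy : Ideal.span {x, y} = maximalIdeal A) {α β : A} (h : α * x + β * y ∈ maximalIdeal A ^ 2) :
    α ∈ maximalIdeal A ∧ β ∈ maximalIdeal A := by
  have h1 := Ega4late.H521.QRegSpan.mem_of_sum_mem (isQuasiRegular hA hxy) ![α, β]
  rw [Ega4B.BiratReg.span_range_pair, hxy, Fin.sum_univ_two] at h1
  have h2 := h1 h
  exact ⟨h2 0, h2 1⟩

include hA in
/-- Two elements, the first nonzero and the second not a multiple of the first modulo `𝔪 ^ 2`, generate `𝔪`. -/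
lemma span_eq_of_notMem {z t : A} (hz : z ∈ maximalIdeal A) (ht : t ∈ maximalIdeal A)
    (hz2 : z ∉ maximalIdeal A ^ 2) (h : ∀ c, t - c * z ∉ maximalIdeal A ^ 2) : Ideal.span {z, t} = maximalIdeal A := by
  obtain ⟨x, y, hxy⟩ := Dat.exists_generators hA
  have hz' := hz
  have ht' := ht
  rw [← hxy, Ideal.mem_span_pair] at hz' ht'
  obtain ⟨a, b, e1⟩ := hz'
  obtain ⟨c, d, e2⟩ := ht'
  have hle : Ideal.span {z, t} ≤ maximalIdeal A := by
    rw [Ideal.span_le]
    rintro w (rfl | rfl)
    exacts [hz, ht]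
  have hsq : ∀ {p q : A}, p ∈ maximalIdeal A → q ∈ maximalIdeal A → p * q ∈ maximalIdeal A ^ 2 := by
    intro p q hp hq
    rw [pow_two]
    exact Ideal.mul_mem_mul hp hq
  have hx := mem_left hxy
  have hy := mem_right hxy
  have hdet : IsUnit (a * d - b * c) := by
    by_contra hcon
    have hdet' : a * d - b * c ∈ maximalIdeal A := (mem_maximalIdeal _).2 hcon
    by_cases ha : a ∈ maximalIdeal A
    · by_cases hb : b ∈ maximalIdeal A
      · apply hz2
        rw [← e1]
        exact Ideal.add_mem _ (hsq ha hx) (hsq hb hy)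
      · obtain ⟨v, hv⟩ := (IsLocalRing.notMem_maximalIdeal.1 hb).exists_right_inv
        apply h (v * d)
        have hc : c ∈ maximalIdeal A := by
          have h1 : b * c ∈ maximalIdeal A := by
            have e : b * c = a * d - (a * d - b * c) := by ring
            rw [e]
            exact Ideal.sub_mem _ (Ideal.mul_mem_right _ _ ha) hdet'
          exact (Ideal.unit_mul_mem_iff_mem _ (IsLocalRing.notMem_maximalIdeal.1 hb)).1 h1
        have e : t - v * d * z = (c * x - v * d * (a * x)) + 0 := by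
          rw [← e1, ← e2]
          linear_combination (-d * y) * hv
        rw [e, add_zero]
        refine Ideal.sub_mem _ (hsq hc hx) ?_
        have e' : v * d * (a * x) = v * d * (a * x) := rfl
        exact Ideal.mul_mem_left _ _ (hsq ha hx)
    · obtain ⟨v, hv⟩ := (IsLocalRing.notMem_maximalIdeal.1 ha).exists_right_inv
      apply h (v * c)
      have e : t - v * c * z = (v * (a * d - b * c)) * y := by
        rw [← e1, ← e2]
        linear_combination (-(c * x) - d * y) * hv
      rw [e]
      exact hsq (Ideal.mul_mem_left _ _ hdet') hy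
  apply le_antisymm hle
  rw [← hxy, Ideal.span_le]
  rintro w (rfl | rfl)
  · rw [SetLike.mem_coe, ← Ideal.unit_mul_mem_iff_mem _ hdet, Ideal.mem_span_pair]
    exact ⟨d, -b, by rw [← e1, ← e2]; ring⟩
  · rw [SetLike.mem_coe, ← Ideal.unit_mul_mem_iff_mem _ hdet, Ideal.mem_span_pair]
    exact ⟨-c, a, by rw [← e1, ← e2]; ring⟩

end order

/-! ### Lengths of quotients -/

section quot

variable {A : Type u} [CommRing A]

/-- A quotient of `J` by a smaller ideal. -/
abbrev sub (J I : Ideal A) : Type u := J ⧸ Submodule.comap J.subtype I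

lemma length_eq_add {I J : Ideal A} (h : I ≤ J) :
    Module.length A (A ⧸ I) = Module.length A (A ⧸ J) + Module.length A (sub J I) := by
  rw [add_comm]
  refine Module.length_eq_add_of_exact (Submodule.mapQ _ _ J.subtype le_rfl) (Submodule.factor h) ?_
    (Submodule.factor_surjective h) ?_
  · rw [← LinearMap.ker_eq_bot, Submodule.mapQ, Submodule.ker_liftQ_eq_bot]
    intro z hz
    rw [LinearMap.mem_ker, LinearMap.comp_apply, Submodule.mkQ_apply, Submodule.Quotient.mk_eq_zero] at hz
    exact hz
  · intro z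
    obtain ⟨z, rfl⟩ := Submodule.Quotient.mk_surjective _ z
    change Submodule.Quotient.mk z = _ ↔ _
    rw [Submodule.Quotient.mk_eq_zero]
    constructor
    · intro hz
      exact ⟨Submodule.Quotient.mk ⟨z, hz⟩, rfl⟩
    · rintro ⟨w, hw⟩
      obtain ⟨w, rfl⟩ := Submodule.Quotient.mk_surjective _ w
      change Submodule.Quotient.mk (w : A) = _ at hw
      rw [Submodule.Quotient.eq] at hw
      have := Ideal.sub_mem _ w.2 (h hw)
      rwa [sub_sub_cancel] at this

lemma length_mul_le (p q c : A) : Module.length A (A ⧸ Ideal.span {p * q, c}) ≤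
    Module.length A (A ⧸ Ideal.span {p, c}) + Module.length A (A ⧸ Ideal.span {q, c}) := by
  have hle : Ideal.span {p * q, c} ≤ Ideal.span {p, c} := by
    rw [Ideal.span_le]
    rintro z (rfl | rfl)
    · exact Ideal.mul_mem_right _ _ (Ideal.subset_span (by simp))
    · exact Ideal.subset_span (by simp)
  rw [length_eq_add hle]
  gcongr
  -- the map `A / (q, c) → (p, c) / (p q, c)`
  let f : A →ₗ[A] Ideal.span {p, c} :=
    LinearMap.toSpanSingleton A (Ideal.span {p, c} : Ideal A) ⟨p, Ideal.subset_span (by simp)⟩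
  let g : (A ⧸ Ideal.span {q, c}) →ₗ[A] sub (Ideal.span {p, c}) (Ideal.span {p * q, c}) :=
    Submodule.mapQ _ _ f (by
      rw [Ideal.span_le]
      rintro z (rfl | rfl)
      · change z * p ∈ Ideal.span {p * z, c}
        exact Ideal.subset_span (by simp [mul_comm])
      · change z * p ∈ Ideal.span {p * q, z}
        exact Ideal.mul_mem_right _ _ (Ideal.subset_span (by simp)))
  refine Module.length_le_of_surjective g ?_
  intro w
  obtain ⟨⟨w, hw⟩, rfl⟩ := Submodule.Quotient.mk_surjective _ w
  obtain ⟨r, s, hrs⟩ := Ideal.mem_span_pair.1 hw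
  refine ⟨Submodule.Quotient.mk r, ?_⟩
  change Submodule.Quotient.mk (f r) = _
  rw [Submodule.Quotient.eq]
  change r * p - w ∈ Ideal.span {p * q, c}
  rw [← hrs, sub_add_cancel_left]
  exact neg_mem (Ideal.mul_mem_left _ _ (Ideal.subset_span (by simp)))

lemma length_add_le_of_comp_eq_zero {N M P : Type*} [AddCommGroup N] [AddCommGroup M] [AddCommGroup P] [Module A N]
    [Module A M] [Module A P] (f : N →ₗ[A] M) (g : M →ₗ[A] P) (hf : Function.Injective f)
    (hg : Function.Surjective g) (h : ∀ n, g (f n) = 0) :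
    Module.length A N + Module.length A P ≤ Module.length A M := by
  rw [Module.length_eq_add_of_exact (LinearMap.ker g).subtype g (Submodule.subtype_injective _) hg
    (LinearMap.exact_subtype_ker_map g)]
  gcongr
  exact Module.length_le_of_injective (f.codRestrict (LinearMap.ker g) (fun n => h n))
    (fun a b hab => hf (congrArg Subtype.val hab))

/-- The estimate behind the multiplicity inequality for strict transforms. -/
theorem length_add_le (a b : A) (I K : Ideal A) (hK : ∀ t, t * a ∈ I → t * b ∈ I → t ∈ K) :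
    Module.length A (A ⧸ (Ideal.span {a, b} * I)) + Module.length A (A ⧸ K) ≤
      Module.length A (A ⧸ Ideal.span {a, b}) + (Module.length A (A ⧸ I) + Module.length A (A ⧸ I)) := by
  set J : Ideal A := Ideal.span {a, b} with hJ
  rw [length_eq_add (Ideal.mul_le_left : J * I ≤ J), add_assoc]
  refine add_le_add le_rfl ?_
  rw [add_comm, ← Module.length_prod (R := A) (A ⧸ I) (A ⧸ I)]
  have ha : a ∈ J := Ideal.subset_span (by simp)
  have hb : b ∈ J := Ideal.subset_span (by simp)
  -- the kernel of `A → (A / I)²`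
  let f₀ : A →ₗ[A] (A ⧸ I) × (A ⧸ I) :=
    LinearMap.prod ((Submodule.mkQ I).comp (LinearMap.mulLeft A b)) (-(Submodule.mkQ I).comp (LinearMap.mulLeft A a))
  have hf₀ : ∀ t, f₀ t = (Submodule.Quotient.mk (b * t), -Submodule.Quotient.mk (a * t)) := fun t => rfl
  have hle : LinearMap.ker f₀ ≤ K := by
    intro t ht
    rw [LinearMap.mem_ker, hf₀, Prod.mk_eq_zero, neg_eq_zero, Submodule.Quotient.mk_eq_zero,
      Submodule.Quotient.mk_eq_zero] at ht
    exact hK t (by rw [mul_comm]; exact ht.2) (by rw [mul_comm]; exact ht.1)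
  have h1 : Module.length A (A ⧸ K) ≤ Module.length A (A ⧸ LinearMap.ker f₀) :=
    Module.length_le_of_surjective (Submodule.factor hle) (Submodule.factor_surjective hle)
  refine le_trans (add_le_add_left h1 _) ?_
  let f : (A ⧸ LinearMap.ker f₀) →ₗ[A] (A ⧸ I) × (A ⧸ I) := (LinearMap.ker f₀).liftQ f₀ le_rfl
  have hf : Function.Injective f := by
    rw [← LinearMap.ker_eq_bot]
    exact Submodule.ker_liftQ_eq_bot _ _ _ le_rfl
  -- the map `(A / I)² → J / J I`
  let g₁ : ∀ c : J, (A ⧸ I) →ₗ[A] sub J (J * I) := fun c => Submodule.mapQ _ _ (LinearMap.toSpanSingleton A J c) (by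
    intro t ht
    change t * (c : A) ∈ J * I
    rw [mul_comm t]
    exact Ideal.mul_mem_mul c.2 ht)
  let g : (A ⧸ I) × (A ⧸ I) →ₗ[A] sub J (J * I) := LinearMap.coprod (g₁ ⟨a, ha⟩) (g₁ ⟨b, hb⟩)
  have hg : ∀ s t : A, g (Submodule.Quotient.mk s, Submodule.Quotient.mk t) =
      Submodule.Quotient.mk (⟨s * a + t * b, Ideal.add_mem _ (Ideal.mul_mem_left _ _ ha) (Ideal.mul_mem_left _ _ hb)⟩ : J) :=
    fun s t => rfl
  refine length_add_le_of_comp_eq_zero f g hf ?_ ?_
  · intro w
    obtain ⟨⟨w, hw⟩, rfl⟩ := Submodule.Quotient.mk_surjective _ w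
    obtain ⟨r, s, hrs⟩ := Ideal.mem_span_pair.1 hw
    refine ⟨(Submodule.Quotient.mk r, Submodule.Quotient.mk s), ?_⟩
    rw [hg]
    congr 1
    exact Subtype.ext hrs
  · intro t
    obtain ⟨t, rfl⟩ := Submodule.Quotient.mk_surjective _ t
    change g (f₀ t) = 0
    rw [hf₀, ← Submodule.Quotient.mk_neg, hg, Submodule.Quotient.mk_eq_zero]
    change b * t * a + -(a * t) * b ∈ J * I
    have : b * t * a + -(a * t) * b = 0 := by ring
    rw [this]
    exact Ideal.zero_mem _

end quot

/-! ### Lengths over rings of fractions -/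

/-- Chains of submodules are detected by unit multiples. -/
theorem length_le_of_union {R : Type*} {B : Type*} {M : Type*} [CommRing R] [CommRing B] [Algebra R B]
    [AddCommGroup M] [Module R M] [Module B M] [IsScalarTower R B M] (E : ℕ → Submodule R M) (hE : Monotone E)
    (N : ℕ∞) (n₀ : ℕ) (hN : ∀ n, n₀ ≤ n → Module.length R (E n) ≤ N)
    (hu : ∀ z : M, ∃ n, ∃ s : B, IsUnit s ∧ s • z ∈ E n) : Module.length B M ≤ N := by
  rw [Module.length_eq_height]
  refine Order.height_le fun p _ => ?_
  have h1 : ∀ i : Fin p.length, ∃ (z : M) (n : ℕ), z ∈ p i.succ ∧ z ∉ p i.castSucc ∧ z ∈ E n := by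
    intro i
    obtain ⟨z, hz1, hz2⟩ := SetLike.exists_of_lt (p.strictMono (Fin.castSucc_lt_succ (i := i)))
    obtain ⟨n, s, hs, hn⟩ := hu z
    refine ⟨s • z, n, Submodule.smul_mem _ _ hz1, fun hcon => hz2 ?_, hn⟩
    obtain ⟨t, ht⟩ := hs.exists_left_inv
    have := Submodule.smul_mem _ t hcon
    rwa [smul_smul, ht, one_smul] at this
  choose z n hz1 hz2 hz3 using h1
  obtain ⟨m, hm⟩ : ∃ m, n₀ ≤ m ∧ ∀ i, n i ≤ m := by
    refine ⟨max n₀ (Finset.univ.sup n), le_max_left _ _, fun i => le_max_of_le_right ?_⟩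
    exact Finset.le_sup (f := n) (Finset.mem_univ i)
  let F : Submodule B M → Submodule R (E m) := fun P => Submodule.comap (E m).subtype (P.restrictScalars R)
  have hF : ∀ i : Fin p.length, F (p i.castSucc) < F (p i.succ) := by
    intro i
    refine lt_of_le_of_ne ?_ ?_
    · intro w hw
      exact (p.strictMono (Fin.castSucc_lt_succ (i := i))).le hw
    · intro h
      have h2 : (⟨z i, hE (hm.2 i) (hz3 i)⟩ : E m) ∈ F (p i.succ) := hz1 i
      rw [← h] at h2
      exact hz2 i h2
  let q : LTSeries (Submodule R (E m)) := ⟨p.length, fun i => F (p i), fun i => hF i⟩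
  have h3 : (q.length : ℕ∞) ≤ Order.height (⊤ : Submodule R (E m)) := Order.length_le_height le_top
  rw [← Module.length_eq_height] at h3
  exact h3.trans (hN m hm.1)

end Groth.Agent.Models.K364.Len
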