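import Groth.Agent.Models.K364.Len

/-!
# Difference operators of order one

The linear part of the reduced difference operator `D` of an automorphism of order two or three of a
two-dimensional regular local ring.
-/

set_option autoImplicit false
set_option linter.dupNamespace false
set_option linter.unusedSectionVars false
universe u

open IsLocalRing

namespace Groth.Agent.Models.K364.OrdOne

open Sga7.H150.Quad Delta Dat Len

variable {B : Type u} [CommRing B] [IsRegularLocalRing B] [IsDomain B] [UniqueFactorizationMonoid B]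
  (hB : ringKrullDim B = 2) {σ : B ≃+* B} {g : B} {D : B → B}

lemma exists_span_eq {x y z : B} (hxy : Ideal.span {x, y} = maximalIdeal B) (hz : z ∈ maximalIdeal B)
    (hz2 : z ∉ maximalIdeal B ^ 2) : ∃ t, Ideal.span {z, t} = maximalIdeal B := by
  have hz' := hz
  rw [← hxy, Ideal.mem_span_pair] at hz'
  obtain ⟨a, b, e1⟩ := hz'
  have hsq : ∀ {p q : B}, p ∈ maximalIdeal B → q ∈ maximalIdeal B → p * q ∈ maximalIdeal B ^ 2 := by
    intro p q hp hq
    rw [pow_two]
    exact Ideal.mul_mem_mul hp hq
  have hx := mem_left hxy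
  have hy := mem_right hxy
  by_cases ha : a ∈ maximalIdeal B
  · have hb : IsUnit b := by
      rw [← IsLocalRing.notMem_maximalIdeal]
      intro hb
      apply hz2
      rw [← e1]
      exact Ideal.add_mem _ (hsq ha hx) (hsq hb hy)
    refine ⟨x, le_antisymm ?_ ?_⟩
    · rw [Ideal.span_le]
      rintro w (rfl | rfl)
      exacts [hz, hx]
    · rw [← hxy, Ideal.span_le]
      rintro w (rfl | rfl)
      · exact Ideal.subset_span (by simp)
      · rw [SetLike.mem_coe, ← Ideal.unit_mul_mem_iff_mem _ hb, Ideal.mem_span_pair]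
        exact ⟨1, -a, by rw [← e1]; ring⟩
  · have ha' : IsUnit a := IsLocalRing.notMem_maximalIdeal.1 ha
    refine ⟨y, le_antisymm ?_ ?_⟩
    · rw [Ideal.span_le]
      rintro w (rfl | rfl)
      exacts [hz, hy]
    · rw [← hxy, Ideal.span_le]
      rintro w (rfl | rfl)
      · rw [SetLike.mem_coe, ← Ideal.unit_mul_mem_iff_mem _ ha', Ideal.mem_span_pair]
        exact ⟨1, -b, by rw [← e1]; ring⟩
      · exact Ideal.subset_span (by simp)

lemma mul_mem_sq {p q : B} (hp : p ∈ maximalIdeal B) (hq : q ∈ maximalIdeal B) : p * q ∈ maximalIdeal B ^ 2 := by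
  rw [pow_two]
  exact Ideal.mul_mem_mul hp hq

lemma false_of_le (hD : Dat σ g D) {t : B} (ht : t ∈ J D) (h : J D ≤ Ideal.span {t} ⊔ maximalIdeal B • J D) :
    False := by
  have h1 : J D ≤ Ideal.span {t} := Submodule.le_of_le_smul_of_le_jacobson_bot (IsNoetherian.noetherian (J D))
    (by rw [IsLocalRing.jacobson_eq_maximalIdeal ⊥ bot_ne_top]) h
  exact hD.J_not_principal t h1 ht

/-- If the relation satisfied by `D` has an invertible constant coefficient, then the linear part of `D` is
injective. -/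
theorem false_of_singular (hD : Dat σ g D) {w w₁ c₂ : B} (hw : IsUnit w)
    (hrel : ∀ c, w * D c + w₁ * D (D c) + c₂ * D (D (D c)) = 0) {x y z : B}
    (hxy : Ideal.span {x, y} = maximalIdeal B) (hz : z ∈ maximalIdeal B)
    (hz2 : z ∉ maximalIdeal B ^ 2) (hDz : D z ∈ maximalIdeal B ^ 2) : False := by
  obtain ⟨v, hv⟩ := hw.exists_right_inv
  set X := z + (v * w₁) * D z + (v * c₂) * D (D z) with hX
  have h1 : X - z ∈ maximalIdeal B ^ 2 := by
    have : X - z = (v * w₁) * D z + (v * c₂) * D (D z) := by rw [hX]; ring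
    rw [this]
    exact Ideal.add_mem _ (Ideal.mul_mem_left _ _ hDz) (Ideal.mul_mem_left _ _ (hD.mem_pow hDz))
  have h2 : D X ∈ J D * J D := by
    have : D X = σ (D z) * D (v * w₁) + σ (D (D z)) * D (v * c₂) := by
      rw [hX, hD.add, hD.add, hD.mul, hD.mul (v * c₂)]
      linear_combination v * hrel z - D z * hv
    rw [this]
    exact Ideal.add_mem _ (Ideal.mul_mem_mul (hD.map_J (mem_J D _)) (mem_J D _))
      (Ideal.mul_mem_mul (hD.map_J (mem_J D _)) (mem_J D _))
  have hXm : X ∈ maximalIdeal B := by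
    have : X = (X - z) + z := by ring
    rw [this]
    exact Ideal.add_mem _ (Ideal.pow_le_self two_ne_zero h1) hz
  have hX2 : X ∉ maximalIdeal B ^ 2 := by
    intro hcon
    apply hz2
    have : z = X - (X - z) := by ring
    rw [this]
    exact Ideal.sub_mem _ hcon h1
  obtain ⟨t, ht⟩ := exists_span_eq hxy hXm hX2
  refine false_of_le hD (mem_J D t) ?_
  conv_lhs => rw [hD.J_eq ht]
  rw [Ideal.span_le]
  rintro w' (rfl | rfl)
  · refine Ideal.mem_sup_right ?_
    rw [smul_eq_mul]
    exact Ideal.mul_mono_left hD.J_le h2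
  · exact Ideal.mem_sup_left (Ideal.mem_span_singleton_self _)

/-- The linear part of `D`. -/
lemma iter (hD : Dat σ g D) {x y p q r t : B} (hxy : Ideal.span {x, y} = maximalIdeal B)
    (e1 : D x = p * x + q * y) (e2 : D y = r * x + t * y) {z α β : B}
    (h : z - (α * x + β * y) ∈ maximalIdeal B ^ 2) :
    D z - ((α * p + β * r) * x + (α * q + β * t) * y) ∈ maximalIdeal B ^ 2 := by
  have h1 := hD.mem_pow h
  have h2 := hD.mul_sub_mem (n := 1) α (d := x) (by rw [pow_one]; exact mem_left hxy)
  have h3 := hD.mul_sub_mem (n := 1) β (d := y) (by rw [pow_one]; exact mem_right hxy)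
  have h4 := Ideal.add_mem _ h1 (Ideal.add_mem _ h2 h3)
  convert h4 using 1
  rw [hD.sub, hD.add, e1, e2]
  ring

include hB in
/-- If the determinant of the linear part of `D` is not invertible, then the linear part has a kernel. -/
lemma exists_singular (hD : Dat σ g D) {x y p q r t : B} (hxy : Ideal.span {x, y} = maximalIdeal B)
    (e1 : D x = p * x + q * y) (e2 : D y = r * x + t * y) (hdet : p * t - q * r ∈ maximalIdeal B) :
    ∃ z, z ∈ maximalIdeal B ∧ z ∉ maximalIdeal B ^ 2 ∧ D z ∈ maximalIdeal B ^ 2 := by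
  have hx := mem_left hxy
  have hy := mem_right hxy
  have key : ∀ α β : B, ¬ (α ∈ maximalIdeal B ∧ β ∈ maximalIdeal B) → α * p + β * r ∈ maximalIdeal B →
      α * q + β * t ∈ maximalIdeal B → ∃ z, z ∈ maximalIdeal B ∧ z ∉ maximalIdeal B ^ 2 ∧ D z ∈ maximalIdeal B ^ 2 := by
    intro α β h1 h2 h3
    refine ⟨α * x + β * y, Ideal.add_mem _ (Ideal.mul_mem_left _ _ hx) (Ideal.mul_mem_left _ _ hy),
      fun hcon => h1 (coeff_mem hB hxy hcon), ?_⟩
    have h4 := iter hD hxy e1 e2 (z := α * x + β * y) (α := α) (β := β) (by rw [sub_self]; exact Ideal.zero_mem _)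
    have h5 := Ideal.add_mem _ h4 (Ideal.add_mem _ (mul_mem_sq h2 hx) (mul_mem_sq h3 hy))
    convert h5 using 1
    ring
  by_cases h1 : r ∈ maximalIdeal B ∧ -p ∈ maximalIdeal B
  · by_cases h2 : t ∈ maximalIdeal B ∧ -q ∈ maximalIdeal B
    · refine key 1 0 (fun h => ?_) ?_ ?_
      · exact (Ideal.ne_top_iff_one _).1 (Ideal.IsPrime.ne_top') h.1
      · have := neg_mem h1.2
        rw [neg_neg] at this
        simpa using this
      · have := neg_mem h2.2
        rw [neg_neg] at this
        simpa using this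
    · refine key t (-q) h2 ?_ ?_
      · convert hdet using 1
        ring
      · have : t * q + -q * t = 0 := by ring
        rw [this]
        exact Ideal.zero_mem _
  · refine key r (-p) h1 ?_ ?_
    · have : r * p + -p * r = 0 := by ring
      rw [this]
      exact Ideal.zero_mem _
    · convert neg_mem hdet using 1
      ring

include hB in
/-- The matrix relation. -/
lemma matrix_rel (hD : Dat σ g D) {x y p q r t : B} (hxy : Ideal.span {x, y} = maximalIdeal B)
    (e1 : D x = p * x + q * y) (e2 : D y = r * x + t * y) {w w₁ c₂ : B}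
    (hrel : ∀ c, w * D c + w₁ * D (D c) + c₂ * D (D (D c)) = 0) :
    (w * p + w₁ * (p * p + q * r) + c₂ * ((p * p + q * r) * p + (p * q + q * t) * r) ∈ maximalIdeal B ∧
      w * q + w₁ * (p * q + q * t) + c₂ * ((p * p + q * r) * q + (p * q + q * t) * t) ∈ maximalIdeal B) ∧
    (w * r + w₁ * (r * p + t * r) + c₂ * ((r * p + t * r) * p + (r * q + t * t) * r) ∈ maximalIdeal B ∧
      w * t + w₁ * (r * q + t * t) + c₂ * ((r * p + t * r) * q + (r * q + t * t) * t) ∈ maximalIdeal B) := by
  have key : ∀ z α β : B, D z = α * x + β * y →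
      w * α + w₁ * (α * p + β * r) + c₂ * ((α * p + β * r) * p + (α * q + β * t) * r) ∈ maximalIdeal B ∧
      w * β + w₁ * (α * q + β * t) + c₂ * ((α * p + β * r) * q + (α * q + β * t) * t) ∈ maximalIdeal B := by
    intro z α β e
    have h2 := iter hD hxy e1 e2 (z := D z) (α := α) (β := β) (by rw [e, sub_self]; exact Ideal.zero_mem _)
    have h3 := iter hD hxy e1 e2 h2
    apply coeff_mem hB hxy
    have h4 := neg_mem (Ideal.add_mem _ (Ideal.mul_mem_left _ w₁ h2) (Ideal.mul_mem_left _ c₂ h3))
    convert h4 using 1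
    have h5 := hrel z
    rw [e] at h5 ⊢
    linear_combination h5
  exact ⟨key x p q e1, key y r t e2⟩

/-- The linear part of `D` is a nonzero scalar. -/
def Scalar {B : Type u} [CommRing B] [IsLocalRing B] (D : B → B) (x y : B) : Prop :=
  ∃ p q r t, D x = p * x + q * y ∧ D y = r * x + t * y ∧ q ∈ maximalIdeal B ∧ r ∈ maximalIdeal B ∧
    p - t ∈ maximalIdeal B ∧ p ∉ maximalIdeal B ∧ t ∉ maximalIdeal B

lemma Scalar.symm {B : Type u} [CommRing B] [IsLocalRing B] {D : B → B} {x y : B} (h : Scalar D x y) :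
    Scalar D y x := by
  obtain ⟨p, q, r, t, e1, e2, hq, hr, hpt, hp, ht⟩ := h
  refine ⟨t, r, q, p, by rw [e2]; ring, by rw [e1]; ring, hr, hq, ?_, ht, hp⟩
  rw [← neg_mem_iff]
  convert hpt using 1
  ring

/-- There are elements `y` and `x = D y` generating the maximal ideal, such that `D x` has order at least two. -/
def Nil {B : Type u} [CommRing B] [IsLocalRing B] (D : B → B) : Prop :=
  ∃ x y, Ideal.span {x, y} = maximalIdeal B ∧ D y = x ∧ D x ∈ maximalIdeal B ^ 2

lemma exists_notMem (hD : Dat σ g D) {x y : B} (hxy : Ideal.span {x, y} = maximalIdeal B)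
    (h1 : ¬ J D ≤ maximalIdeal B ^ 2) : ∃ z ∈ maximalIdeal B, D z ∉ maximalIdeal B ^ 2 := by
  by_contra hcon
  push Not at hcon
  apply h1
  rw [hD.J_eq hxy, Ideal.span_le]
  rintro z (rfl | rfl)
  exacts [hcon x (mem_left hxy), hcon y (mem_right hxy)]

/-- If `D y` has order one and `D (D y)` has order at least two, then `D y` and `y` generate the maximal ideal. -/
lemma span_pair_eq (hB : ringKrullDim B = 2) (hD : Dat σ g D) {y : B} (hy : y ∈ maximalIdeal B)
    (h1 : D y ∉ maximalIdeal B ^ 2)
    (h2 : D (D y) ∈ maximalIdeal B ^ 2) : Ideal.span {D y, y} = maximalIdeal B := by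
  refine span_eq_of_notMem hB (hD.mem y) hy h1 fun c hc => h1 ?_
  have h3 := hD.mem_pow hc
  rw [hD.sub] at h3
  have h4 := hD.mul_sub_mem (n := 1) c (d := D y) (by rw [pow_one]; exact hD.mem y)
  have h5 := Ideal.add_mem _ h3 (Ideal.add_mem _ h4 (Ideal.mul_mem_left _ c h2))
  convert h5 using 1
  ring

include hB in
/-- Automorphisms of order two: the linear part is scalar. -/
theorem two_scalar (hD : Dat σ g D) (h2 : ∀ c, σ (σ c) = c) (h1 : ¬ J D ≤ maximalIdeal B ^ 2) {x y : B}
    (hxy : Ideal.span {x, y} = maximalIdeal B) : Scalar D x y := by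
  obtain ⟨w, hw⟩ := hD.rel2 h2
  by_cases hwm : w ∈ maximalIdeal B
  · exfalso
    obtain ⟨z, hz, hz1⟩ := exists_notMem hD hxy h1
    have h3 : D (D z) ∈ maximalIdeal B ^ 2 := by
      rw [hw]
      exact mul_mem_sq (neg_mem hwm) (hD.mem z)
    have h4 := span_pair_eq hB hD hz hz1 h3
    refine hD.J_not_principal (D z) ?_ (mem_J D z)
    rw [hD.J_eq h4, Ideal.span_le]
    rintro t (rfl | rfl)
    · rw [SetLike.mem_coe, hw]
      exact Ideal.mul_mem_left _ _ (Ideal.mem_span_singleton_self _)
    · exact Ideal.mem_span_singleton_self _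
  · have hrel : ∀ c, w * D c + 1 * D (D c) + 0 * D (D (D c)) = 0 := by
      intro c
      rw [hw c]
      ring
    have hwu := IsLocalRing.notMem_maximalIdeal.1 hwm
    obtain ⟨p, q, e1⟩ := Ideal.mem_span_pair.1 (by rw [hxy]; exact hD.mem x : D x ∈ Ideal.span {x, y})
    obtain ⟨r, t, e2⟩ := Ideal.mem_span_pair.1 (by rw [hxy]; exact hD.mem y : D y ∈ Ideal.span {x, y})
    have hdet : p * t - q * r ∉ maximalIdeal B := by
      intro hcon
      obtain ⟨z, hz, hz2, hDz⟩ := exists_singular hB hD hxy e1.symm e2.symm hcon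
      exact false_of_singular hD hwu hrel hxy hz hz2 hDz
    obtain ⟨⟨r1, r2⟩, r3, r4⟩ := matrix_rel hB hD hxy e1.symm e2.symm hrel
    simp only [← residue_eq_zero_iff, map_add, map_mul, map_sub, map_one, map_zero] at r1 r2 r3 r4 hdet hwm
    set P := residue B p
    set Q := residue B q
    set R := residue B r
    set T := residue B t
    set W := residue B w
    have hq : Q = 0 := mul_left_cancel₀ hdet (by linear_combination T * r2 - Q * r4)
    have hr : R = 0 := mul_left_cancel₀ hdet (by linear_combination P * r3 - R * r1)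
    have hp : P = -W := by
      apply mul_left_cancel₀ hdet
      linear_combination T * r1 - Q * r3
    have ht : T = -W := by
      apply mul_left_cancel₀ hdet
      linear_combination P * r4 - R * r2
    refine ⟨p, q, r, t, e1.symm, e2.symm, (residue_eq_zero_iff _).1 hq, (residue_eq_zero_iff _).1 hr,
      (residue_eq_zero_iff _).1 ?_, fun h => hwm ?_, fun h => hwm ?_⟩
    · rw [map_sub]
      linear_combination hp - ht
    · have h' : P = 0 := (residue_eq_zero_iff _).2 h
      linear_combination hp - h'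
    · have h' : T = 0 := (residue_eq_zero_iff _).2 h
      linear_combination ht - h'

include hB in
/-- Automorphisms of order three: the linear part is nilpotent, scalar, or satisfies its quadratic relation. -/
theorem three_cases (hD : Dat σ g D) (h1 : ¬ J D ≤ maximalIdeal B ^ 2) {w w₁ c₂ : B}
    (hrel : ∀ c, w * D c + w₁ * D (D c) + c₂ * D (D (D c)) = 0) (hc₂ : c₂ - 1 ∈ maximalIdeal B)
    (hw₁ : w₁ - g * w ∈ maximalIdeal B) {x y : B} (hxy : Ideal.span {x, y} = maximalIdeal B) :
    (w ∈ maximalIdeal B ∧ w₁ ∈ maximalIdeal B ∧ Nil D) ∨ Scalar D x y ∨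
      ∃ p q r t, D x = p * x + q * y ∧ D y = r * x + t * y ∧ w ∉ maximalIdeal B ∧ p * t - q * r - w ∈ maximalIdeal B ∧
        p + t + w₁ ∈ maximalIdeal B ∧ (q ∉ maximalIdeal B ∨ r ∉ maximalIdeal B ∨ p - t ∉ maximalIdeal B) := by
  by_cases hwm : w ∈ maximalIdeal B
  · left
    have hw₁m : w₁ ∈ maximalIdeal B := by
      have : w₁ = (w₁ - g * w) + g * w := by ring
      rw [this]
      exact Ideal.add_mem _ hw₁ (Ideal.mul_mem_left _ _ hwm)
    refine ⟨hwm, hw₁m, ?_⟩
    have hc₂u : IsUnit c₂ := by
      rw [← IsLocalRing.notMem_maximalIdeal]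
      intro hcon
      have h3 := Ideal.sub_mem _ hcon hc₂
      rw [sub_sub_cancel] at h3
      exact (Ideal.ne_top_iff_one _).1 (Ideal.IsPrime.ne_top') h3
    have h3 : ∀ c, D (D (D c)) ∈ maximalIdeal B ^ 2 := by
      intro c
      rw [← Ideal.unit_mul_mem_iff_mem _ hc₂u]
      have : c₂ * D (D (D c)) = -(w * D c + w₁ * D (D c)) := by linear_combination hrel c
      rw [this]
      exact neg_mem (Ideal.add_mem _ (mul_mem_sq hwm (hD.mem _)) (mul_mem_sq hw₁m (hD.mem _)))
    obtain ⟨z, hz, hz1⟩ := exists_notMem hD hxy h1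
    have h4 : D (D z) ∈ maximalIdeal B ^ 2 := by
      by_contra hcon
      have h5 := span_pair_eq hB hD (hD.mem z) hcon (h3 z)
      obtain ⟨a, b, e⟩ := Ideal.mem_span_pair.1 (by rw [h5]; exact hz : z ∈ Ideal.span {D (D z), D z})
      -- `D z = b D (D z)` modulo `𝔪 ^ 2`, so `D (D z) ∈ 𝔪 ^ 2`
      have h6 : D z - b * D (D z) ∈ maximalIdeal B ^ 2 := by
        have h7 := hD.mul_sub_mem (n := 1) a (d := D (D z)) (by rw [pow_one]; exact hD.mem _)
        have h8 := hD.mul_sub_mem (n := 1) b (d := D z) (by rw [pow_one]; exact hD.mem _)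
        have h9 := Ideal.add_mem _ (Ideal.add_mem _ h7 h8) (Ideal.mul_mem_left _ a (h3 z))
        have h10 : D (a * D (D z)) + D (b * D z) = D z := by rw [← hD.add, e]
        convert h9 using 1
        linear_combination -h10
      have h7 := hD.mem_pow h6
      rw [hD.sub] at h7
      have h8 := hD.mul_sub_mem (n := 1) b (d := D (D z)) (by rw [pow_one]; exact hD.mem _)
      have h9 := Ideal.add_mem _ h7 (Ideal.add_mem _ h8 (Ideal.mul_mem_left _ b (h3 z)))
      apply hcon
      convert h9 using 1
      ring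
    exact ⟨D z, z, span_pair_eq hB hD hz hz1 h4, rfl, h4⟩
  · right
    have hwu := IsLocalRing.notMem_maximalIdeal.1 hwm
    obtain ⟨p, q, e1⟩ := Ideal.mem_span_pair.1 (by rw [hxy]; exact hD.mem x : D x ∈ Ideal.span {x, y})
    obtain ⟨r, t, e2⟩ := Ideal.mem_span_pair.1 (by rw [hxy]; exact hD.mem y : D y ∈ Ideal.span {x, y})
    have hdet : p * t - q * r ∉ maximalIdeal B := by
      intro hcon
      obtain ⟨z, hz, hz2, hDz⟩ := exists_singular hB hD hxy e1.symm e2.symm hcon
      exact false_of_singular hD hwu hrel hxy hz hz2 hDz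
    have hdet' := hdet
    obtain ⟨⟨r1, r2⟩, r3, r4⟩ := matrix_rel hB hD hxy e1.symm e2.symm hrel
    have hc₂' := (residue_eq_zero_iff _).2 hc₂
    rw [map_sub, map_one, sub_eq_zero] at hc₂'
    simp only [← residue_eq_zero_iff, map_add, map_mul, map_sub, hc₂'] at r1 r2 r3 r4 hdet
    set P := residue B p
    set Q := residue B q
    set R := residue B r
    set T := residue B t
    set W := residue B w
    set W₁ := residue B w₁
    have s1 : W + W₁ * P + (P * P + Q * R) = 0 := by
      apply mul_left_cancel₀ hdet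
      linear_combination T * r1 - Q * r3
    have s2 : Q * (P + T + W₁) = 0 := by
      apply mul_left_cancel₀ hdet
      linear_combination T * r2 - Q * r4
    have s3 : R * (P + T + W₁) = 0 := by
      apply mul_left_cancel₀ hdet
      linear_combination P * r3 - R * r1
    have s4 : W + W₁ * T + (R * Q + T * T) = 0 := by
      apply mul_left_cancel₀ hdet
      linear_combination P * r4 - R * r2
    have s5 : (P - T) * (P + T + W₁) = 0 := by linear_combination s1 - s4
    by_cases hs : q ∈ maximalIdeal B ∧ r ∈ maximalIdeal B ∧ p - t ∈ maximalIdeal B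
    · left
      have hp : p ∉ maximalIdeal B := by
        intro hp
        apply hdet'
        exact Ideal.sub_mem _ (Ideal.mul_mem_right _ _ hp) (Ideal.mul_mem_right _ _ hs.1)
      refine ⟨p, q, r, t, e1.symm, e2.symm, hs.1, hs.2.1, hs.2.2, hp, fun ht => hp ?_⟩
      have : p = (p - t) + t := by ring
      rw [this]
      exact Ideal.add_mem _ hs.2.2 ht
    · right
      have hs' : q ∉ maximalIdeal B ∨ r ∉ maximalIdeal B ∨ p - t ∉ maximalIdeal B := by tauto
      have s6 : P + T + W₁ = 0 := by
        rcases hs' with h | h | h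
        · rw [← residue_eq_zero_iff] at h
          exact (mul_eq_zero.1 s2).resolve_left h
        · rw [← residue_eq_zero_iff] at h
          exact (mul_eq_zero.1 s3).resolve_left h
        · rw [← residue_eq_zero_iff, map_sub] at h
          exact (mul_eq_zero.1 s5).resolve_left h
      refine ⟨p, q, r, t, e1.symm, e2.symm, hwm, (residue_eq_zero_iff _).1 ?_, (residue_eq_zero_iff _).1 ?_, hs'⟩
      · simp only [map_mul, map_sub]
        linear_combination P * s6 - s1
      · simp only [map_add]
        exact s6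

end Groth.Agent.Models.K364.OrdOne
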