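import Groth.Agent.Models.K364.StepOne

/-!
# Quadratic transforms of difference operators with nilpotent linear part

If `σ` has order three and the linear part of `D` is nilpotent (and nonzero), then the length of `B / J` drops
strictly after two quadratic transforms.
-/

set_option autoImplicit false
set_option linter.dupNamespace false
set_option linter.unusedSectionVars false
universe u

open IsLocalRing

namespace Groth.Agent.Models.K364.StepNil

open Sga7.H150.Quad Delta Dat Len ChartS OrdOne StepOne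

section form

variable {A : Type u} [CommRing A] [IsRegularLocalRing A] [IsDomain A] [UniqueFactorizationMonoid A]
  (hA : ringKrullDim A = 2) {x y : A}

include hA in
lemma not_dvd_pow (hxy : Ideal.span {x, y} = maximalIdeal A) (n : ℕ) : ¬ x ∣ y ^ n := by
  intro h
  have h1 := (prime_left hA hxy).dvd_of_dvd_pow h
  exact (mem_maximalIdeal _).1 (mem_left hxy) (isRelPrime hA hxy dvd_rfl h1)

include hA in
lemma pow_notMem (hxy : Ideal.span {x, y} = maximalIdeal A) {m n : ℕ} (hmn : m < n) : y ^ m ∉ Ideal.span {x, y ^ n} := by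
  intro h
  obtain ⟨c, d, e⟩ := Ideal.mem_span_pair.1 h
  obtain ⟨k, rfl⟩ : ∃ k, n = m + (k + 1) := ⟨n - m - 1, by omega⟩
  have hu : IsUnit (1 - d * y ^ (k + 1)) := by
    rw [← IsLocalRing.notMem_maximalIdeal]
    intro hcon
    have h1 : (1 : A) ∈ maximalIdeal A := by
      have : (1 : A) = (1 - d * y ^ (k + 1)) + d * y ^ k * y := by ring
      rw [this]
      exact Ideal.add_mem _ hcon (Ideal.mul_mem_left _ _ (mem_right hxy))
    exact (Ideal.ne_top_iff_one _).1 (Ideal.IsPrime.ne_top') h1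
  apply not_dvd_pow hA hxy m
  have h2 : x ∣ y ^ m * (1 - d * y ^ (k + 1)) := ⟨c, by linear_combination -e⟩
  exact hu.dvd_mul_right.1 h2

lemma length_max {A : Type u} [CommRing A] [IsLocalRing A] : Module.length A (A ⧸ maximalIdeal A) = 1 := by
  have : IsSimpleModule A (A ⧸ maximalIdeal A) :=
    isSimpleModule_iff_isCoatom.2 (Ideal.isMaximal_def.1 inferInstance)
  exact Module.length_eq_one A _

lemma length_top {A : Type u} [CommRing A] {I : Ideal A} (h : 1 ∈ I) : Module.length A (A ⧸ I) = 0 := by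
  have h1 : I = ⊤ := (Ideal.eq_top_iff_one I).2 h
  have : Subsingleton (A ⧸ I) := Ideal.Quotient.subsingleton_iff.2 h1
  exact Module.length_eq_zero

include hA in
lemma length_span_pow (hxy : Ideal.span {x, y} = maximalIdeal A) (k : ℕ) :
    Module.length A (A ⧸ Ideal.span {x, y ^ k}) = k := by
  induction k with
  | zero =>
    rw [length_top (Ideal.subset_span (by simp))]
    rfl
  | succ k ih =>
    apply le_antisymm
    · have h1 := length_mul_le (y ^ k) y x
      rw [← pow_succ, Set.pair_comm, Set.pair_comm (y ^ k), ih, Set.pair_comm y, hxy, length_max] at h1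
      exact_mod_cast h1
    · have hle : Ideal.span {x, y ^ (k + 1)} ≤ Ideal.span {x, y ^ k} := by
        rw [Ideal.span_le]
        rintro z (rfl | rfl)
        · exact Ideal.subset_span (by simp)
        · rw [SetLike.mem_coe, pow_succ]
          exact Ideal.mul_mem_right _ _ (Ideal.subset_span (by simp))
      rw [length_eq_add hle, ih]
      have hnt : Nontrivial (sub (Ideal.span {x, y ^ k}) (Ideal.span {x, y ^ (k + 1)})) := by
        refine ⟨Submodule.Quotient.mk ⟨y ^ k, Ideal.subset_span (by simp)⟩, 0, fun h => ?_⟩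
        rw [Submodule.Quotient.mk_eq_zero] at h
        exact pow_notMem hA hxy (Nat.lt_succ_self k) h
      have h2 : (1 : ℕ∞) ≤ Module.length A (sub (Ideal.span {x, y ^ k}) (Ideal.span {x, y ^ (k + 1)})) :=
        Order.one_le_iff_pos.2 Module.length_pos
      push_cast
      gcongr

variable {σ : A ≃+* A} {g : A} {D : A → A}

include hA in
/-- The shape of `D x`. -/
theorem nil_form (hD : Dat σ g D) (hxy : Ideal.span {x, y} = maximalIdeal A) (hy : D y = x)
    (hx : D x ∈ maximalIdeal A ^ 2) : ∃ (k : ℕ) (ε s : A), IsUnit ε ∧ s ∈ maximalIdeal A ∧ 2 ≤ k ∧ D x = ε * y ^ k + s * x ∧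
      (k : ℕ∞) ≤ Module.length A (A ⧸ J D) := by
  have hJ : J D = Ideal.span {D x, x} := by rw [hD.J_eq hxy, hy]
  obtain ⟨N, hN⟩ := hD.exists_pow_le hA
  have hmono : ∀ m n, m ≤ n → Ideal.span {x, y ^ n} ≤ Ideal.span {x, y ^ m} := by
    intro m n hmn
    rw [Ideal.span_le]
    rintro z (rfl | rfl)
    · exact Ideal.subset_span (by simp)
    · obtain ⟨c, hc⟩ := pow_dvd_pow y hmn
      rw [SetLike.mem_coe, hc]
      exact Ideal.mul_mem_right _ _ (Ideal.subset_span (by simp))
  have h2 : D x ∈ Ideal.span {x, y ^ 2} := by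
    have h1 : maximalIdeal A ^ 2 ≤ Ideal.span {x, y ^ 2} := by
      rw [pow_two, ← hxy, Ideal.span_mul_span']
      rw [Ideal.span_le]
      rintro _ ⟨a, (rfl | rfl), b, (rfl | rfl), rfl⟩
      · exact Ideal.mul_mem_left _ _ (Ideal.subset_span (by simp))
      · exact Ideal.mul_mem_right _ _ (Ideal.subset_span (by simp))
      · exact Ideal.mul_mem_left _ _ (Ideal.subset_span (by simp))
      · exact Ideal.subset_span (by simp [pow_two])
    exact h1 hx
  have hex : ∃ n, D x ∉ Ideal.span {x, y ^ (n + 1)} := by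
    refine ⟨N, fun hcon => ?_⟩
    have h3 : y ^ N ∈ J D := hN (Ideal.pow_mem_pow (mem_right hxy) N)
    have h4 : J D ≤ Ideal.span {x, y ^ (N + 1)} := by
      rw [hJ, Ideal.span_le]
      rintro z (rfl | rfl)
      · exact hcon
      · exact Ideal.subset_span (by simp)
    exact pow_notMem hA hxy (Nat.lt_succ_self N) (h4 h3)
  obtain ⟨k, hk1, hk2⟩ : ∃ k, D x ∈ Ideal.span {x, y ^ k} ∧ D x ∉ Ideal.span {x, y ^ (k + 1)} := by
    classical
    let k := Nat.find hex
    refine ⟨k, ?_, Nat.find_spec hex⟩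
    rcases Nat.eq_zero_or_pos k with h0 | h0
    · rw [h0, pow_zero]
      have : Ideal.span {x, (1 : A)} = ⊤ := (Ideal.eq_top_iff_one _).2 (Ideal.subset_span (by simp))
      rw [this]
      trivial
    · obtain ⟨m, hm⟩ : ∃ m, k = m + 1 := ⟨k - 1, by omega⟩
      have := Nat.find_min hex (m := m) (by change m < k; omega)
      rw [not_not] at this
      rwa [hm]
  have hk : 2 ≤ k := by
    by_contra hcon
    exact hk2 (hmono (k + 1) 2 (by omega) h2)
  obtain ⟨s, ε, e⟩ := Ideal.mem_span_pair.1 hk1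
  refine ⟨k, ε, s, ?_, ?_, hk, by rw [← e]; ring, ?_⟩
  · rw [← IsLocalRing.notMem_maximalIdeal]
    intro hε
    rw [← hxy] at hε
    obtain ⟨a, b, hab⟩ := Ideal.mem_span_pair.1 hε
    apply hk2
    rw [← e, ← hab, Ideal.mem_span_pair]
    exact ⟨s + a * y ^ k, b, by ring⟩
  · have h3 : s * x + 0 * y ∈ maximalIdeal A ^ 2 := by
      have : s * x + 0 * y = D x - ε * y ^ k := by rw [← e]; ring
      rw [this]
      exact Ideal.sub_mem _ hx (Ideal.mul_mem_left _ _ (Ideal.pow_le_pow_right hk (Ideal.pow_mem_pow (mem_right hxy) k)))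
    exact (coeff_mem hA hxy h3).1
  · rw [← length_span_pow hA hxy k]
    apply length_quot_mono
    rw [hJ, Ideal.span_le]
    rintro z (rfl | rfl)
    · exact hk1
    · exact Ideal.subset_span (by simp)

include hA in
/-- The exponent is at least three. -/
theorem ne_two (hD : Dat σ g D) (hxy : Ideal.span {x, y} = maximalIdeal A) (hy : D y = x) {w w₁ c₂ ε s : A}
    (hw : w ∈ maximalIdeal A) (hw₁ : w₁ ∈ maximalIdeal A) (hc₂ : IsUnit c₂) (h2 : IsUnit (2 : A))
    (hrel : w * D x + w₁ * D (D x) + c₂ * D (D (D x)) = 0) (hε : IsUnit ε) (hs : s ∈ maximalIdeal A)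
    (hx : D x = ε * y ^ 2 + s * x) : False := by
  have hxm := mem_left hxy
  have hym := mem_right hxy
  have hσx := map_mem (σ := σ) hxm
  have hσy := map_mem (σ := σ) hym
  set m := maximalIdeal A with hm
  have m3 : ∀ {p q r : A}, p ∈ m → q ∈ m → r ∈ m → p * q * r ∈ m ^ 3 := by
    intro p q r hp hq hr
    rw [pow_succ, pow_two]
    exact Ideal.mul_mem_mul (Ideal.mul_mem_mul hp hq) hr
  have m12 : ∀ {p q : A}, p ∈ m → q ∈ m ^ 2 → p * q ∈ m ^ 3 := by
    intro p q hp hq
    rw [mul_comm, pow_succ]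
    exact Ideal.mul_mem_mul hq hp
  have hDx2 : D x ∈ m ^ 2 := by
    rw [hx]
    exact Ideal.add_mem _ (Ideal.mul_mem_left _ _ (Ideal.pow_mem_pow hym 2)) (mul_mem_sq hs hxm)
  obtain ⟨s₁, s₂, hs12⟩ := Ideal.mem_span_pair.1 (by rw [hxy]; exact hs : s ∈ Ideal.span {x, y})
  -- `D s = s₂ x` modulo `𝔪 ^ 2`
  have hDs : D s - s₂ * x ∈ m ^ 2 := by
    have e : D s - s₂ * x = s₁ * D x + σ x * D s₁ + σ y * D s₂ := by
      rw [← hs12, hD.add, hD.mul, hD.mul s₂, hy]
      ring
    rw [e]
    exact Ideal.add_mem _ (Ideal.add_mem _ (Ideal.mul_mem_left _ _ hDx2) (mul_mem_sq hσx (hD.mem _)))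
      (mul_mem_sq hσy (hD.mem _))
  -- `D (D x) = 2 ε x y + κ x ^ 2` modulo `𝔪 ^ 3`
  have hDDx : D (D x) - (2 * ε * (x * y) + (g * ε + s₂) * x ^ 2) ∈ m ^ 3 := by
    have e : D (D x) - (2 * ε * (x * y) + (g * ε + s₂) * x ^ 2) =
        σ y * σ y * D ε + s * D x + g * D s * D x + x * (D s - s₂ * x) := by
      conv_lhs => rw [hx, hD.add, hD.mul, hD.mul s x, pow_two, hD.mul y y, hy, map_mul, hD.eq x, hD.eq y, hy]
      rw [hD.eq y, hy]
      ring
    rw [e]
    refine Ideal.add_mem _ (Ideal.add_mem _ (Ideal.add_mem _ (m3 hσy hσy (hD.mem _)) (m12 hs hDx2)) ?_) (m12 hxm hDs)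
    rw [mul_assoc]
    exact Ideal.mul_mem_left _ _ (m12 (hD.mem _) hDx2)
  have hDD2 : D (D x) ∈ m ^ 2 := hD.mem_pow hDx2
  -- `D (D (D x)) = 2 ε x ^ 2` modulo `𝔪 ^ 3`
  have h4 : D (D (D x)) - 2 * ε * x ^ 2 ∈ m ^ 3 := by
    have h5 := hD.mem_pow hDDx
    have h6 : D (D (D x) - (2 * ε * (x * y) + (g * ε + s₂) * x ^ 2)) =
        D (D (D x)) - (2 * ε * (x * x + σ y * D x) + σ x * σ y * D (2 * ε) + (g * ε + s₂) * (x * D x + σ x * D x) +
          σ x * σ x * D (g * ε + s₂)) := by
      rw [hD.sub, hD.add, hD.mul (2 * ε), hD.mul x y, hD.mul (g * ε + s₂), pow_two, hD.mul x x, hy, map_mul, map_mul]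
      ring
    rw [h6] at h5
    have e : D (D (D x)) - 2 * ε * x ^ 2 = (D (D (D x)) - (2 * ε * (x * x + σ y * D x) + σ x * σ y * D (2 * ε) +
        (g * ε + s₂) * (x * D x + σ x * D x) + σ x * σ x * D (g * ε + s₂))) +
        (2 * ε * (σ y * D x) + σ x * σ y * D (2 * ε) + (g * ε + s₂) * (x * D x + σ x * D x) +
          σ x * σ x * D (g * ε + s₂)) := by ring
    rw [e]
    refine Ideal.add_mem _ h5 (Ideal.add_mem _ (Ideal.add_mem _ (Ideal.add_mem _ ?_ ?_) ?_) ?_)
    · exact Ideal.mul_mem_left _ _ (m12 hσy hDx2)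
    · exact m3 hσx hσy (hD.mem _)
    · exact Ideal.mul_mem_left _ _ (Ideal.add_mem _ (m12 hxm hDx2) (m12 hσx hDx2))
    · exact m3 hσx hσx (hD.mem _)
  have h5 : D (D (D x)) ∈ m ^ 3 := by
    rw [← Ideal.unit_mul_mem_iff_mem _ hc₂]
    have e : c₂ * D (D (D x)) = -(w * D x + w₁ * D (D x)) := by linear_combination hrel
    rw [e]
    exact neg_mem (Ideal.add_mem _ (m12 hw hDx2) (m12 hw₁ hDD2))
  have h6 : x * x ∈ m ^ 3 := by
    have h7 := Ideal.sub_mem _ h5 h4
    rw [sub_sub_cancel, pow_two] at h7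
    exact (Ideal.unit_mul_mem_iff_mem _ (h2.mul hε)).1 h7
  have hx2 : x ∉ m ^ 2 := notMem_sq_left hA hxy
  exact mul_notMem hA hxy (s := 1) (r := 1) (by rwa [pow_one]) hx2 (by rwa [pow_one]) hx2 h6

end form

/-! ### The first quadratic transform -/

/-- The shape of the automorphism at the bad point of the first quadratic transform. -/
def Lev {B : Type u} [CommRing B] [IsLocalRing B] (σ : B ≃+* B) (j : ℕ) : Prop :=
  ∃ Y X G E S : B, Ideal.span {Y, X} = maximalIdeal B ∧ G ≠ 0 ∧ IsUnit E ∧ σ Y = Y + G * Y * X ∧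
    (1 + G * X) * (σ X - X) = G * (E * Y ^ (j + 2) + Y * S * X - X ^ 2)

section

variable {A B : Type u} [CommRing A] [IsRegularLocalRing A] [IsDomain A] [UniqueFactorizationMonoid A]
  (hA : ringKrullDim A = 2) [CommRing B] [IsRegularLocalRing B] [IsDomain B] [UniqueFactorizationMonoid B]
  (hB : ringKrullDim B = 2) {φ : A →+* B} {σ : A ≃+* A} {σ' : B ≃+* B} {x y : A} {θ : B} {g : A} {D : A → A}

include hA in
/-- In the chart `y = x θ` there is no bad point. -/
theorem principal_of_nil (h : Chart φ σ σ' x y θ) (hD : Dat σ g D) (hy : D y = x) (hx : D x ∈ maximalIdeal A ^ 2) :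
    (fixI σ').IsPrincipal := by
  obtain ⟨P, -, hP⟩ := exists_poly_deg h.hxy h.good.eq 2 (D x) hx
  obtain ⟨hI, -⟩ := h.fixI_pow (ne_zero_left hA h.hxy) hD 0 (α := φ x * P.eval₂ φ θ) (β := 1)
    (by rw [hP]; ring) (by rw [hy]; ring)
  have hxm := h.good.loc x (mem_left h.hxy)
  have hu : IsUnit (1 - θ * (φ x * P.eval₂ φ θ)) := by
    rw [← IsLocalRing.notMem_maximalIdeal]
    intro hcon
    have h1 : (1 : B) ∈ maximalIdeal B := by
      have : (1 : B) = (1 - θ * (φ x * P.eval₂ φ θ)) + θ * P.eval₂ φ θ * φ x := by ring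
      rw [this]
      exact Ideal.add_mem _ hcon (Ideal.mul_mem_left _ _ hxm)
    exact (Ideal.ne_top_iff_one _).1 (Ideal.IsPrime.ne_top') h1
  refine ⟨φ g, ?_⟩
  rw [hI, pow_zero, mul_one]
  apply le_antisymm
  · rw [Ideal.span_le]
    rintro _ (rfl | rfl)
    · exact Ideal.mem_span_singleton.2 ⟨_, rfl⟩
    · exact Ideal.mem_span_singleton.2 ⟨_, rfl⟩
  · rw [Submodule.span_singleton_le_iff_mem, ← Ideal.unit_mul_mem_iff_mem _ hu, mul_comm _ (φ g)]
    exact Ideal.subset_span (by simp)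

include hA in
/-- The bad point of the chart `x = y θ`. -/
theorem lev_of_nil (h : Chart φ σ σ' y x θ) (hD : Dat σ g D) (hy : D y = x) {j : ℕ} {ε s : A} (hε : IsUnit ε)
    (hs : s ∈ maximalIdeal A) (hx : D x = ε * y ^ (j + 3) + s * x) (hbad : ¬ (fixI σ').IsPrincipal) : Lev σ' j := by
  have hyx : Ideal.span {x, y} = maximalIdeal A := comm_span h.hxy
  have hy0 : y ≠ 0 := ne_zero_left hA h.hxy
  have hyB0 : φ y ≠ 0 := h.x_ne_zero hy0
  have hg0 : φ g ≠ 0 := fun h0 => hD.g0 (h.inj (h0.trans (map_zero φ).symm))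
  have hxe := h.good.eq
  obtain ⟨S, hS⟩ := h.apply_mem hs
  have hym := h.good.loc y (mem_left h.hxy)
  obtain ⟨hI, s', hs', hs1, hs2⟩ := h.fixI_pow hy0 hD 0 (α := θ)
    (β := φ ε * φ y ^ (j + 2) + φ y * S * θ) (by rw [hy, hxe]; ring)
    (by rw [hx, map_add, map_mul, map_mul, map_pow, hxe, hS]; ring)
  rw [pow_zero, mul_one] at hI hs2
  have hc : φ ε * φ y ^ (j + 2) + φ y * S * θ - θ * θ ∈ maximalIdeal B := by
    by_contra hcon
    apply hbad
    have hcu := IsLocalRing.notMem_maximalIdeal.1 hcon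
    refine ⟨φ g, ?_⟩
    rw [hI]
    apply le_antisymm
    · rw [Ideal.span_le]
      rintro _ (rfl | rfl)
      · exact Ideal.mem_span_singleton.2 ⟨_, rfl⟩
      · exact Ideal.mem_span_singleton.2 ⟨_, rfl⟩
    · rw [Submodule.span_singleton_le_iff_mem, ← Ideal.unit_mul_mem_iff_mem _ hcu, mul_comm _ (φ g)]
      exact Ideal.subset_span (by simp)
  have hθ : θ ∈ maximalIdeal B := by
    have h1 : θ * θ ∈ maximalIdeal B := by
      have : θ * θ = (φ ε * φ y ^ (j + 1) + S * θ) * φ y - (φ ε * φ y ^ (j + 2) + φ y * S * θ - θ * θ) := by ring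
      rw [this]
      exact Ideal.sub_mem _ (Ideal.mul_mem_left _ _ hym) hc
    rcases Ideal.IsPrime.mem_or_mem inferInstance h1 with h2 | h2 <;> exact h2
  have hs3 : s' = 1 + φ g * θ := by
    apply mul_left_cancel₀ hyB0
    rw [← hs1, hD.eq, hy, map_add, map_mul, hxe]
    ring
  refine ⟨φ y, θ, φ g, φ ε, S, h.good.span_eq (mem_left h.hxy) hθ, hg0, hε.map φ, ?_, ?_⟩
  · rw [h.comm, hD.eq, hy, map_add, map_mul, hxe]
    ring
  · rw [← hs3, hs2]
    ring

end

/-! ### The second quadratic transform -/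

section

variable {A B : Type u} [CommRing A] [IsRegularLocalRing A] [IsDomain A] [UniqueFactorizationMonoid A]
  (hA : ringKrullDim A = 2) [CommRing B] [IsRegularLocalRing B] [IsDomain B] [UniqueFactorizationMonoid B]
  (hB : ringKrullDim B = 2) {φ : A →+* B} {σ : A ≃+* A} {σ' : B ≃+* B} {θ : B}

include hA hB in
theorem length_le_chart_y {Y X G E S : A} {j : ℕ} (h : Chart φ σ σ' Y X θ) (hgen : Gen σ) (hG : G ≠ 0)
    (hE : IsUnit E) (h2 : IsUnit (2 : A)) (e1 : σ Y = Y + G * Y * X)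
    (e2 : (1 + G * X) * (σ X - X) = G * (E * Y ^ (j + 2) + Y * S * X - X ^ 2)) {g' : B} {D' : B → B}
    (hD' : Dat σ' g' D') : Module.length B (B ⧸ J D') ≤ ((j + 2 : ℕ) : ℕ∞) := by
  have hY0 : φ Y ≠ 0 := h.x_ne_zero (ne_zero_left hA h.hxy)
  have hG0 : φ G ≠ 0 := fun h0 => hG (h.inj (h0.trans (map_zero φ).symm))
  have hX := h.good.eq
  have hYm := h.good.loc Y (mem_left h.hxy)
  have hI := h.fixI_eq (hgen Y X h.hxy)
  have hth := h.theta_eq
  set U : B := 1 + φ G * (φ Y * θ) with hU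
  set F : B := φ E * φ Y ^ j + φ S * θ - 2 * θ ^ 2 - φ G * φ Y * θ ^ 3 with hF
  have hUu : IsUnit U := by
    rw [← IsLocalRing.notMem_maximalIdeal]
    intro hcon
    have h1 : (1 : B) ∈ maximalIdeal B := by
      have : (1 : B) = U - φ G * θ * φ Y := by rw [hU]; ring
      rw [this]
      exact Ideal.sub_mem _ hcon (Ideal.mul_mem_left _ _ hYm)
    exact (Ideal.ne_top_iff_one _).1 (Ideal.IsPrime.ne_top') h1
  have e1' : φ (σ Y - Y) = φ G * φ Y * (φ Y * θ) := by
    rw [e1, add_sub_cancel_left, map_mul, map_mul, hX]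
  have e1'' : φ (σ Y) = φ Y * U := by
    rw [e1, map_add, map_mul, map_mul, hX, hU]; ring
  have e2' : U * φ (σ X - X) = φ G * φ Y ^ 2 * (φ E * φ Y ^ j + φ S * θ - θ ^ 2) := by
    have e := congrArg φ e2
    rw [map_mul, map_mul φ G, map_sub φ (E * Y ^ (j + 2) + Y * S * X), map_add φ (E * Y ^ (j + 2)), map_add φ 1, map_one,
      map_mul φ G X, map_mul φ E, map_pow, map_mul φ (Y * S), map_mul φ Y S, map_pow, hX] at e
    rw [hU, e]
    ring
  have e3 : U ^ 2 * (σ' θ - θ) = φ G * φ Y * F := by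
    apply mul_left_cancel₀ hY0
    rw [e1'', e1'] at hth
    rw [hF]
    linear_combination U * hth + e2' + φ G * φ Y ^ 2 * θ ^ 2 * hU * (-1)
  have hI' : fixI σ' = Ideal.span {φ G * φ Y * (φ Y * θ), φ G * φ Y * F} := by
    rw [hI, e1', ← e3]
    apply le_antisymm
    · rw [Ideal.span_le]
      rintro _ (rfl | rfl)
      · exact Ideal.subset_span (by simp)
      · rw [SetLike.mem_coe, ← Ideal.unit_mul_mem_iff_mem _ (hUu.pow 2)]
        exact Ideal.subset_span (by simp)
    · rw [Ideal.span_le]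
      rintro _ (rfl | rfl)
      · exact Ideal.subset_span (by simp)
      · exact Ideal.mul_mem_left _ _ (Ideal.subset_span (by simp))
  have hle := hD'.span_le_J (mul_ne_zero hG0 hY0) hI'
  -- the bound on the exceptional curve
  let F₀ : Polynomial A := Polynomial.C (E * Y ^ j) + Polynomial.C S * Polynomial.X - Polynomial.C 2 * Polynomial.X ^ 2
  have hF₀ : F₀.eval₂ φ θ = φ E * φ Y ^ j + φ S * θ - 2 * θ ^ 2 := by
    simp only [F₀, Polynomial.eval₂_sub, Polynomial.eval₂_add, Polynomial.eval₂_mul, Polynomial.eval₂_C,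
      Polynomial.eval₂_X, Polynomial.eval₂_pow, Polynomial.eval₂_ofNat, map_mul, map_pow, map_ofNat]
  have hF₀d : F₀.natDegree ≤ 2 := by
    refine (Polynomial.natDegree_sub_le _ _).trans (max_le ?_ (Polynomial.natDegree_C_mul_X_pow_le _ _))
    refine Polynomial.natDegree_add_le_of_degree_le ?_ ?_
    · exact (Polynomial.natDegree_C _).le.trans (by norm_num)
    · exact (Polynomial.natDegree_C_mul_le S Polynomial.X).trans (Polynomial.natDegree_X_le.trans (by norm_num))
  have hF₀0 : F₀.map (residue A) ≠ 0 := by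
    intro h0
    have h3 : (F₀.map (residue A)).coeff 2 = 0 := by rw [h0, Polynomial.coeff_zero]
    rw [Polynomial.coeff_map] at h3
    have h4 : F₀.coeff 2 = -2 := by
      simp only [F₀, Polynomial.coeff_sub, Polynomial.coeff_add, Polynomial.coeff_C_mul, Polynomial.coeff_X_pow,
        Polynomial.coeff_C, Polynomial.coeff_X]
      norm_num
    rw [h4, map_neg, neg_eq_zero, residue_eq_zero_iff] at h3
    exact (mem_maximalIdeal _).1 h3 h2
  have hlen1 : Module.length B (B ⧸ Ideal.span {φ Y, F}) ≤ 2 := by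
    refine (length_quot_mono (I := Ideal.span {φ Y, F₀.eval₂ φ θ}) ?_).trans (h.length_le_natDegree F₀ hF₀0 2 hF₀d)
    rw [Ideal.span_le]
    rintro _ (rfl | rfl)
    · exact Ideal.subset_span (by simp)
    · rw [SetLike.mem_coe, hF₀, Ideal.mem_span_pair]
      exact ⟨φ G * θ ^ 3, 1, by rw [hF]; ring⟩
  have hlen2 : Module.length B (B ⧸ Ideal.span {θ, F}) ≤ j := by
    by_cases hθ : θ ∈ maximalIdeal B
    · have hYθ := comm_span (h.good.span_eq (mem_left h.hxy) hθ)
      rw [← length_span_pow hB hYθ j]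
      apply length_quot_mono
      rw [Ideal.span_le]
      rintro _ (rfl | rfl)
      · exact Ideal.subset_span (by simp)
      · rw [SetLike.mem_coe, ← Ideal.unit_mul_mem_iff_mem _ (hE.map φ), Ideal.mem_span_pair]
        exact ⟨-(φ S - 2 * θ - φ G * φ Y * θ ^ 2), 1, by rw [hF]; ring⟩
    · have hθu := IsLocalRing.notMem_maximalIdeal.1 hθ
      rw [length_top]
      · exact bot_le
      · obtain ⟨v, hv⟩ := hθu.exists_left_inv
        rw [← hv]
        exact Ideal.mul_mem_left _ _ (Ideal.subset_span (by simp))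
  refine (length_quot_mono hle).trans ((length_mul_le _ _ _).trans ?_)
  rw [add_comm j 2]
  push_cast
  exact add_le_add hlen1 hlen2

include hA hB in
theorem length_le_chart_x {Y X G E S : A} {j : ℕ} (h : Chart φ σ σ' X Y θ) (hgen : Gen σ) (hG : G ≠ 0)
    (hE : IsUnit E) (h2 : IsUnit (2 : A)) (e1 : σ Y = Y + G * Y * X)
    (e2 : (1 + G * X) * (σ X - X) = G * (E * Y ^ (j + 2) + Y * S * X - X ^ 2)) {g' : B} {D' : B → B}
    (hD' : Dat σ' g' D') : Module.length B (B ⧸ J D') ≤ ((j + 2 : ℕ) : ℕ∞) := by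
  have hX0 : φ X ≠ 0 := h.x_ne_zero (ne_zero_left hA h.hxy)
  have hG0 : φ G ≠ 0 := fun h0 => hG (h.inj (h0.trans (map_zero φ).symm))
  have hY := h.good.eq
  have hXm := h.good.loc X (mem_left h.hxy)
  have hI := h.fixI_eq (hgen X Y h.hxy)
  have hth := h.theta_eq
  have h2B : IsUnit (2 : B) := by
    have := h2.map φ
    rwa [map_ofNat] at this
  have hunit : ∀ a b : B, IsUnit a → b ∈ maximalIdeal B → IsUnit (a + b) := by
    intro a b ha hb
    rw [← IsLocalRing.notMem_maximalIdeal]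
    intro hcon
    have h1 := Ideal.sub_mem _ hcon hb
    rw [add_sub_cancel_right] at h1
    exact (mem_maximalIdeal _).1 h1 ha
  set V : B := 1 + φ G * φ X with hV
  set W : B := φ E * φ X ^ j * θ ^ (j + 2) + θ * φ S - 1 with hW
  have hVu : IsUnit V := hunit _ _ isUnit_one (Ideal.mul_mem_left _ _ hXm)
  have e1' : φ (σ Y - Y) = φ G * φ X ^ 2 * θ := by
    rw [e1, add_sub_cancel_left, map_mul, map_mul, hY]
    ring
  have e2' : V * φ (σ X - X) = φ G * φ X * (φ X * W) := by
    have e := congrArg φ e2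
    rw [map_mul, map_mul φ G, map_sub φ (E * Y ^ (j + 2) + Y * S * X), map_add φ (E * Y ^ (j + 2)), map_add φ 1, map_one,
      map_mul φ G X, map_mul φ E, map_pow, map_mul φ (Y * S), map_mul φ Y S, map_pow, hY] at e
    rw [hV, e, hW]
    ring
  have hV'u : IsUnit (V + φ G * φ X * W) := hunit _ _ hVu (by
    have : φ G * φ X * W = φ G * W * φ X := by ring
    rw [this]
    exact Ideal.mul_mem_left _ _ hXm)
  have e3 : (V + φ G * φ X * W) * (σ' θ - θ) = φ G * φ X * (θ * (V - W)) := by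
    apply mul_left_cancel₀ hX0
    have e4 : φ (σ X) = φ X + φ (σ X - X) := by rw [map_sub]; ring
    rw [e4, e1'] at hth
    linear_combination V * hth - (σ' θ - θ) * e2' - θ * e2'
  have hI' : fixI σ' = Ideal.span {φ G * φ X * (φ X * W), φ G * φ X * (θ * (V - W))} := by
    rw [hI, ← e3, ← e2']
    apply le_antisymm
    · rw [Ideal.span_le]
      rintro _ (rfl | rfl)
      · rw [SetLike.mem_coe, ← Ideal.unit_mul_mem_iff_mem _ hVu]
        exact Ideal.subset_span (by simp)
      · rw [SetLike.mem_coe, ← Ideal.unit_mul_mem_iff_mem _ hV'u]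
        exact Ideal.subset_span (by simp)
    · rw [Ideal.span_le]
      rintro _ (rfl | rfl)
      · exact Ideal.mul_mem_left _ _ (Ideal.subset_span (by simp))
      · exact Ideal.mul_mem_left _ _ (Ideal.subset_span (by simp))
  have hle := hD'.span_le_J (mul_ne_zero hG0 hX0) hI'
  by_cases hθ : θ ∈ maximalIdeal B
  · have hWu : IsUnit W := by
      have := hunit (-1) (θ * (φ E * φ X ^ j * θ ^ (j + 1) + φ S)) isUnit_one.neg (Ideal.mul_mem_right _ _ hθ)
      convert this using 1
      rw [hW]; ring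
    have hVWu : IsUnit (V - W) := by
      have := hunit 2 (φ G * φ X - θ * (φ E * φ X ^ j * θ ^ (j + 1) + φ S)) h2B
        (Ideal.sub_mem _ (Ideal.mul_mem_left _ _ hXm) (Ideal.mul_mem_right _ _ hθ))
      convert this using 1
      rw [hW, hV]; ring
    have hXθ := h.good.span_eq (mem_left h.hxy) hθ
    have hle' : maximalIdeal B ≤ J D' := by
      refine le_trans ?_ hle
      rw [← hXθ, Ideal.span_le]
      rintro _ (rfl | rfl)
      · rw [SetLike.mem_coe, ← Ideal.unit_mul_mem_iff_mem _ hWu, mul_comm W]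
        exact Ideal.subset_span (by simp)
      · rw [SetLike.mem_coe, ← Ideal.unit_mul_mem_iff_mem _ hVWu, mul_comm (V - W)]
        exact Ideal.subset_span (by simp)
    refine (length_quot_mono hle').trans ?_
    rw [length_max]
    exact_mod_cast (by omega : 1 ≤ j + 2)
  · have hθu := IsLocalRing.notMem_maximalIdeal.1 hθ
    let P : Polynomial A := Polynomial.C 2 - Polynomial.C S * Polynomial.X -
      Polynomial.C (E * X ^ j) * Polynomial.X ^ (j + 2)
    have hP : P.eval₂ φ θ = 2 - φ S * θ - φ E * φ X ^ j * θ ^ (j + 2) := by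
      simp only [P, Polynomial.eval₂_sub, Polynomial.eval₂_mul, Polynomial.eval₂_C,
        Polynomial.eval₂_X, Polynomial.eval₂_pow, Polynomial.eval₂_ofNat, map_mul, map_pow, map_ofNat]
    have hPd : P.natDegree ≤ j + 2 := by
      refine (Polynomial.natDegree_sub_le _ _).trans (max_le ?_ (Polynomial.natDegree_C_mul_X_pow_le _ _))
      refine (Polynomial.natDegree_sub_le _ _).trans (max_le ?_ ?_)
      · simp
      · exact (Polynomial.natDegree_C_mul_le S Polynomial.X).trans (Polynomial.natDegree_X_le.trans (by omega))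
    have hP0 : P.map (residue A) ≠ 0 := by
      intro h0
      have h3 : (P.map (residue A)).coeff 0 = 0 := by rw [h0, Polynomial.coeff_zero]
      rw [Polynomial.coeff_map] at h3
      have h4 : P.coeff 0 = 2 := by
        simp only [P, Polynomial.coeff_sub, Polynomial.coeff_C_mul, Polynomial.coeff_X_pow,
          Polynomial.coeff_C, Polynomial.coeff_X]
        norm_num
      rw [h4, residue_eq_zero_iff] at h3
      exact (mem_maximalIdeal _).1 h3 h2
    have hle' : Ideal.span {φ X * W, V - W} ≤ Ideal.span {φ X * W, θ * (V - W)} := by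
      rw [Ideal.span_le]
      rintro _ (rfl | rfl)
      · exact Ideal.subset_span (by simp)
      · rw [SetLike.mem_coe, ← Ideal.unit_mul_mem_iff_mem _ hθu]
        exact Ideal.subset_span (by simp)
    refine (length_quot_mono (hle'.trans hle)).trans ((length_mul_le _ _ _).trans ?_)
    have hz : Module.length B (B ⧸ Ideal.span {W, V - W}) = 0 := by
      apply length_top
      rw [← Ideal.unit_mul_mem_iff_mem _ hVu, Ideal.mem_span_pair]
      exact ⟨1, 1, by ring⟩
    rw [hz, add_zero]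
    refine (length_quot_mono (I := Ideal.span {φ X, P.eval₂ φ θ}) ?_).trans (h.length_le_natDegree P hP0 (j + 2) hPd)
    rw [Ideal.span_le]
    rintro _ (rfl | rfl)
    · exact Ideal.subset_span (by simp)
    · rw [SetLike.mem_coe, hP, Ideal.mem_span_pair]
      exact ⟨-φ G, 1, by rw [hV, hW]; ring⟩

end

end Groth.Agent.Models.K364.StepNil
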