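import Groth.Agent.Models.K364.ChartS
import Groth.Agent.Models.K364.OrdOne

/-!
# Quadratic transforms of difference operators of order one

* `principal_of_scalar`: if the linear part of `D` is a nonzero scalar, the quadratic transforms have no bad points.
* `scalar_of_step`: if `σ` has order three and the linear part of `D` is invertible and not scalar, the linear parts
  at the bad points of the quadratic transform are scalar.
-/

set_option autoImplicit false
set_option linter.dupNamespace false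
set_option linter.unusedSectionVars false
universe u

open IsLocalRing

namespace Groth.Agent.Models.K364.StepOne

open Sga7.H150.Quad Delta Dat Len ChartS OrdOne

section

variable {A B : Type u} [CommRing A] [IsRegularLocalRing A] [IsDomain A] [UniqueFactorizationMonoid A]
  (hA : ringKrullDim A = 2) [CommRing B] [IsRegularLocalRing B] [IsDomain B] [UniqueFactorizationMonoid B]
  (hB : ringKrullDim B = 2) {φ : A →+* B} {σ : A ≃+* A} {σ' : B ≃+* B} {x y : A} {θ : B} {g : A} {D : A → A}

omit [UniqueFactorizationMonoid A] [UniqueFactorizationMonoid B] [IsDomain A] [IsDomain B] in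
lemma Chart.mem_of_map (h : Chart φ σ σ' x y θ) {a : A} (ha : φ a ∈ maximalIdeal B) : a ∈ maximalIdeal A := by
  rw [mem_maximalIdeal, mem_nonunits_iff] at ha ⊢
  exact fun hu => ha (hu.map φ)

include hA in
/-- Scalar linear parts: the quadratic transforms are good. -/
theorem principal_of_scalar (h : Chart φ σ σ' x y θ) (hD : Dat σ g D) (hs : Scalar D x y) :
    (fixI σ').IsPrincipal := by
  obtain ⟨p, q, r, t, e1, e2, hq, hr, hpt, hp, -⟩ := hs
  have hy := h.good.eq
  obtain ⟨q', hq'⟩ := h.apply_mem hq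
  obtain ⟨r', hr'⟩ := h.apply_mem hr
  obtain ⟨m, hm⟩ := h.apply_mem hpt
  have hx := h.good.loc x (mem_left h.hxy)
  obtain ⟨hI, -⟩ := h.fixI_pow (ne_zero_left hA h.hxy) hD 0 (α := φ p + φ q * θ) (β := φ r + φ t * θ)
    (by rw [e1, map_add, map_mul, map_mul, hy]; ring) (by rw [e2, map_add, map_mul, map_mul, hy]; ring)
  have hα : IsUnit (φ p + φ q * θ) := by
    rw [← IsLocalRing.notMem_maximalIdeal]
    intro hcon
    apply hp
    apply Chart.mem_of_map h
    have e : φ p = (φ p + φ q * θ) - φ q * θ := by ring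
    rw [e]
    exact Ideal.sub_mem _ hcon (Ideal.mul_mem_right _ _ (h.good.loc q hq))
  have hc : φ r + φ t * θ - θ * (φ p + φ q * θ) = φ x * (r' - m * θ - q' * θ ^ 2) := by
    rw [map_sub] at hm
    linear_combination hr' - θ * hm - θ ^ 2 * hq'
  rw [hc] at hI
  refine ⟨φ g * φ x, ?_⟩
  rw [hI]
  apply le_antisymm
  · rw [Ideal.span_le]
    rintro _ (rfl | rfl)
    · rw [SetLike.mem_coe, Ideal.submodule_span_eq, Ideal.mem_span_singleton]
      exact ⟨φ p + φ q * θ, by ring⟩
    · rw [SetLike.mem_coe, Ideal.submodule_span_eq, Ideal.mem_span_singleton]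
      exact ⟨r' - m * θ - q' * θ ^ 2, by ring⟩
  · rw [Submodule.span_singleton_le_iff_mem]
    rw [← Ideal.unit_mul_mem_iff_mem _ hα]
    have e : (φ p + φ q * θ) * (φ g * φ x) = φ g * φ x ^ 0 * (φ x * (φ p + φ q * θ)) := by ring
    rw [e]
    exact Ideal.subset_span (by simp)

omit [UniqueFactorizationMonoid A] [UniqueFactorizationMonoid B] [IsDomain A] [IsDomain B] in
/-- A polynomial with a simple zero is a parameter. -/
lemma span_eq_of_deriv (h : Chart φ σ σ' x y θ) {F : Polynomial A} (hF : F.eval₂ φ θ ∈ maximalIdeal B)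
    (hF' : F.derivative.eval₂ φ θ ∉ maximalIdeal B) : Ideal.span {φ x, F.eval₂ φ θ} = maximalIdeal B := by
  have hG := h.good
  have hx := mem_left h.hxy
  have hloc : IsLocalHom φ := by
    constructor
    intro a ha
    by_contra hna
    exact hG.loc a ((mem_maximalIdeal a).2 hna) ha
  let ψ : Polynomial (ResidueField A) →+* ResidueField B :=
    Polynomial.eval₂RingHom (ResidueField.map φ) (residue B θ)
  have hψ : ∀ P : Polynomial A, ψ (P.map (residue A)) = residue B (P.eval₂ φ θ) := by
    intro P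
    change Polynomial.eval₂ _ _ (P.map (residue A)) = _
    rw [Polynomial.eval₂_map, Polynomial.hom_eval₂]
    rfl
  obtain ⟨y0, hy0⟩ := (IsPrincipalIdealRing.principal (RingHom.ker ψ)).principal
  obtain ⟨Y, hY⟩ := Polynomial.map_surjective (residue A) residue_surjective y0
  have hxK : φ x ∈ Ideal.span {φ x, F.eval₂ φ θ} := Ideal.subset_span (by simp)
  have hsub : ∀ P : Polynomial A, P.map (residue A) = 0 → P.eval₂ φ θ ∈ Ideal.span {φ x, F.eval₂ φ θ} := by
    intro P hP
    have h1 := hG.eval_mem hP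
    have h2 : Ideal.span {φ x} ≤ Ideal.span {φ x, F.eval₂ φ θ} := by rwa [Ideal.span_singleton_le_iff_mem]
    exact h2 h1
  -- `F = Y H`
  have h1 : F.map (residue A) ∈ RingHom.ker ψ := by
    rw [RingHom.mem_ker, hψ, residue_eq_zero_iff]
    exact hF
  have hy0' : ψ y0 = 0 := by
    rw [← RingHom.mem_ker, hy0]
    exact Submodule.mem_span_singleton_self _
  rw [hy0, Submodule.mem_span_singleton] at h1
  obtain ⟨k, hk⟩ := h1
  obtain ⟨H, rfl⟩ := Polynomial.map_surjective (residue A) residue_surjective k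
  have hH : IsUnit (H.eval₂ φ θ) := by
    rw [← IsLocalRing.notMem_maximalIdeal]
    intro hcon
    apply hF'
    rw [← residue_eq_zero_iff, ← hψ, ← Polynomial.derivative_map, ← hk, smul_eq_mul, Polynomial.derivative_mul,
      map_add, map_mul, map_mul, hψ H, (residue_eq_zero_iff _).2 hcon, hy0']
    ring
  have hYm : Y.eval₂ φ θ ∈ Ideal.span {φ x, F.eval₂ φ θ} := by
    rw [← Ideal.unit_mul_mem_iff_mem _ hH]
    have h3 : (F - H * Y).map (residue A) = 0 := by
      rw [Polynomial.map_sub, Polynomial.map_mul, hY, ← hk, smul_eq_mul, sub_self]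
    have h4 := hsub _ h3
    rw [Polynomial.eval₂_sub, Polynomial.eval₂_mul] at h4
    have h5 : F.eval₂ φ θ ∈ Ideal.span {φ x, F.eval₂ φ θ} := Ideal.subset_span (by simp)
    have h6 := Ideal.sub_mem _ h5 h4
    rwa [sub_sub_cancel] at h6
  apply le_antisymm
  · rw [Ideal.span_le]
    rintro z (rfl | rfl)
    · exact hG.loc x hx
    · exact hF
  · intro z hz
    obtain ⟨P, Q, hQ, hPQ⟩ := hG.frac z
    have h1 : P.eval₂ φ θ ∈ maximalIdeal B := by rw [hPQ]; exact Ideal.mul_mem_left _ _ hz
    have h2 : P.map (residue A) ∈ RingHom.ker ψ := by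
      rw [RingHom.mem_ker, hψ, residue_eq_zero_iff]
      exact h1
    rw [hy0, Submodule.mem_span_singleton] at h2
    obtain ⟨r, hr⟩ := h2
    obtain ⟨R, rfl⟩ := Polynomial.map_surjective (residue A) residue_surjective r
    have h3 : (P - R * Y).map (residue A) = 0 := by
      rw [Polynomial.map_sub, Polynomial.map_mul, hY, ← hr, smul_eq_mul, sub_self]
    have h4 := hsub _ h3
    rw [Polynomial.eval₂_sub, Polynomial.eval₂_mul] at h4
    have h5 := Ideal.add_mem _ h4 (Ideal.mul_mem_left _ (R.eval₂ φ θ) hYm)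
    rw [sub_add_cancel, hPQ] at h5
    exact (Ideal.unit_mul_mem_iff_mem _ hQ).1 h5

include hA hB in
/-- Invertible non-scalar linear parts: the linear parts at the bad points of the quadratic transform are scalar. -/
theorem scalar_of_step (h : Chart φ σ σ' x y θ) (hD : Dat σ g D) (hσ' : ∀ c, σ' (σ' (σ' c)) = c)
    (hgen : Gen σ') (hbad : ¬ (fixI σ').IsPrincipal) {w w₁ : A}
    (hE1 : g ^ 2 * w = 1 + (1 + D g) + (1 + D g) * σ (1 + D g)) (hE2 : w₁ = (1 + D g) * (g * w + D (D g)))
    {p q r t : A} (e1 : D x = p * x + q * y) (e2 : D y = r * x + t * y) (hw : w ∉ maximalIdeal A)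
    (hdet : p * t - q * r - w ∈ maximalIdeal A) (htr : p + t + w₁ ∈ maximalIdeal A)
    (hns : q ∉ maximalIdeal A ∨ r ∉ maximalIdeal A ∨ p - t ∉ maximalIdeal A) :
    ∃ g' D' Y, Dat σ' g' D' ∧ Ideal.span {φ x, Y} = maximalIdeal B ∧ Scalar D' (φ x) Y := by
  have hx0 : φ x ≠ 0 := h.x_ne_zero (ne_zero_left hA h.hxy)
  have hg0 : φ g ≠ 0 := fun h0 => hD.g0 (h.inj (h0.trans (map_zero φ).symm))
  have hy := h.good.eq
  have hxm := h.good.loc x (mem_left h.hxy)
  set α : B := φ p + φ q * θ with hα
  set c : B := φ r + φ t * θ - θ * α with hc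
  obtain ⟨hI, s, hs, hs1, hs2⟩ := h.fixI_pow (ne_zero_left hA h.hxy) hD 0 (α := α) (β := φ r + φ t * θ)
    (by rw [e1, map_add, map_mul, map_mul, hy]; ring) (by rw [e2, map_add, map_mul, map_mul, hy]; ring)
  rw [← hc] at hI hs2
  rw [pow_zero, mul_one] at hI hs2
  -- the bad point
  have hcm : c ∈ maximalIdeal B := by
    by_contra hcon
    apply hbad
    have hcu := IsLocalRing.notMem_maximalIdeal.1 hcon
    refine ⟨φ g, ?_⟩
    rw [hI]
    apply le_antisymm
    · rw [Ideal.span_le]
      rintro _ (rfl | rfl)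
      · exact Ideal.mem_span_singleton.2 ⟨_, rfl⟩
      · exact Ideal.mem_span_singleton.2 ⟨_, rfl⟩
    · rw [Submodule.span_singleton_le_iff_mem, ← Ideal.unit_mul_mem_iff_mem _ hcu, mul_comm c]
      exact Ideal.subset_span (by simp)
  -- consequences for the coefficients
  have hw' : φ w ∉ maximalIdeal B := fun hcon => hw (Chart.mem_of_map h hcon)
  have r1 := (residue_eq_zero_iff _).2 (h.good.loc _ hdet)
  have r2 := (residue_eq_zero_iff _).2 (h.good.loc _ htr)
  have r3 := (residue_eq_zero_iff _).2 hcm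
  have hwr : residue B (φ w) ≠ 0 := fun h0 => hw' ((residue_eq_zero_iff _).1 h0)
  have hDg : D g ∈ maximalIdeal A := hD.mem g
  have hE1' : residue B (φ g) ^ 2 * residue B (φ w) = 3 := by
    have e := congrArg (fun z => residue B (φ z)) hE1
    have e3 : residue B (φ (D g)) = 0 := (residue_eq_zero_iff _).2 (h.good.loc _ hDg)
    have e4 : residue B (φ (σ (D g))) = 0 := (residue_eq_zero_iff _).2 (h.good.loc _ (map_mem hDg))
    simp only [map_mul, map_pow, map_add, map_one, e3, e4] at e
    rw [e]
    norm_num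
  have hE2' : residue B (φ w₁) = residue B (φ g) * residue B (φ w) := by
    have e := congrArg (fun z => residue B (φ z)) hE2
    have e3 : residue B (φ (D g)) = 0 := (residue_eq_zero_iff _).2 (h.good.loc _ hDg)
    have e4 : residue B (φ (D (D g))) = 0 := (residue_eq_zero_iff _).2 (h.good.loc _ (hD.mem _))
    simp only [map_mul, map_add, map_one, e3, e4] at e
    rw [e]
    ring
  simp only [map_add, map_sub, map_mul] at r1 r2
  set P := residue B (φ p)
  set Q := residue B (φ q)
  set R := residue B (φ r)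
  set T := residue B (φ t)
  set W := residue B (φ w)
  set W₁ := residue B (φ w₁)
  set Γ := residue B (φ g)
  set Θ := residue B θ
  set a := residue B α with ha
  have ha' : a = P + Q * Θ := by rw [ha, hα, map_add, map_mul]
  have r3' : R + T * Θ - Θ * a = 0 := by
    rw [hc, map_sub, map_add, map_mul, map_mul] at r3
    exact r3
  have hchar : a ^ 2 + W₁ * a + W = 0 := by
    linear_combination (-Q) * r3' - r1 + a * r2 + (a - T) * ha'
  have hdisc : (W₁ + 2 * a) ^ 2 = -W := by
    linear_combination 4 * hchar + (W₁ + Γ * W) * hE2' + W * hE1'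
  have hdisc' : W₁ + 2 * a ≠ 0 := by
    intro h0
    rw [h0] at hdisc
    apply hwr
    linear_combination hdisc
  have ha0 : a ≠ 0 := by
    intro h0
    apply hwr
    rw [h0] at hchar
    linear_combination hchar
  have hαu : IsUnit α := IsLocalRing.notMem_maximalIdeal.1 (fun hcon => ha0 ((residue_eq_zero_iff _).2 hcon))
  -- `c` is a parameter
  let F : Polynomial A := Polynomial.C r + Polynomial.C (t - p) * Polynomial.X - Polynomial.C q * Polynomial.X ^ 2
  have hFe : F.eval₂ φ θ = c := by
    simp only [F, Polynomial.eval₂_sub, Polynomial.eval₂_add, Polynomial.eval₂_mul, Polynomial.eval₂_C,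
      Polynomial.eval₂_X, Polynomial.eval₂_pow, map_sub, hc, hα]
    ring
  have hFd : F.derivative.eval₂ φ θ = φ (t - p) - 2 * φ q * θ := by
    simp only [F, Polynomial.derivative_sub, Polynomial.derivative_add, Polynomial.derivative_mul,
      Polynomial.derivative_C, Polynomial.derivative_X, Polynomial.derivative_X_sq,
      Polynomial.eval₂_sub, Polynomial.eval₂_add, Polynomial.eval₂_mul, Polynomial.eval₂_C,
      Polynomial.eval₂_X, map_sub, Polynomial.eval₂_zero, Polynomial.eval₂_ofNat, map_ofNat,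
      zero_mul, zero_add, mul_one]
    ring
  have hn : Ideal.span {φ x, c} = maximalIdeal B := by
    rw [← hFe]
    refine span_eq_of_deriv h (by rw [hFe]; exact hcm) ?_
    rw [hFd, ← residue_eq_zero_iff]
    intro h0
    simp only [map_sub, map_mul, map_ofNat] at h0
    apply hdisc'
    linear_combination r2 - h0 + 2 * ha'
  -- the difference operator of the quadratic transform
  have hI' : fixI σ' = Ideal.span {φ g * φ x, φ g * c} := by
    rw [hI]
    apply le_antisymm
    · rw [Ideal.span_le]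
      rintro _ (rfl | rfl)
      · rw [SetLike.mem_coe, ← mul_assoc]
        exact Ideal.mul_mem_right _ _ (Ideal.subset_span (by simp))
      · exact Ideal.subset_span (by simp)
    · rw [Ideal.span_le]
      rintro _ (rfl | rfl)
      · rw [SetLike.mem_coe, ← Ideal.unit_mul_mem_iff_mem _ hαu]
        have : α * (φ g * φ x) = φ g * (φ x * α) := by ring
        rw [this]
        exact Ideal.subset_span (by simp)
      · exact Ideal.subset_span (by simp)
  obtain ⟨D', hD', hJ'⟩ := exists_dat_of hgen hg0 hI' (isRelPrime hB hn) hxm hcm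
  have hDφ : ∀ z, D' (φ z) = φ (D z) := by
    intro z
    apply mul_left_cancel₀ hg0
    rw [hD'.eq', h.comm, hD.eq, map_add, map_mul]
    ring
  have hs3 : s = 1 + φ g * α := by
    apply mul_left_cancel₀ hx0
    rw [← hs1, hD.eq, e1, map_add, map_mul, map_add, map_mul, map_mul, hy]
    ring
  have hsY : s * D' θ = c := by
    apply mul_left_cancel₀ hg0
    rw [← hs2, ← hD'.eq']
    ring
  set Y := D' θ with hY
  have hYm : Y ∈ maximalIdeal B := hD'.mem θ
  have hn' : Ideal.span {φ x, Y} = maximalIdeal B := by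
    apply le_antisymm
    · rw [Ideal.span_le]
      rintro _ (rfl | rfl)
      exacts [hxm, hYm]
    · rw [← hn, Ideal.span_le]
      rintro _ (rfl | rfl)
      · exact Ideal.subset_span (by simp)
      · rw [SetLike.mem_coe, ← hsY]
        exact Ideal.mul_mem_left _ _ (Ideal.subset_span (by simp))
  have d1 : D' (φ x) = α * φ x + 0 * Y := by
    rw [hDφ, e1, map_add, map_mul, map_mul, hy]
    ring
  obtain ⟨γ, β, d2⟩ := Ideal.mem_span_pair.1 (by rw [hn']; exact hD'.mem Y : D' Y ∈ Ideal.span {φ x, Y})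
  -- the relation
  obtain ⟨w', w₁', hE1'', hE2'', hrel⟩ := hD'.rel3 hσ'
  have hu' : 1 + D' (φ g) = φ (1 + D g) := by rw [hDφ, map_add, map_one]
  have hw'w : w' = φ w := by
    apply mul_left_cancel₀ (pow_ne_zero 2 hg0)
    have e := congrArg φ hE1
    rw [map_mul, map_pow] at e
    rw [hE1'', hu', h.comm, e]
    simp only [map_add, map_mul, map_one]
  have hw₁' : w₁' = φ w₁ := by
    rw [hE2'', hu', hw'w, hE2, map_mul, map_add φ (g * w), map_mul φ g, hDφ, hDφ]
  rw [hw'w, hw₁'] at hrel
  obtain ⟨-, m3, m4⟩ := matrix_rel hB hD' hn' d1 d2.symm hrel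
  -- the direct computation of the eigenvalue
  have hβ : s * β - (φ (t - p) - 2 * φ q * θ) ∈ maximalIdeal B := by
    obtain ⟨r', hr'⟩ := h.apply_mem (hD.mem r)
    obtain ⟨t', ht'⟩ := h.apply_mem (hD.mem (t - p))
    obtain ⟨q', hq'⟩ := h.apply_mem (hD.mem q)
    have hc' : D' c = (φ (t - p) - 2 * φ q * θ) * Y - φ q * φ g * Y ^ 2 +
        φ x * (r' + σ' θ * t' - σ' θ ^ 2 * q') := by
      have e : c = φ r + φ (t - p) * θ - φ q * (θ * θ) := by rw [hc, hα, map_sub]; ring
      rw [e, hD'.sub, hD'.add, hD'.mul, hD'.mul (φ q), hD'.mul θ θ, hDφ, hDφ, hDφ, hr', ht', hq', ← hY, map_mul,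
        hD'.eq θ, ← hY]
      ring
    have hc'' : D' c = s * D' Y + σ' Y * D' s := by rw [← hsY, hD'.mul]
    have h5 : (s * γ - (r' + σ' θ * t' - σ' θ ^ 2 * q')) * φ x + (s * β - (φ (t - p) - 2 * φ q * θ)) * Y ∈
        maximalIdeal B ^ 2 := by
      have e : (s * γ - (r' + σ' θ * t' - σ' θ ^ 2 * q')) * φ x + (s * β - (φ (t - p) - 2 * φ q * θ)) * Y =
          -(σ' Y * D' s) - φ q * φ g * Y ^ 2 := by
        rw [hc''] at hc'
        linear_combination hc' + s * d2
      rw [e]
      exact Ideal.sub_mem _ (neg_mem (mul_mem_sq (map_mem hYm) (hD'.mem s)))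
        (Ideal.mul_mem_left _ _ (Ideal.pow_mem_pow hYm 2))
    exact (coeff_mem hB hn' h5).2
  -- residues
  have hc₂ : residue B ((1 + D' (φ g)) ^ 2 * σ' (1 + D' (φ g))) = 1 := by
    have e3 : residue B (D' (φ g)) = 0 := (residue_eq_zero_iff _).2 (hD'.mem _)
    have e4 : residue B (σ' (D' (φ g))) = 0 := (residue_eq_zero_iff _).2 (map_mem (hD'.mem _))
    simp only [map_mul, map_pow, map_add, map_one, e3, e4]
    ring
  rw [← residue_eq_zero_iff] at m3 hβ
  rw [map_add, map_add, map_mul (residue B) ((1 + D' (φ g)) ^ 2 * σ' (1 + D' (φ g))), hc₂] at m3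
  simp only [map_add, map_mul, map_sub, map_zero, map_ofNat] at m3 hβ
  have hsr : residue B s = 1 + Γ * a := by rw [hs3, map_add, map_one, map_mul]
  have hs0 : residue B s ≠ 0 := fun h0 => (mem_maximalIdeal _).1 ((residue_eq_zero_iff _).1 h0) hs
  set b := residue B β with hb
  set γ' := residue B γ with hγ'
  have hba : b = a := by
    apply mul_left_cancel₀ hs0
    rw [hsr] at hβ ⊢
    linear_combination hβ + 2 * ha' + r2 - Γ * hchar + a * Γ * hE2' + a * hE1' - hE2' * 1
  have hγ0 : γ' = 0 := by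
    have e5 : γ' * (a * (W₁ + 2 * a)) = 0 := by
      rw [hba] at m3
      linear_combination m3 - γ' * hchar
    exact (mul_eq_zero.1 e5).resolve_right (mul_ne_zero ha0 hdisc')
  refine ⟨φ g, D', Y, hD', hn', α, 0, γ, β, d1, d2.symm, Ideal.zero_mem _, (residue_eq_zero_iff _).1 hγ0,
    (residue_eq_zero_iff _).1 ?_, fun hcon => ha0 ((residue_eq_zero_iff _).2 hcon),
    fun hcon => ha0 ?_⟩
  · rw [map_sub, ← hb, ← ha, hba, sub_self]
  · rw [← hba]
    exact (residue_eq_zero_iff _).2 hcon

end

end Groth.Agent.Models.K364.StepOne
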